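import Groth.Agent.KFlat.Tensor

/-!
# Naturality of `M ⊗ P[0] ≅ M ⊗ P`
-/

set_option autoImplicit false

universe v u

open CategoryTheory CategoryTheory.Limits HomologicalComplex

namespace Groth.Agent.DQC

variable {C : Type u} [Category.{v} C] [Abelian C] (F : C ⥤ C ⥤ C) [F.Additive] [∀ X, (F.obj X).Additive]
  [∀ K L : CochainComplex C ℤ, HasMapBifunctor K L F (ComplexShape.up ℤ)]

/-- `KFlat.singleIso`, natural in the first factor. -/
noncomputable def singleNatIso (P : C) :
    (F.flip.obj P).mapHomologicalComplex (ComplexShape.up ℤ) ≅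
      F.map₂CochainComplex.flip.obj ((single C (ComplexShape.up ℤ) 0).obj P) :=
  NatIso.ofComponents (fun M => KFlat.singleIso F M P) fun {A B} f => by
    refine HomologicalComplex.hom_ext _ _ fun n => ?_
    dsimp [KFlat.singleIso, KFlat.singleX]
    simp
    refine Eq.trans ?_ (Category.assoc _ _ _).symm
    refine Eq.trans ?_ (congrArg (_ ≫ ·) (HomologicalComplex.ι_mapBifunctorMap f (𝟙 _) F (ComplexShape.up ℤ) n 0 n
      (add_zero n)).symm)
    simp
    exact ((reassoc_of% ((F.map (f.f n)).naturality (singleObjXSelf (ComplexShape.up ℤ) 0 P).inv)) _).symm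

end Groth.Agent.DQC
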