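import Groth.Agent.DQC.RHomExact
import Groth.Agent.ModGroth.PerfTensor
import Groth.Agent.DCohPerf.Local
import Groth.Agent.DQC.SingleNat
import Mathlib.Algebra.Homology.BifunctorShift

/-!
# `RHom(E, -)` for `E` finite free in one degree
-/

set_option autoImplicit false
set_option linter.style.haveILetI false

universe u

open CategoryTheory CategoryTheory.Limits CategoryTheory.Pretriangulated AlgebraicGeometry HomologicalComplex

attribute [local instance] HasDerivedCategory.standard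

namespace Groth.Agent.DQC

variable {X : Scheme.{u}}

/-- Transport along a description of `- ⊗ᴸ E` as a left adjoint. -/
theorem homQC_of_natIso (E : CochainComplex X.Modules ℤ)
    (h : ∀ [DCoh.HasLTensorCx E], ∃ (L R : DCoh.D X ⥤ DCoh.D X) (_ : L ⊣ R), Nonempty (DCoh.LTensorCx E ≅ L) ∧
      ∀ Y, DCoh.IsQCohD Y → DCoh.IsQCohD (R.obj Y)) : HomQC E := by
  refine ⟨fun {_ _} Y hY => ?_⟩
  obtain ⟨L, R, adj, ⟨e⟩, hR⟩ := h
  exact isQCohD_of_iso (((adj.ofNatIsoLeft e.symm).rightAdjointUniq (DCoh.RSheafHomAdj E)).app Y) (hR Y hY)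

theorem homQC_of_quasiIso {E E' : CochainComplex X.Modules ℤ} (f : E ⟶ E') (hf : QuasiIso f) (h : HomQC E) :
    HomQC E' := by
  refine homQC_of_natIso E' fun {_} => ?_
  haveI := ModGroth.hasLTensorCx E
  haveI := hasRSheafHom E
  haveI := isIso_tauNT f hf
  exact ⟨_, _, DCoh.RSheafHomAdj E, ⟨(asIso (tauNT f)).symm⟩, fun Y hY => h.qcoh Y hY⟩

theorem homQC_of_quasiIso' {E E' : CochainComplex X.Modules ℤ} (f : E ⟶ E') (hf : QuasiIso f) (h : HomQC E') :
    HomQC E := by
  refine homQC_of_natIso E fun {_} => ?_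
  haveI := ModGroth.hasLTensorCx E'
  haveI := hasRSheafHom E'
  haveI := isIso_tauNT f hf
  exact ⟨_, _, DCoh.RSheafHomAdj E', ⟨asIso (tauNT f)⟩, fun Y hY => h.qcoh Y hY⟩

theorem homQC_of_iso {E E' : CochainComplex X.Modules ℤ} (e : E ≅ E') (h : HomQC E) : HomQC E' :=
  homQC_of_quasiIso e.hom inferInstance h

/-- `RHom(E, -)` depends only on the class of `E`. -/
theorem homQC_of_isoD {E E' : CochainComplex X.Modules ℤ} (e : DCoh.toD X E ≅ DCoh.toD X E') (h : HomQC E) :
    HomQC E' := by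
  obtain ⟨F, s, hs, a, ha⟩ := DerivedCategory.right_fac e.hom
  let Q' : CochainComplex X.Modules ℤ ⥤ DCoh.D X := DerivedCategory.Q
  have hs' : IsIso (Q'.map s) := hs
  have ha' : IsIso (Q'.map a) := by
    rw [show Q'.map a = Q'.map s ≫ e.hom by rw [ha]; exact (IsIso.hom_inv_id_assoc _ _).symm]
    infer_instance
  exact homQC_of_quasiIso a ((DerivedCategory.isIso_Q_map_iff_quasiIso (C := X.Modules) a).1 ha')
    (homQC_of_quasiIso' s ((DerivedCategory.isIso_Q_map_iff_quasiIso (C := X.Modules) s).1 hs') h)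

/-- `RHom(E, -)` up to isomorphism depends only on the class of `E`. -/
theorem nonempty_rsheafHom_congr {E E' : CochainComplex X.Modules ℤ} (e : DCoh.toD X E ≅ DCoh.toD X E')
    [DCoh.HasLTensorCx E] [DCoh.HasRSheafHom E] [DCoh.HasLTensorCx E'] [DCoh.HasRSheafHom E'] :
    Nonempty (DCoh.RSheafHom E ≅ DCoh.RSheafHom E') := by
  obtain ⟨F, s, hs, a, ha⟩ := DerivedCategory.right_fac e.hom
  let Q' : CochainComplex X.Modules ℤ ⥤ DCoh.D X := DerivedCategory.Q
  have hs' : IsIso (Q'.map s) := hs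
  have ha' : IsIso (Q'.map a) := by
    rw [show Q'.map a = Q'.map s ≫ e.hom by rw [ha]; exact (IsIso.hom_inv_id_assoc _ _).symm]
    infer_instance
  haveI := ModGroth.hasLTensorCx F
  haveI := hasRSheafHom F
  haveI := isIso_tauNT a ((DerivedCategory.isIso_Q_map_iff_quasiIso (C := X.Modules) a).1 ha')
  haveI := isIso_tauNT s ((DerivedCategory.isIso_Q_map_iff_quasiIso (C := X.Modules) s).1 hs')
  exact ⟨(((DCoh.RSheafHomAdj F).ofNatIsoLeft (asIso (tauNT s))).rightAdjointUniq (DCoh.RSheafHomAdj E)).symm ≪≫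
    ((DCoh.RSheafHomAdj F).ofNatIsoLeft (asIso (tauNT a))).rightAdjointUniq (DCoh.RSheafHomAdj E')⟩

/-- Descending a natural isomorphism at a K-flat complex to the derived category. -/
noncomputable def ltenIsoOfTensor (E : CochainComplex X.Modules ℤ) [DCoh.HasLTensorCx E] (hE : DCoh.IsKFlat E)
    (L : DCoh.D X ⥤ DCoh.D X) (e : DCoh.tensorCxQ E ≅ DerivedCategory.Q ⋙ L) : DCoh.LTensorCx E ≅ L :=
  letI : Localization.Lifting DerivedCategory.Q (HomologicalComplex.quasiIso X.Modules (ComplexShape.up ℤ))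
      (DCoh.tensorCxQ E) (DCoh.LTensorCx E) := ⟨cIso E hE⟩
  letI : Localization.Lifting DerivedCategory.Q (HomologicalComplex.quasiIso X.Modules (ComplexShape.up ℤ))
      (DerivedCategory.Q ⋙ L) L := ⟨Iso.refl _⟩
  Localization.liftNatIso DerivedCategory.Q (HomologicalComplex.quasiIso X.Modules (ComplexShape.up ℤ))
    (DCoh.tensorCxQ E) (DerivedCategory.Q ⋙ L) _ _ e

lemma isKFlat_shift {E : CochainComplex X.Modules ℤ} (h : DCoh.IsKFlat E) (n : ℤ) : DCoh.IsKFlat (E⟦n⟧) :=
  KFlat.FlatR.shift (DCoh.tensorBi (X := X)) h n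

/-- `A ⊗ E[n] ≅ (A ⊗ E)[n]`, naturally in `A`. -/
noncomputable def tensEShift (E : CochainComplex X.Modules ℤ) (n : ℤ) :
    tensE (E⟦n⟧) ≅ tensE E ⋙ shiftFunctor (CochainComplex X.Modules ℤ) n :=
  NatIso.ofComponents (fun A => (((DCoh.tensorCx (X := X)).obj A).commShiftIso n).app E) fun f =>
    (NatTrans.shift_app_comm ((DCoh.tensorCx (X := X)).map f) n E).symm

theorem homQC_shift {E : CochainComplex X.Modules ℤ} (hE : DCoh.IsKFlat E) (h : HomQC E) (n : ℤ) :
    HomQC (E⟦n⟧) := by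
  refine homQC_of_natIso _ fun {_} => ?_
  haveI := ModGroth.hasLTensorCx E
  haveI := hasRSheafHom E
  refine ⟨_, _, (DCoh.RSheafHomAdj E).comp (shiftEquiv (DCoh.D X) n).toAdjunction,
    ⟨ltenIsoOfTensor _ (isKFlat_shift hE n) _ ?_⟩, fun Y hY => h.qcoh _ (isQCohD_shift hY _)⟩
  exact Functor.isoWhiskerRight (tensEShift E n) _ ≪≫ Functor.associator _ _ _ ≪≫
    Functor.isoWhiskerLeft _ ((DerivedCategory.Q (C := X.Modules)).commShiftIso n) ≪≫
    (Functor.associator _ _ _).symm ≪≫ Functor.isoWhiskerRight (cIso E hE).symm _ ≪≫ Functor.associator _ _ _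

lemma isFinLocFree_congr {M N : X.Modules} (e : M ≅ N) (h : FlatMod.IsFinLocFree M) : FlatMod.IsFinLocFree N :=
  fun x =>
  let ⟨U, n, hx, ⟨i⟩⟩ := h x
  ⟨U, n, hx, ⟨((Scheme.Modules.restrictFunctor U.ι).mapIso e).symm ≪≫ i⟩⟩

lemma isStrictlyPerfect_single {M : X.Modules} (h : FlatMod.IsFinLocFree M) (n : ℤ) :
    DCoh.IsStrictlyPerfect ((single X.Modules (ComplexShape.up ℤ) n).obj M) := by
  refine ⟨⟨n, n, fun i hi => isZero_single_obj_X (ComplexShape.up ℤ) n M i ?_⟩, fun i => ?_⟩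
  · rcases hi with hi | hi <;> omega
  · by_cases hi : i = n
    · subst hi
      exact isFinLocFree_congr (singleObjXSelf (ComplexShape.up ℤ) i M).symm h
    · exact ModGroth.Perf.isFinLocFree_of_isZero (isZero_single_obj_X (ComplexShape.up ℤ) n M i hi)

/-- Degree zero determines the other degrees. -/
theorem homQC_single {M : X.Modules} (hM : FlatMod.IsFinLocFree M)
    (h : HomQC ((single X.Modules (ComplexShape.up ℤ) 0).obj M)) (n : ℤ) :
    HomQC ((single X.Modules (ComplexShape.up ℤ) n).obj M) :=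
  homQC_of_iso (((CochainComplex.singleFunctors X.Modules).shiftIso (-n) n 0 (by omega)).app M)
    (homQC_shift (ModGroth.Perf.isKFlat_of_isStrictlyPerfect (isStrictlyPerfect_single hM 0)) h (-n))

/-- `- ⊗ O ≅ id`. -/
noncomputable def tensorUnitR : (DCoh.tensorBi (X := X)).flip.obj (Coh.structureModule X) ≅ 𝟭 X.Modules :=
  (ModSite.tensorBi X.sheaf).flip.mapIso
      (@asIso _ _ _ _ ((ModGroth.adjn X.sheaf).counit.app (SheafOfModules.unit X.ringCatSheaf))
        (@NatIso.isIso_app_of_isIso _ _ _ _ _ _ (ModGroth.adjn X.sheaf).counit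
          (inferInstanceAs (IsIso (PresheafOfModules.sheafificationAdjunction
            (𝟙 (ModSite.ringSh X.sheaf).obj)).counit)) _)).symm ≪≫
    ModGroth.unitTR (O := X.sheaf)

/-- `A ⊗ O[0] ≅ A`, naturally in `A`. -/
noncomputable def tensEUnit :
    tensE ((single X.Modules (ComplexShape.up ℤ) 0).obj (Coh.structureModule X)) ≅ 𝟭 _ :=
  (singleNatIso (DCoh.tensorBi (X := X)) (Coh.structureModule X)).symm ≪≫
    NatIso.mapHomologicalComplex tensorUnitR (ComplexShape.up ℤ) ≪≫ Functor.mapHomologicalComplexIdIso _ _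

lemma isFinLocFree_structureModule : FlatMod.IsFinLocFree (Coh.structureModule X) :=
  isFinLocFree_congr
    (coproductUniqueIso fun _ : Fin 1 => Coh.structureModule X) (DCohPerf.isFinLocFree_free 1)

theorem homQC_unit : HomQC ((single X.Modules (ComplexShape.up ℤ) 0).obj (Coh.structureModule X)) := by
  refine homQC_of_natIso _ fun {_} => ⟨_, _, Adjunction.id, ⟨ltenIsoOfTensor _
    (ModGroth.Perf.isKFlat_of_isStrictlyPerfect (isStrictlyPerfect_single isFinLocFree_structureModule 0)) _ ?_⟩,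
    fun Y hY => hY⟩
  exact Functor.isoWhiskerRight tensEUnit _ ≪≫ Functor.leftUnitor _ ≪≫ (Functor.rightUnitor _).symm

end Groth.Agent.DQC
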