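import Groth.Agent.DQC.Basic
import Groth.Agent.S9069
import Groth.Agent.DerAdj.CounitSingle
import Groth.Agent.DerAdj.RFTriangle
import Groth.Agent.QCohLib.Affine

/-!
# `D(R) = D_QCoh(Spec R)`
-/

set_option autoImplicit false
set_option linter.style.haveILetI false

universe u

open CategoryTheory CategoryTheory.Limits AlgebraicGeometry CategoryTheory.Pretriangulated CategoryTheory.Abelian
open Opposite

attribute [local instance] HasDerivedCategory.standard

namespace Groth.Agent.DQC

variable (R : CommRingCat.{u})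

/-- The one point category. -/
abbrev Pt : Type u := Discrete PUnit.{u + 1}

/-- The trivial topology on the point. -/
abbrev ptJ : GrothendieckTopology Pt.{u} := ⊥

variable {R}

lemma pt_sieve {U : Pt.{u}} {S : Sieve U} (hS : S ∈ ptJ U) : S = ⊤ := by
  simpa using hS

variable (R)

/-- The generator of `Mod R`. -/
noncomputable def ptGen : RlimLib.Gen ptJ.{u} (ModuleCat.{u} R) where
  P := (Functor.const _).obj (ModuleCat.of R R)
  sep {U F} φ S hS h := by
    have := h (𝟙 U) (by rw [pt_sieve hS]; trivial)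
    simpa using this
  lift {U E F} g hg φ := by
    haveI : Projective (ModuleCat.of R R) := ModuleCat.projective_of_free (Module.Basis.singleton PUnit.{u + 1} R)
    refine ⟨⊤, ptJ.top_mem U, fun V f _ => ⟨@Projective.factorThru _ _ (ModuleCat.of R R) _ _ inferInstance φ g hg, ?_⟩⟩
    exact (@Projective.factorThru_comp _ _ (ModuleCat.of R R) _ _ inferInstance φ g hg).trans (Category.id_comp φ).symm
  gen {M N} φ h := by
    ext x
    have := congrArg (fun z => z.hom (1 : R)) (h ⟨PUnit.unit⟩ (ModuleCat.ofHom (LinearMap.toSpanSingleton R M x)))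
    simpa using this

/-- Global sections of `O_X`-modules on `Spec R` as `R`-modules. -/
noncomputable abbrev Γf : (Spec R).Modules ⥤ ModuleCat.{u} R := moduleSpecΓFunctor (R := R)

instance additive_Γf : (Γf R).Additive := by
  haveI : (Γf R).IsRightAdjoint := (tilde.adjunction (R := R)).isRightAdjoint
  haveI : PreservesLimitsOfSize.{0, 0} (Γf R) := (tilde.adjunction (R := R)).rightAdjoint_preservesLimits
  exact Functor.additive_of_preserves_binary_products _

/-- Maps out of `tilde R` are sections. -/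
noncomputable def ptPush : RlimLib.PushData (ptGen R) (Γf R) where
  Q := (Functor.const _).obj ((tilde.functor R).obj (ModuleCat.of R R))
  a := { app := fun _ => (tilde.adjunction (R := R)).unit.app (ModuleCat.of R R) }
  bij W M := by
    exact ⟨fun z z' h => ((tilde.adjunction (R := R)).homEquiv (ModuleCat.of R R) M).injective
        (((tilde.adjunction (R := R)).homEquiv_unit _ _ z).trans (h.trans ((tilde.adjunction (R := R)).homEquiv_unit _ _ z').symm)),
      fun y => ⟨((tilde.adjunction (R := R)).homEquiv (ModuleCat.of R R) M).symm y,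
        ((tilde.adjunction (R := R)).homEquiv_unit _ _ _).symm.trans (Equiv.apply_symm_apply _ y)⟩⟩

lemma exists_kInj (K : CochainComplex (Spec R).Modules ℤ) :
    ∃ (I : CochainComplex (Spec R).Modules ℤ) (g : K ⟶ I), I.IsKInjective ∧ QuasiIso g :=
  RlimLib.exists_kInj (Spec R).sheaf K

instance hasRF : ((Γf R).mapHomotopyCategory (ComplexShape.up ℤ) ⋙ DerivedCategory.Qh).HasRightDerivedFunctor
    (HomotopyCategory.quasiIso (Spec R).Modules (ComplexShape.up ℤ)) := by
  haveI := TriH.hasPointwiseRightDerivedFunctor_of_bijective (L := DerivedCategory.Qh)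
    (W := HomotopyCategory.quasiIso (Spec R).Modules (ComplexShape.up ℤ))
    (TriH.exists_kInjective_homotopy (exists_kInj R))
    ((Γf R).mapHomotopyCategory (ComplexShape.up ℤ) ⋙ DerivedCategory.Qh)
  infer_instance

/-- `RΓ` with values in `D(R)`. -/
noncomputable abbrev RΓR : DCoh.D (Spec R) ⥤ DerivedCategory (ModuleCat.{u} R) := DerAdj.RFun (Γf R)

/-- The free module `tilde R` is the free module on the whole space. -/
lemma subsingleton_ext_tilde [HasExt.{u + 1} (Spec R).Modules] (M : (Spec R).Modules) (hM : Coh.IsQCoh M)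
    (k : ℕ) (hk : 0 < k) :
    Subsingleton (Ext.{u + 1} ((tilde.functor R).obj (ModuleCat.of R R)) M k) := by
  haveI := subsingleton_ext_free (isAffineOpen_top (Spec R)) M hM k hk
  let O := (Spec R).sheaf
  let T := (tilde.functor R).obj (ModuleCat.of R R)
  let adj := tilde.adjunction (R := R)
  let s₁ : T.val.obj (op ⊤) := (adj.unit.app (ModuleCat.of R R)).hom (1 : R)
  let f : (gen (Spec R)).P.obj ⊤ ⟶ T := (ModGroth.FreeOn.homEquiv O ⊤ T).symm s₁
  have hf : ∀ M : (Spec R).Modules, Function.Bijective fun z : T ⟶ M => f ≫ z := by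
    intro M
    have key : ∀ z : T ⟶ M, ModGroth.FreeOn.homEquiv O ⊤ M (f ≫ z) =
        ((adj.homEquiv (ModuleCat.of R R) M) z).hom (1 : R) := by
      intro z
      refine (ModGroth.FreeOn.homEquiv_comp O ⊤ f z).trans ?_
      refine (congrArg (z.val.app (op ⊤)) (Equiv.apply_symm_apply _ _)).trans ?_
      rw [adj.homEquiv_unit]
      rfl
    refine ⟨fun z z' h => (adj.homEquiv (ModuleCat.of R R) M).injective ?_, fun y => ?_⟩
    · refine ModuleCat.hom_ext (LinearMap.ext_ring ?_)
      rw [← key, ← key]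
      exact congrArg _ h
    · have hw : ∀ (N : ModuleCat.{u} R) (y' : N), ∃ w : ModuleCat.of R R ⟶ N, w.hom (1 : R) = y' :=
        fun N y' => ⟨ModuleCat.ofHom (LinearMap.toSpanSingleton R N y'), LinearMap.toSpanSingleton_apply_one R N y'⟩
      obtain ⟨w, hw'⟩ := hw ((Γf R).obj M) (ModGroth.FreeOn.homEquiv O ⊤ M y)
      refine ⟨(adj.homEquiv _ M).symm w, (ModGroth.FreeOn.homEquiv O ⊤ M).injective ?_⟩
      refine (key _).trans ?_
      rw [Equiv.apply_symm_apply]
      exact hw'
  haveI : IsIso f := by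
    obtain ⟨g, hg⟩ := (hf ((gen (Spec R)).P.obj ⊤)).2 (𝟙 _)
    exact ⟨g, hg, (hf T).1 (show f ≫ g ≫ f = f ≫ 𝟙 _ by rw [← Category.assoc, show f ≫ g = 𝟙 _ from hg]; simp)⟩
  let e : (gen (Spec R)).P.obj ⊤ ≅ (tilde.functor R).obj (ModuleCat.of R R) := asIso f
  refine subsingleton_of_forall_eq 0 fun x => ?_
  have h0 : (Ext.mk₀ e.hom).comp x (zero_add k) = 0 := Subsingleton.elim _ _
  have h1 := congrArg (fun y => (Ext.mk₀ e.inv).comp y (zero_add k)) h0
  simp only [Ext.comp_zero, Ext.mk₀_comp_mk₀_assoc, e.inv_hom_id, Ext.mk₀_id_comp] at h1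
  exact h1

instance preservesZero_RΓR : (RΓR R).PreservesZeroMorphisms := by
  haveI : IsGrothendieckAbelian.{u} (Spec R).Modules :=
    ModGroth.sheaf_isGrothendieckAbelian (ModSite.ringSh (Spec R).sheaf)
  exact RlimLib.preservesZeroMorphisms_RFun (Γf R) (exists_kInj R)

/-- Local representatives for `RΓ`. -/
noncomputable def ptRep : RlimLib.LRep (ptGen R) (RΓR R) := (ptPush R).lRep (exists_kInj R)

/-- `Hᵐ(RΓ E)` vanishes when there are no maps from `tilde R` to `E[m]`. -/
lemma isZero_homology_RΓR (E : DCoh.D (Spec R)) (m : ℤ)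
    (h : ∀ x : (DerivedCategory.singleFunctor _ 0).obj ((tilde.functor R).obj (ModuleCat.of R R)) ⟶ E⟦m⟧, x = 0) :
    IsZero ((DerivedCategory.homologyFunctor (ModuleCat.{u} R) m).obj ((RΓR R).obj E)) := by
  rw [IsZero.iff_id_eq_zero]
  refine (ptGen R).gen _ fun U s => ?_
  obtain ⟨S, hS, hS'⟩ := (ptRep R).lift s
  obtain ⟨x, hx⟩ := hS' (𝟙 U) (by rw [pt_sieve hS]; trivial)
  have hx0 : x = 0 := h x
  subst hx0
  rw [Category.comp_id]
  refine ((Category.id_comp s).symm.trans (hx.symm.trans ?_))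
  exact (ptRep R).σ_zero U E m

lemma hom_tilde_single_eq_zero [HasExt.{u + 1} (Spec R).Modules] (M : (Spec R).Modules) (hM : Coh.IsQCoh M)
    (m : ℤ) (hm : m ≠ 0)
    (x : (DerivedCategory.singleFunctor _ 0).obj ((tilde.functor R).obj (ModuleCat.of R R)) ⟶
      ((DerivedCategory.singleFunctor _ 0).obj M)⟦m⟧) : x = 0 :=
  RlimLib.hom_single_shift_eq_zero _ M 0 m (fun k hk => subsingleton_ext_tilde R M hM k (by omega)) x

lemma isGE_RΓR_single (M : (Spec R).Modules) (hM : Coh.IsQCoh M) :
    ((RΓR R).obj ((DerivedCategory.singleFunctor _ 0).obj M)).IsGE 0 := by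
  haveI : HasExt.{u + 1} (Spec R).Modules := HasExt.standard _
  exact (DerivedCategory.isGE_iff _ _).2 fun i hi =>
    isZero_homology_RΓR R _ i (hom_tilde_single_eq_zero R M hM i (by omega))

lemma isLE_RΓR_single (M : (Spec R).Modules) (hM : Coh.IsQCoh M) :
    ((RΓR R).obj ((DerivedCategory.singleFunctor _ 0).obj M)).IsLE 0 := by
  haveI : HasExt.{u + 1} (Spec R).Modules := HasExt.standard _
  exact (DerivedCategory.isLE_iff _ _).2 fun i hi =>
    isZero_homology_RΓR R _ i (hom_tilde_single_eq_zero R M hM i (by omega))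

/-- `RΓ` sees only a truncation. -/
theorem isIso_RΓR_tge (X : DCoh.D (Spec R)) (hX : DCoh.IsQCohD X) (n : ℕ) (j : ℤ) (hj : -(n : ℤ) ≤ j) :
    IsIso ((DerivedCategory.homologyFunctor (ModuleCat.{u} R) j).map
      ((RΓR R).map (RlimLib.tgeπ (-(n : ℤ)) X))) := by
  haveI : IsGrothendieckAbelian.{u} (Spec R).Modules :=
    ModGroth.sheaf_isGrothendieckAbelian (ModSite.ringSh (Spec R).sheaf)
  haveI : HasExt.{u + 1} (Spec R).Modules := HasExt.standard _
  haveI := RlimLib.hasProduct_nat' (CohCx.truncTower X)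
  refine (ptRep R).isIso_of_stable (isRlimVia_truncTower X hX) j n (fun k hk => ?_) (fun _ => True)
    (fun U => ⟨⊤, ptJ.top_mem U, fun V f _ => ⟨U, f, 𝟙 U, trivial, Category.comp_id f⟩⟩) (fun V _ => ?_) n le_rfl
  · obtain ⟨F, φ, δ, hT, ⟨e⟩⟩ := RlimLib.exists_layer X (-((k + 1 : ℕ) : ℤ)) (-(k : ℤ)) (by omega)
    obtain ⟨c, hc⟩ := DerAdj.exists_distinguished_map (Γf R) (exists_kInj R) _ hT
    have hF : Coh.IsQCoh F := (qc (Spec R)).prop_of_iso e.symm (hX _)
    have hz : ∀ i : ℤ, j ≤ i → IsZero ((DerivedCategory.homologyFunctor (ModuleCat.{u} R) i).obj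
        ((RΓR R).obj ((DerivedCategory.singleFunctor _ (-((k + 1 : ℕ) : ℤ))).obj F))) := fun i hi =>
      isZero_homology_RΓR R _ i fun x => RlimLib.hom_single_shift_eq_zero _ F _ i
        (fun k' hk' => subsingleton_ext_tilde R F hF k' (by omega)) x
    haveI hm := (DerivedCategory.HomologySequence.mono_homologyMap_mor₂_iff _ hc j).2 ((hz j le_rfl).eq_of_src _ _)
    haveI he := (DerivedCategory.HomologySequence.epi_homologyMap_mor₂_iff _ hc j (j + 1) rfl).2
      ((hz (j + 1) (by omega)).eq_of_tgt _ _)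
    exact @isIso_of_mono_of_epi _ _ _ _ _ _ hm he
  · refine ⟨(-j + 1).toNat, fun T hT => ⟨⊤, ptJ.top_mem V, fun W f _ => ?_⟩⟩
    refine ⟨V, f, 𝟙 V, Category.comp_id f, by rw [pt_sieve hT]; trivial, ?_⟩
    have hstep : ∀ (k : ℕ) (m : ℤ), (-j + 1).toNat ≤ k → j ≤ m →
        (∀ y : (DerivedCategory.singleFunctor _ 0).obj ((ptRep R).Q.obj V) ⟶
            (CohCx.truncTower X (k + 1))⟦m⟧, y ≫ (CohCx.truncTowerMap X k)⟦m⟧' = 0 → y = 0) ∧
        ∀ y : (DerivedCategory.singleFunctor _ 0).obj ((ptRep R).Q.obj V) ⟶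
            (CohCx.truncTower X k)⟦m - 1⟧, ∃ y', y' ≫ (CohCx.truncTowerMap X k)⟦m - 1⟧' = y :=
      fun k m hk hm => RlimLib.tgeMap_step X ((ptRep R).Q.obj V) (-((k + 1 : ℕ) : ℤ)) (-(k : ℤ)) (by omega) m
        (fun e he => subsingleton_ext_tilde R _ (hX _) e (by omega))
    refine ⟨fun k hk => (hstep k j hk le_rfl).2, fun k hk => ?_, fun k hk y y' h =>
      sub_eq_zero.1 ((hstep k j hk le_rfl).1 _ (by rw [Preadditive.sub_comp, sub_eq_zero]; exact h))⟩
    have := (hstep k (j + 1) hk (by omega)).2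
    rwa [add_sub_cancel_right] at this

/-- The derived adjunction. -/
noncomputable def adjR : DCoh.tildeD R ⊣ RΓR R :=
  (DerAdj.nonempty_derived_adjunction (tilde.adjunction (R := R)) (exists_kInj R)).some

lemma full_tilde_bij (F G : ModuleCat.{u} R) : Function.Bijective fun φ : F ⟶ G => (tilde.functor R).map φ := by
  exact ⟨fun a b h => (tilde.functor R).map_injective h, fun y => (tilde.functor R).map_surjective y⟩

open ZeroObject in
instance top_isWeakSerre {A : Type (u + 1)} [Category.{u} A] [Abelian A] :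
    WSerre.IsWeakSerre (⊤ : ObjectProperty A) where
  exists_zero := ⟨0, isZero_zero _, trivial⟩
  kernels_le := fun _ _ => trivial
  cokernels_le := fun _ _ => trivial

lemma isIso_counit_single (M : (Spec R).Modules) (hM : Coh.IsQCoh M) :
    IsIso ((adjR R).counit.app (DCoh.inD (Spec R) M)) := by
  haveI := isGE_RΓR_single R M hM
  haveI := isLE_RΓR_single R M hM
  haveI := hM
  haveI : IsIso ((tilde.adjunction (R := R)).counit.app M) :=
    (QCohLib.counitIso M).isIso_hom
  exact DerAdj.Unbounded.isIso_counit_single (tilde.functor R) (adjR R) (tilde.adjunction (R := R)) M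

lemma isIso_unit_single (F : ModuleCat.{u} R) :
    IsIso ((adjR R).unit.app ((DerivedCategory.singleFunctor _ 0).obj F)) := by
  let Y := (DerivedCategory.singleFunctor (ModuleCat.{u} R) 0).obj F
  let e : (DCoh.tildeD R).obj Y ≅ DCoh.inD (Spec R) ((tilde.functor R).obj F) :=
    ((tilde.functor R).mapDerivedCategorySingleFunctor 0).app F
  haveI : IsIso ((adjR R).counit.app ((DCoh.tildeD R).obj Y)) :=
    (NatTrans.isIso_app_iff_of_iso (adjR R).counit e).2
      (isIso_counit_single R _ (QCohLib.isQuasicoherent_tilde_obj F))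
  haveI : IsIso ((DCoh.tildeD R).map ((adjR R).unit.app Y)) :=
    IsIso.of_isIso_fac_right (hh := IsIso.id _) ((adjR R).left_triangle_components Y)
  exact DerAdj.Unbounded.isIso_of_map (tilde.functor R) ⊤ (fun F' G' _ _ => full_tilde_bij R F' G')
    ((adjR R).unit.app Y) (fun _ => trivial) (fun _ => trivial)

/-- **`D(R) = D_QCoh(Spec R)`**: unit and counit are isomorphisms. -/
theorem equivalence :
    (∀ Y : DerivedCategory (ModuleCat.{u} R), DCoh.IsQCohD ((DCoh.tildeD R).obj Y) ∧ IsIso ((adjR R).unit.app Y)) ∧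
    (∀ X : DCoh.D (Spec R), DCoh.IsQCohD X → IsIso ((adjR R).counit.app X)) := by
  have hplus : ∀ (X : DCoh.D (Spec R)) (n : ℤ) [X.IsGE n], WSerre.cohIn (qc (Spec R)) X →
      WSerre.cohIn (⊤ : ObjectProperty (ModuleCat.{u} R)) ((RΓR R).obj X) ∧ IsIso ((adjR R).counit.app X) := by
    intro X n hn hX
    obtain ⟨hc, hi⟩ := (S9069.main (tilde.functor R) (adjR R) (qc (Spec R)) ⊤
      (fun F _ => QCohLib.isQuasicoherent_tilde_obj F)
      (fun M hM => haveI := hM; ⟨_, trivial, ⟨QCohLib.counitIso M⟩⟩)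
      (fun F _ => isIso_unit_single R F)).2 X ⟨hX, n, hn⟩
    exact ⟨hc.1, hi⟩
  obtain ⟨h1, h2⟩ := DerAdj.Unbounded.equivalence (tilde.functor R) (adjR R) (qc (Spec R)) ⊤
    (fun F _ => QCohLib.isQuasicoherent_tilde_obj F) (fun F' G' _ _ => full_tilde_bij R F' G')
    hplus (fun X hX n j hj => isIso_RΓR_tge R X hX n j hj)
  exact ⟨fun Y => h1 Y fun _ => trivial, fun X hX => (h2 X hX).2⟩

theorem full_tildeD : (DCoh.tildeD R).Full := by
  haveI : ∀ Y, IsSplitEpi ((adjR R).unit.app Y) := fun Y => by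
    haveI := ((equivalence R).1 Y).2
    infer_instance
  exact (adjR R).full_L_of_isSplitEpi_unit_app

theorem faithful_tildeD : (DCoh.tildeD R).Faithful := by
  haveI : ∀ Y, Mono ((adjR R).unit.app Y) := fun Y => by
    haveI := ((equivalence R).1 Y).2
    infer_instance
  exact (adjR R).faithful_L_of_mono_unit_app

theorem isQCohD_iff (K : DCoh.D (Spec R)) :
    DCoh.IsQCohD K ↔ ∃ M, Nonempty ((DCoh.tildeD R).obj M ≅ K) := by
  refine ⟨fun h => ?_, ?_⟩
  · haveI := (equivalence R).2 K h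
    exact ⟨_, ⟨asIso ((adjR R).counit.app K)⟩⟩
  · rintro ⟨M, ⟨e⟩⟩ i
    exact (qc (Spec R)).prop_of_iso ((DerivedCategory.homologyFunctor _ i).mapIso e) (((equivalence R).1 M).1 i)

end Groth.Agent.DQC
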