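import Groth.Agent.RlimLib.SitePush
import Groth.Agent.CohVanish.Affine
import Groth.Agent.QCohLib.Closure
import Groth.Prelude.Def_DCoh2
import Groth.Prelude.Def_WeakSerre
import Groth.Agent.InvBasic.QCoh

/-!
# Objects of `D(O_X)` with quasi-coherent cohomology: first properties
-/

set_option autoImplicit false
set_option linter.style.haveILetI false

universe u

open CategoryTheory CategoryTheory.Limits AlgebraicGeometry CategoryTheory.Abelian

attribute [local instance] HasDerivedCategory.standard

namespace Groth.Agent.DQC

variable (X : Scheme.{u})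

/-- Quasi-coherence as a property of objects. -/
abbrev qc : ObjectProperty X.Modules := fun M => Coh.IsQCoh M

lemma qc_of_iso {M N : X.Modules} (h : Coh.IsQCoh M) (e : M ≅ N) : Coh.IsQCoh N := by
  haveI := h
  exact QCohLib.isQuasicoherent_of_iso e

instance isClosedUnderKernels_qc : (qc X).IsClosedUnderKernels where
  kernels_le := by
    intro Z h
    cases h with
    | of_isLimit f k hk hf =>
      haveI := hf.1
      haveI := hf.2
      exact qc_of_iso X (QCohLib.isQuasicoherent_kernel f)
        (limit.isoLimitCone ⟨k, hk⟩)

instance isClosedUnderCokernels_qc : (qc X).IsClosedUnderCokernels where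
  cokernels_le := by
    intro Z h
    cases h with
    | of_isColimit f k hk hf =>
      haveI := hf.1
      haveI := hf.2
      exact qc_of_iso X (QCohLib.isQuasicoherent_cokernel f)
        (colimit.isoColimitCocone ⟨k, hk⟩)

instance isClosedUnderExtensions_qc : (qc X).IsClosedUnderExtensions where
  prop_X₂_of_shortExact {S} hS h₁ h₃ :=
    haveI : S.X₁.IsQuasicoherent := h₁
    haveI : S.X₃.IsQuasicoherent := h₃
    QCohLib.isQuasicoherent_of_extension S hS

instance isWeakSerre_qc : WSerre.IsWeakSerre (qc X) where
  exists_zero := by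
    haveI := InvBasic.isQuasicoherent_structureModule X
    exact ⟨kernel (𝟙 (Coh.structureModule X)), isZero_kernel_of_mono _,
      QCohLib.isQuasicoherent_kernel (𝟙 (Coh.structureModule X))⟩

/-- The generators of `O_X`-modules. -/
noncomputable abbrev gen : RlimLib.Gen (Opens.grothendieckTopology X) X.Modules := RlimLib.modGen X.sheaf

variable {X}

/-- Quasi-coherent modules have no higher `Ext` from free modules on affine opens. -/
lemma subsingleton_ext_free [HasExt.{u + 1} X.Modules] {U : X.Opens} (hU : IsAffineOpen U) (M : X.Modules)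
    (hM : Coh.IsQCoh M) (k : ℕ) (hk : 0 < k) :
    Subsingleton (Ext.{u + 1} ((gen X).P.obj U) M k) := by
  haveI := hM
  haveI : HasExt.{u + 1} (ModSite.Mod X.sheaf) := ‹HasExt.{u + 1} X.Modules›
  haveI : EnoughInjectives (ModSite.Mod X.sheaf) :=
    haveI := ModGroth.sheaf_isGrothendieckAbelian (ModSite.ringSh X.sheaf)
    inferInstance
  obtain ⟨p, rfl⟩ : ∃ p, k = p + 1 := ⟨k - 1, by omega⟩
  exact RlimLib.subsingleton_ext_freeOn X.sheaf U (p + 1) M (CohVanish.subsingleton_EU_of_isAffineOpen M hU p)

/-- An object with quasi-coherent cohomology is the derived limit of its truncations. -/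
theorem isRlimVia_truncTower (E : DCoh.D X) (hE : DCoh.IsQCohD E) [HasProduct (CohCx.truncTower E)] :
    CohCx.IsRlimVia (CohCx.truncTower E) (CohCx.truncTowerMap E) E (CohCx.toTruncTower E) := by
  haveI : IsGrothendieckAbelian.{u} X.Modules := ModGroth.sheaf_isGrothendieckAbelian (ModSite.ringSh X.sheaf)
  haveI : HasExt.{u + 1} X.Modules := HasExt.standard _
  refine (gen X).isRlimVia_of_uniform E (fun U => IsAffineOpen U)
    (RlimLib.covers_of_basis {U : X.Opens | IsAffineOpen U} X.isBasis_affineOpens) fun m => ?_
  exact ⟨(-m).toNat, fun W hW n hn k hk => subsingleton_ext_free hW _ (hE _) k (by omega)⟩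

end Groth.Agent.DQC
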