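import Groth.Agent.DQC.CompactFac
import Groth.Prelude.Def_PerfAux

/-!
# Comparing the forms of compactness
-/

set_option autoImplicit false

open CategoryTheory CategoryTheory.Limits

namespace Groth.Agent.DQC.CompactFac

universe v u w

variable {C : Type u} [Category.{v} C] [Preadditive C]

section

variable {I : Type w} {M : I → C}

/-- Transport along an isomorphism of cofans. -/
lemma finFac_of_iso_pt {c c' : Cofan M} (hc : IsColimit c) (hc' : IsColimit c') (a : c.pt ⟶ c'.pt) [IsIso a]
    (ha : ∀ t, c.inj t ≫ a = c'.inj t) {K : C} (g : K ⟶ c.pt) (h : FinFac hc' (g ≫ a)) : FinFac hc g := by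
  classical
  obtain ⟨F, hF⟩ := h
  have he : e hc F ≫ a = a ≫ e hc' F := Cofan.IsColimit.hom_ext hc _ _ fun t => by
    rw [← Category.assoc, inj_e, reassoc_of% ha, inj_e]
    split_ifs
    · exact ha t
    · exact zero_comp
  exact ⟨F, (cancel_mono a).1 (by rw [Category.assoc, he, ← Category.assoc, hF])⟩

variable {ι : Type v} (σ : ι ≃ I) [HasCoproduct fun s => M (σ s)]

/-- The reindexed cofan. -/
noncomputable abbrev reFan : Cofan M :=
  Cofan.mk (∐ fun s => M (σ s)) fun t =>
    eqToHom (congrArg M (σ.apply_symm_apply t).symm) ≫ Sigma.ι (fun s => M (σ s)) (σ.symm t)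

lemma reFan_inj (s : ι) : (reFan σ).inj (σ s) = Sigma.ι (fun s => M (σ s)) s := by
  have aux : ∀ (s' : ι) (h : s = s') (p : M (σ s) = M (σ s')),
      eqToHom p ≫ Sigma.ι (fun s => M (σ s)) s' = Sigma.ι (fun s => M (σ s)) s := by
    intro s' h p
    subst h
    simp
  exact aux _ (σ.symm_apply_apply s).symm _

/-- The reindexed cofan is colimiting. -/
noncomputable def reFanIsColimit : IsColimit (reFan σ (M := M)) :=
  Cofan.IsColimit.mk _ (fun c => Sigma.desc fun s => c.inj (σ s))
    (fun c t => by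
      obtain ⟨s, rfl⟩ := σ.surjective t
      rw [reFan_inj]
      exact Sigma.ι_desc (f := fun s => M (σ s)) (fun s => c.inj (σ s)) s)
    (fun c m hm => Sigma.hom_ext (f := fun s => M (σ s)) _ _ fun s =>
      ((congrArg (· ≫ m) (reFan_inj σ s)).symm.trans (hm (σ s))).trans
        (Sigma.ι_desc (f := fun s => M (σ s)) (fun s => c.inj (σ s)) s).symm)

/-- Bijectivity from finite factorisations. -/
theorem bijective_of_finFac (K : C) (h : ∀ (c : Cofan M) (hc : IsColimit c) (g : K ⟶ c.pt), FinFac hc g) :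
    Function.Bijective (CohDer.homSumToHomCoprod K fun s => M (σ s)) := by
  classical
  refine ⟨injective_homSum _, fun g => mem_range_of_finFac g ?_⟩
  obtain ⟨F, hF⟩ := h _ (reFanIsColimit σ) g
  refine ⟨F.map σ.symm.toEmbedding, ?_⟩
  suffices he : e (coproductIsCoproduct fun s => M (σ s)) (F.map σ.symm.toEmbedding) = e (reFanIsColimit σ) F by
    show g ≫ e (coproductIsCoproduct fun s => M (σ s)) _ = g
    rw [he, hF]
  refine Sigma.hom_ext _ _ fun s => ?_
  refine (inj_e (coproductIsCoproduct fun s => M (σ s)) _ s).trans (Eq.trans ?_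
    ((congrArg (· ≫ e (reFanIsColimit σ) F) (reFan_inj σ s)).symm.trans rfl).symm)
  rw [inj_e]
  by_cases hs : σ s ∈ F
  · have hm : s ∈ F.map σ.symm.toEmbedding := Finset.mem_map.2 ⟨σ s, hs, σ.symm_apply_apply s⟩
    rw [if_pos hs, if_pos hm, reFan_inj]
    rfl
  · have hm : s ∉ F.map σ.symm.toEmbedding := fun hm => hs (by
      obtain ⟨t, ht, rfl⟩ := Finset.mem_map.1 hm
      simpa using ht)
    rw [if_neg hs, if_neg hm]

/-- Finite factorisations from surjectivity. -/
theorem finFac_of_surjective (K : C) (h : Function.Surjective (CohDer.homSumToHomCoprod K fun s => M (σ s)))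
    {c : Cofan M} (hc : IsColimit c) (g : K ⟶ c.pt) : FinFac hc g := by
  classical
  let a := (hc.coconePointUniqueUpToIso (reFanIsColimit σ)).hom
  refine finFac_of_iso_pt hc (reFanIsColimit σ) a (fun t => hc.comp_coconePointUniqueUpToIso_hom (reFanIsColimit σ) ⟨t⟩) g ?_
  obtain ⟨x, hx⟩ := h (g ≫ a)
  rw [← hx]
  clear hx
  induction x using DirectSum.induction_on with
  | zero => exact ⟨∅, by simp⟩
  | of s f =>
    rw [Compact.hom_of]
    refine ⟨{σ s}, ?_⟩
    rw [Category.assoc, ← reFan_inj σ s, inj_e_of_mem _ (Finset.mem_singleton_self (σ s))]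
  | add x y hx hy => rw [map_add]; exact hx.add _ hy

end

section PerfAux

variable {ι : Type w} {X : ι → C} [HasCoproduct X]

lemma perfAux_of [DecidableEq ι] (K : C) (i : ι) (g : K ⟶ X i) :
    PerfAux.homSumToHomCoprod K X (DirectSum.of _ i g) = g ≫ Sigma.ι X i := by
  classical
  unfold PerfAux.homSumToHomCoprod
  convert DirectSum.toAddMonoid_of (β := fun i => K ⟶ X i) _ i g
  rfl

theorem perfAux_bijective_of_finFac (K : C) (h : ∀ g : K ⟶ ∐ X, FinFac (coproductIsCoproduct X) g) :
    Function.Bijective (PerfAux.homSumToHomCoprod K X) := by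
  classical
  let π : ∀ t, ∐ X ⟶ X t := fun t => Sigma.desc fun s => if hs : s = t then eqToHom (congrArg X hs) else 0
  have key : ∀ t y, PerfAux.homSumToHomCoprod K X y ≫ π t = y t := fun t y => by
    induction y using DirectSum.induction_on with
    | zero => simp
    | of j g =>
      rw [perfAux_of, Category.assoc, Sigma.ι_desc]
      by_cases hj : j = t
      · subst hj
        simp
      · rw [dif_neg hj, comp_zero, DirectSum.of_eq_of_ne _ _ _ (Ne.symm hj)]
    | add a b ha hb => rw [map_add, Preadditive.add_comp, ha, hb]; rfl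
  refine ⟨fun x y hxy => DirectSum.ext fun t => by rw [← key t x, ← key t y, hxy], fun g => ?_⟩
  obtain ⟨F, hF⟩ := h g
  refine ⟨∑ t ∈ F, DirectSum.of _ t (g ≫ π t), ?_⟩
  rw [map_sum]
  simp only [perfAux_of, Category.assoc]
  rw [← Preadditive.comp_sum]
  refine Eq.trans ?_ hF
  congr 1
  refine Sigma.hom_ext _ _ fun s => Eq.trans ?_ (inj_e (coproductIsCoproduct X) F s).symm
  have hπ : ∀ t, Sigma.ι X s ≫ π t ≫ Sigma.ι X t = if s = t then Sigma.ι X s else 0 := fun t => by
    rw [← Category.assoc, Sigma.ι_desc]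
    split_ifs with hs
    · subst hs
      simp
    · exact zero_comp
  rw [Preadditive.comp_sum, Finset.sum_congr rfl fun t _ => hπ t, Finset.sum_ite_eq]
  rfl

theorem finFac_of_perfAux (K : C) (h : Function.Surjective (PerfAux.homSumToHomCoprod K X)) {c : Cofan X}
    (hc : IsColimit c) (g : K ⟶ c.pt) : FinFac hc g := by
  classical
  let a := (hc.coconePointUniqueUpToIso (coproductIsCoproduct X)).hom
  refine finFac_of_iso_pt hc (coproductIsCoproduct X) a
    (fun t => hc.comp_coconePointUniqueUpToIso_hom (coproductIsCoproduct X) ⟨t⟩) g ?_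
  obtain ⟨x, hx⟩ := h (g ≫ a)
  rw [← hx]
  clear hx
  induction x using DirectSum.induction_on with
  | zero => exact ⟨∅, by simp⟩
  | of s f =>
    rw [perfAux_of]
    refine ⟨{s}, ?_⟩
    rw [Category.assoc]
    exact congrArg (f ≫ ·) (inj_e_of_mem (coproductIsCoproduct X) (Finset.mem_singleton_self s))
  | add x y hx hy => rw [map_add]; exact hx.add _ hy

end PerfAux

end Groth.Agent.DQC.CompactFac
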