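import Groth.Agent.Compact.Basic
import Mathlib.CategoryTheory.Limits.Shapes.Products

/-!
# Maps into direct sums that factor through finite partial sums
-/

set_option autoImplicit false

open CategoryTheory CategoryTheory.Limits CategoryTheory.Pretriangulated

namespace Groth.Agent.DQC.CompactFac

universe v v' u u' w

variable {C : Type u} [Category.{v} C] [Preadditive C] {C' : Type u'} [Category.{v'} C'] [Preadditive C']

section

variable {I : Type w} {M : I → C} {c : Cofan M} (hc : IsColimit c)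

open Classical in
/-- The idempotent of a finite partial sum. -/
noncomputable def e (F : Finset I) : c.pt ⟶ c.pt :=
  Cofan.IsColimit.desc hc fun t => if t ∈ F then c.inj t else 0

open Classical in
lemma inj_e (F : Finset I) (t : I) : c.inj t ≫ e hc F = if t ∈ F then c.inj t else 0 :=
  Cofan.IsColimit.fac _ _ t

lemma inj_e_of_mem {F : Finset I} {t : I} (h : t ∈ F) : c.inj t ≫ e hc F = c.inj t := by
  classical
  rw [inj_e, if_pos h]

lemma e_mul {F G : Finset I} (h : F ⊆ G) : e hc F ≫ e hc G = e hc F := by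
  classical
  refine Cofan.IsColimit.hom_ext hc _ _ fun t => ?_
  rw [← Category.assoc, inj_e]
  split_ifs with ht
  · exact inj_e_of_mem hc (h ht)
  · exact zero_comp

/-- A map factors through a finite partial sum. -/
def FinFac {K : C} (g : K ⟶ c.pt) : Prop := ∃ F : Finset I, g ≫ e hc F = g

lemma fix_of_subset {K : C} {g : K ⟶ c.pt} {F G : Finset I} (h : F ⊆ G) (hg : g ≫ e hc F = g) :
    g ≫ e hc G = g := by
  rw [← hg, Category.assoc, e_mul hc h]

lemma FinFac.add {K : C} {g g' : K ⟶ c.pt} (h : FinFac hc g) (h' : FinFac hc g') : FinFac hc (g + g') := by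
  classical
  obtain ⟨F, hF⟩ := h
  obtain ⟨F', hF'⟩ := h'
  exact ⟨F ∪ F', by rw [Preadditive.add_comp, fix_of_subset hc Finset.subset_union_left hF,
    fix_of_subset hc Finset.subset_union_right hF']⟩

lemma FinFac.comp {K K' : C} {g : K ⟶ c.pt} (h : FinFac hc g) (f : K' ⟶ K) : FinFac hc (f ≫ g) := by
  obtain ⟨F, hF⟩ := h
  exact ⟨F, by rw [Category.assoc, hF]⟩

lemma map_e (G : C ⥤ C') [G.PreservesZeroMorphisms] {c' : Cofan fun t => G.obj (M t)} (hc' : IsColimit c')
    (a : G.obj c.pt ⟶ c'.pt) (ha : ∀ t, G.map (c.inj t) ≫ a = c'.inj t)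
    (hG : IsColimit (Cofan.mk (G.obj c.pt) fun t => G.map (c.inj t))) (F : Finset I) :
    G.map (e hc F) ≫ a = a ≫ e hc' F := by
  classical
  refine Cofan.IsColimit.hom_ext hG _ _ fun t => ?_
  show G.map (c.inj t) ≫ _ = G.map (c.inj t) ≫ _
  rw [← Category.assoc, ← G.map_comp, inj_e, reassoc_of% ha, inj_e]
  split_ifs with ht
  · exact ha t
  · rw [G.map_zero, zero_comp]

lemma map_e_self (G : C ⥤ C') [G.PreservesZeroMorphisms]
    (hG : IsColimit (Cofan.mk (G.obj c.pt) fun t => G.map (c.inj t))) (F : Finset I) :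
    G.map (e hc F) = e hG F := by
  have h := map_e hc G hG (𝟙 _) (fun t => Category.comp_id _) hG F
  exact ((Category.comp_id _).symm.trans h).trans (Category.id_comp _)

/-- The partial sum as a sum of projections. -/
lemma mem_range_of_finFac {ι : Type v} {N : ι → C} [HasCoproduct N] {K : C} (g : K ⟶ ∐ N)
    (h : FinFac (coproductIsCoproduct N) g) : ∃ x, CohDer.homSumToHomCoprod K N x = g := by
  classical
  obtain ⟨F, hF⟩ := h
  let π : ∀ t, ∐ N ⟶ N t := fun t => Sigma.desc fun s => if hs : s = t then eqToHom (congrArg N hs) else 0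
  have he : e (coproductIsCoproduct N) F = ∑ t ∈ F, π t ≫ Sigma.ι N t := by
    refine Sigma.hom_ext _ _ fun s => ?_
    refine (inj_e (coproductIsCoproduct N) F s).trans ?_
    have hπ : ∀ t, Sigma.ι N s ≫ π t ≫ Sigma.ι N t = if s = t then Sigma.ι N s else 0 := fun t => by
      rw [← Category.assoc, Sigma.ι_desc]
      split_ifs with hs
      · subst hs
        simp
      · exact zero_comp
    rw [Preadditive.comp_sum, Finset.sum_congr rfl fun t _ => hπ t, Finset.sum_ite_eq]
    rfl
  exact ⟨∑ t ∈ F, DirectSum.of _ t (g ≫ π t), by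
    rw [map_sum]
    simp only [Compact.hom_of, Category.assoc]
    rw [← Preadditive.comp_sum, ← he, hF]⟩

end

/-- The canonical map out of a direct sum of Hom groups is injective. -/
lemma injective_homSum {K : C} {ι : Type v} (N : ι → C) [HasCoproduct N] :
    Function.Injective (CohDer.homSumToHomCoprod K N) := by
  classical
  rw [injective_iff_map_eq_zero]
  intro x hx
  refine DirectSum.ext fun i => ?_
  let π : ∐ N ⟶ N i := Sigma.desc fun s => if hs : s = i then eqToHom (congrArg N hs) else 0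
  have key : ∀ y, CohDer.homSumToHomCoprod K N y ≫ π = y i := fun y => by
    induction y using DirectSum.induction_on with
    | zero => simp
    | of j g =>
      rw [Compact.hom_of, Category.assoc, Sigma.ι_desc]
      by_cases hj : j = i
      · subst hj
        simp
      · rw [dif_neg hj, comp_zero, DirectSum.of_eq_of_ne _ _ _ (Ne.symm hj)]
    | add a b ha hb => rw [map_add, Preadditive.add_comp, ha, hb]; rfl
  rw [← key, hx, zero_comp]
  rfl

section Adj

variable {F : C ⥤ C'} {G : C' ⥤ C} (adj : F ⊣ G) [G.Additive]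

lemma finFac_of_adj {I : Type w} {M : I → C'} {c : Cofan M} (hc : IsColimit c)
    (hG : IsColimit (Cofan.mk (G.obj c.pt) fun t => G.map (c.inj t))) {K : C} (g : F.obj K ⟶ c.pt)
    (h : FinFac hG (adj.homEquiv _ _ g)) : FinFac hc g := by
  obtain ⟨S, hS⟩ := h
  refine ⟨S, (adj.homEquiv _ _).injective ?_⟩
  rw [adj.homEquiv_naturality_right, map_e_self hc G hG S, hS]

end Adj

section Tri

variable [HasZeroObject C] [HasShift C ℤ] [∀ n : ℤ, (shiftFunctor C n).Additive] [Pretriangulated C]

lemma finFac_ext₂ {I : Type w} {M : I → C} {c : Cofan M} (hc : IsColimit c) (T : Triangle C)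
    (hT : T ∈ distTriang C) (h₁ : ∀ g : T.obj₁ ⟶ c.pt, FinFac hc g) (h₃ : ∀ g : T.obj₃ ⟶ c.pt, FinFac hc g)
    (g : T.obj₂ ⟶ c.pt) : FinFac hc g := by
  obtain ⟨F, hF⟩ := h₁ (T.mor₁ ≫ g)
  obtain ⟨k, hk⟩ := T.yoneda_exact₂ hT (g - g ≫ e hc F)
    (by rw [Preadditive.comp_sub, ← Category.assoc, hF, sub_self])
  have h : FinFac hc ((g - g ≫ e hc F) + g ≫ e hc F) :=
    FinFac.add hc (hk ▸ (h₃ k).comp hc _) ⟨F, by rw [Category.assoc, e_mul hc subset_rfl]⟩
  rwa [sub_add_cancel] at h

end Tri

end Groth.Agent.DQC.CompactFac
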