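import Groth.Agent.DQC.CompactQC
import Groth.Agent.DQC.CompactConv
import Groth.Agent.DRingPC.Compact
import Groth.Agent.DCohPerf.TildePC
import Groth.Agent.DQCPush.Sums

/-!
# Compact objects of `D_QCoh` are perfect
-/

set_option autoImplicit false
set_option linter.style.haveILetI false

universe u

open CategoryTheory CategoryTheory.Limits CategoryTheory.Pretriangulated AlgebraicGeometry

attribute [local instance] HasDerivedCategory.standard

namespace Groth.Agent.DQC

open CompactFac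

variable {X Y : Scheme.{u}}

/-- Maps into sums of objects with quasi-coherent cohomology factor through finite partial sums. -/
def FacQC (K : DCoh.D X) : Prop :=
  ∀ (I : Type u) (M : I → DCoh.D X), (∀ t, DCoh.IsQCohD (M t)) →
    ∀ (c : Cofan M) (hc : IsColimit c) (g : K ⟶ c.pt), FinFac hc g

theorem FacQC.of_iso {K L : DCoh.D X} (e : K ≅ L) (h : FacQC K) : FacQC L := fun I M hM c hc g => by
  have := (h I M hM c hc (e.hom ≫ g)).comp hc e.inv
  rwa [e.inv_hom_id_assoc] at this

theorem facQC_rDj (j : Y ⟶ X) [IsOpenImmersion j] [QuasiCompact j] {K : DCoh.D X} (h : FacQC K) :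
    FacQC ((rDj j).obj K) := by
  haveI := ModGroth.Stalk.hasLpull j
  haveI := DQCPush.hasRpush j
  obtain ⟨adj⟩ := DerAdj.nonempty_Lpull_adj_Rpush j
  haveI : (DCoh.Lpull j).Additive := additive_of_adj adj
  haveI : (DCoh.Rpush j).Additive := adj.right_adjoint_additive
  obtain ⟨P, hP, -, ⟨eP⟩⟩ := ModGroth.Amp.exists_rep K
  let e : (DCoh.Lpull j).obj K ≅ (rDj j).obj K :=
    (DCoh.Lpull j).mapIso eP.symm ≪≫ ModGroth.Stalk.lpullValueIso j hP ≪≫
      DerivedCategory.Q.mapIso
        (((NatIso.mapHomologicalComplex (Scheme.Modules.restrictFunctorIsoPullback j) (ComplexShape.up ℤ)).app P).symm) ≪≫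
      (rDjIso j P).symm ≪≫ (rDj j).mapIso eP
  refine FacQC.of_iso e fun I M hM c hc g => ?_
  haveI : HasCoproduct M := ⟨⟨c, hc⟩⟩
  haveI := DQCPush.hasCoproduct_D (fun t => (DCoh.Rpush j).obj (M t))
  haveI : IsIso (sigmaComparison (DCoh.Rpush j) M) :=
    DQCPush.isIso_sigmaDesc j M (fun i => DQCPush.preservesColimit_HD_Rpush_qcoh j M hM i)
  haveI : PreservesColimit (Discrete.functor M) (DCoh.Rpush j) := PreservesCoproduct.of_iso_comparison _ _
  exact finFac_of_adj adj hc (isColimitCofanMkObjOfIsColimit (DCoh.Rpush j) M c.inj hc) g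
    (h I _ (fun t => DQCPush.isQCohD_Rpush j _ (hM t)) _ _ _)

theorem isPerfect_of_facQC_affine (R : CommRingCat.{u}) {K : DCoh.D (Spec R)} (hK : DCoh.IsQCohD K) (h : FacQC K) :
    DCoh.IsPerfect K := by
  obtain ⟨L, ⟨eL⟩⟩ := (isQCohD_iff R K).1 hK
  haveI := faithful_tildeD R
  haveI : PreservesColimitsOfSize.{u, u} (DCoh.tildeD R) := (adjR R).leftAdjoint_preservesColimits
  haveI : (DCoh.tildeD R).Additive := inferInstance
  refine DCohPerf.isPerfect_of_iso (DCohPerf.isPerfect_tildeD (DRingPC.isPerfect_of_compactD ?_)) eL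
  intro I M c hc g
  have hG := isColimitCofanMkObjOfIsColimit (DCoh.tildeD R) M c.inj hc
  obtain ⟨F, hF⟩ := h I (fun t => (DCoh.tildeD R).obj (M t)) (fun t => ((equivalence R).1 (M t)).1) _ hG
    (eL.inv ≫ (DCoh.tildeD R).map g)
  refine ⟨F, (DCoh.tildeD R).map_injective ?_⟩
  rw [Functor.map_comp, map_e_self hc (DCoh.tildeD R) hG F]
  rw [← cancel_epi eL.inv, ← Category.assoc]
  exact hF

/-- Compact objects among those with quasi-coherent cohomology are perfect. -/
theorem isPerfect_of_facQC [QuasiSeparatedSpace X] {K : DCoh.D X} (hK : DCoh.IsQCohD K) (h : FacQC K) :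
    DCoh.IsPerfect K := by
  rw [DCohPerf.isPerfect_iff]
  intro x
  obtain ⟨V, hV⟩ := QCohLib.exists_affine_mem x
  have hV' : IsAffineOpen V.1 := V.2
  let j := hV'.fromSpec
  haveI : QuasiCompact j := inferInstance
  have hp := isPerfect_of_facQC_affine Γ(X, V.1) (isQCohD_restrict j hK) (facQC_rDj j h)
  obtain ⟨y, hy⟩ : x ∈ Set.range j.base := by rw [hV'.range_fromSpec]; exact hV
  obtain ⟨W, j', hj', w, hw, E, hE, ⟨e⟩⟩ := (DCohPerf.isPerfect_iff _).1 hp y
  haveI := hj'
  exact ⟨W, j' ≫ j, inferInstance, w, (congrArg j.base hw).trans hy, E, hE,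
    ⟨e ≪≫ ((DCohPerf.RDComp j' j).app K).symm⟩⟩

theorem facQC_of_isPerfect [CompactSpace X] [QuasiSeparatedSpace X] {K : DCoh.D X} (hK : DCoh.IsPerfect K) :
    FacQC K := fun _ _ hM _ hc g => finFac_qc_of_isPerfect K hK hM hc g

end Groth.Agent.DQC
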