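import Groth.Agent.DQC.RHomPerfect
import Groth.Agent.CplxFactor.Basic

/-!
# Amplitude bounds and `RHom(K, -)` for pseudo-coherent `K`
-/

set_option autoImplicit false
set_option linter.style.haveILetI false

universe u

open CategoryTheory CategoryTheory.Limits CategoryTheory.Pretriangulated AlgebraicGeometry HomologicalComplex
open scoped ZeroObject

attribute [local instance] HasDerivedCategory.standard

namespace Groth.Agent.DQC

variable {X : Scheme.{u}}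

/-- Bounded above objects have bounded above flat representatives. -/
theorem exists_flat_rep_isLE (C : DCoh.D X) (c : ℤ) [C.IsLE c] :
    ∃ P : CochainComplex X.Modules ℤ, P.IsStrictlyLE c ∧ DCoh.IsKFlat P ∧ Nonempty (DCoh.toD X P ≅ C) := by
  obtain ⟨L, _, ⟨e⟩⟩ := C.exists_iso_Q_obj_of_isLE c
  haveI : (0 : CochainComplex X.Modules ℤ).IsStrictlyLE c :=
    (CochainComplex.isStrictlyLE_iff _ _).2 fun i _ =>
      (HomologicalComplex.eval X.Modules (ComplexShape.up ℤ) i).map_isZero (isZero_zero _)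
  obtain ⟨P, j, π, hP, -, hπ, -, hW⟩ := CplxFactor.exists_factor (P := fun M : X.Modules => FlatMod.IsFlat M)
    ⟨_, isZero_zero _, ModGroth.Perf.isFlat_of_isFinLocFree (ModGroth.Perf.isFinLocFree_of_isZero (isZero_zero _))⟩
    (fun M => by
      obtain ⟨K, q, -, hfl, -, he⟩ :=
        ModGroth.scheme_exists_resolution ((single X.Modules (ComplexShape.up ℤ) 0).obj M)
      exact ⟨K.X 0, q.f 0 ≫ (singleObjXSelf (ComplexShape.up ℤ) 0 M).hom, hfl 0, by
        haveI := he 0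
        infer_instance⟩)
    (0 : (0 : CochainComplex X.Modules ℤ) ⟶ L) c
  haveI := ModGroth.Amp.isIso_Q_map π hπ
  refine ⟨P, hP, ModGroth.scheme_isKFlat_of_boundedAbove P c hP fun i => ?_,
    ⟨asIso ((DerivedCategory.Q : _ ⥤ DCoh.D X).map π) ≪≫ e.symm⟩⟩
  obtain ⟨W, e', hW', -⟩ := hW i
  have hz := (HomologicalComplex.eval X.Modules (ComplexShape.up ℤ) i).map_isZero
    (isZero_zero (CochainComplex X.Modules ℤ))
  let ir : W ≅ (0 : CochainComplex X.Modules ℤ).X i ⊞ W :=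
    { hom := biprod.inr, inv := biprod.snd, hom_inv_id := biprod.inr_snd,
      inv_hom_id := biprod.hom_ext' _ _ (hz.eq_of_src _ _) (by simp) }
  exact (ModGroth.isFlat_iff_flatMod _).1 (ModGroth.isFlat_of_iso (O := X.sheaf)
    (ir ≪≫ e'.symm)
    ((ModGroth.isFlat_iff_flatMod _).2 hW'))

/-- `RHom(C, -)` raises degrees when `C` is bounded above. -/
theorem isGE_rsheafHom (E : CochainComplex X.Modules ℤ) [DCoh.HasLTensorCx E] [DCoh.HasRSheafHom E]
    (c : ℤ) [E.IsStrictlyLE c] (hE : DCoh.IsKFlat E) (Y : DCoh.D X) (r : ℤ) [Y.IsGE r] :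
    ((DCoh.RSheafHom E).obj Y).IsGE (r - c) := by
  let t : Triangulated.TStructure (DCoh.D X) := DerivedCategory.TStructure.t
  refine (t.isGE_iff_isZero_truncLE_obj (r - c - 1) (r - c) (by omega) _).2 ?_
  let A := (t.truncLE (r - c - 1)).obj ((DCoh.RSheafHom E).obj Y)
  haveI : A.IsLE (r - c - 1) := t.isLE_truncLE_obj _ _ _
  rw [IsZero.iff_id_eq_zero]
  refine t.to_truncLE_obj_ext ?_
  obtain ⟨L, hL, ⟨e⟩⟩ := A.exists_iso_Q_obj_of_isLE (r - c - 1)
  have hT : (((DCoh.tensorCx (X := X)).obj L).obj E).IsStrictlyLE (r - 1) :=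
    (CochainComplex.isStrictlyLE_iff _ _).2 fun i hi => (IsZero.iff_id_eq_zero _).2
      (mapBifunctor.hom_ext fun p q h => by
        have h' : p + q = i := h
        refine IsZero.eq_of_src ?_ _ _
        by_cases hp : r - c - 1 < p
        · exact ((DCoh.tensorBi (X := X)).map_isZero (CochainComplex.isZero_of_isStrictlyLE L _ p hp)).obj _
        · exact Functor.map_isZero _ (CochainComplex.isZero_of_isStrictlyLE E c q (by omega)))
  haveI : ((DCoh.LTensorCx E).obj A).IsLE (r - 1) := by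
    haveI : (DCoh.toD X (((DCoh.tensorCx (X := X)).obj L).obj E)).IsLE (r - 1) :=
      (DerivedCategory.isLE_Q_obj_iff _ _).2 inferInstance
    exact t.isLE_of_iso (X := DCoh.toD X (((DCoh.tensorCx (X := X)).obj L).obj E))
      (((cIso E hE).app L).symm ≪≫ (DCoh.LTensorCx E).mapIso e.symm) _
  exact ((DCoh.RSheafHomAdj E).homEquiv _ _).symm.injective
    ((t.zero _ (r - 1) r (by omega)).trans (t.zero _ (r - 1) r (by omega)).symm)

theorem qc_HD_of_isGE {K : DCoh.D X} (r j : ℤ) [K.IsGE r] (h : j < r) : Coh.IsQCoh (DCoh.HD K j) :=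
  (qc X).prop_of_isZero (K.isZero_of_isGE r j h)

/-- The range in which `RHom(K, -)` of an `n`-pseudo-coherent `K` stays quasi-coherent. -/
theorem isQCoh_HD_rsheafHom_of_pc (K : CochainComplex X.Modules ℤ) (n : ℤ)
    (hK : DCoh.IsPseudoCoherentD n (DCoh.toD X K)) [DCoh.HasLTensorCx K] [DCoh.HasRSheafHom K]
    (Y : DCoh.D X) (hY : DCoh.IsQCohD Y) (r : ℤ) [Y.IsGE r] (j : ℤ) (hj : j < r - n) :
    Coh.IsQCoh (DCoh.HD ((DCoh.RSheafHom K).obj Y) j) := by
  obtain ⟨P, q, hP, -, hq, -⟩ := ModGroth.scheme_exists_resolution K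
  haveI := ModGroth.hasLTensorCx P
  haveI := hasRSheafHom P
  haveI := isIso_tauNT q hq
  haveI := ModGroth.Amp.isIso_Q_map q hq
  refine (qc X).prop_of_iso ((DerivedCategory.homologyFunctor X.Modules j).mapIso
    ((((DCoh.RSheafHomAdj P).ofNatIsoLeft (asIso (tauNT q))).rightAdjointUniq (DCoh.RSheafHomAdj K)).app Y)) ?_
  refine QCohLib.isQuasicoherent_of_cover (ι := X)
    (fun x => ((ModGroth.Perf.isPseudoCoherentD_iff _ _).1 hK x).choose.ι)
    (fun x => ⟨x, ⟨⟨x, ((ModGroth.Perf.isPseudoCoherentD_iff _ _).1 hK x).choose_spec.1⟩, rfl⟩⟩) fun x => ?_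
  obtain ⟨E, α, hE, hα⟩ := ((ModGroth.Perf.isPseudoCoherentD_iff _ _).1 hK x).choose_spec.2
  generalize ((ModGroth.Perf.isPseudoCoherentD_iff _ _).1 hK x).choose = V at E α hE hα ⊢
  haveI := ModGroth.hasLTensorCx ((DCoh.restrictCx V).obj P)
  haveI := hasRSheafHom ((DCoh.restrictCx V).obj P)
  refine (qc _).prop_of_iso ((DerivedCategory.homologyFunctor _ j).mapIso ((rhomRestrIso V P hP).app Y).symm ≪≫
    (DerAdj.homology_mapDerivedCategory (Scheme.Modules.restrictFunctor V.ι) _ j).some) ?_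
  -- on `V`
  let K' := DCoh.toD (V : Scheme.{u}) ((DCoh.restrictCx V).obj P)
  let eK : K' ≅ (ModGroth.Perf.rD V).obj (DCoh.toD X K) :=
    ModGroth.Perf.rDIso V (asIso ((DerivedCategory.Q : _ ⥤ DCoh.D X).map q))
  obtain ⟨C, g, δ, hT⟩ := distinguished_cocone_triangle (α ≫ eK.inv)
  have hα' : ModGroth.Perf.HCond n (α ≫ eK.inv) := by
    have h := hα.comp_iso (𝟙 _) eK.inv
    rwa [Category.id_comp] at h
  haveI : C.IsLE (n - 1) := (DerivedCategory.isLE_iff _ _).2 fun i hi =>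
    ((ModGroth.Perf.cond_iff hT n).1 hα') i (by omega)
  haveI : ((shiftFunctor (DCoh.D (V : Scheme.{u})) (-1 : ℤ)).obj C).IsLE n :=
    DerivedCategory.TStructure.t.isLE_shift C (n - 1) (-1) n (by omega)
  obtain ⟨R, hR, hRk, ⟨eR⟩⟩ := exists_flat_rep_isLE ((shiftFunctor (DCoh.D (V : Scheme.{u})) (-1 : ℤ)).obj C) n
  have hT' := inv_rot_of_distTriang _ hT
  obtain ⟨P₂, s, hs, a, ha⟩ := DerivedCategory.right_fac (eR.hom ≫ (Triangle.mk (α ≫ eK.inv) g δ).invRotate.mor₁)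
  obtain ⟨P₃, q₃, hP₃, -, hq₃, -⟩ := ModGroth.scheme_exists_resolution P₂
  let Q' : CochainComplex (V : Scheme.{u}).Modules ℤ ⥤ DCoh.D (V : Scheme.{u}) := DerivedCategory.Q
  have hs' : IsIso (Q'.map s) := hs
  have hq₃' : IsIso (Q'.map q₃) := ModGroth.Amp.isIso_Q_map q₃ hq₃
  let φ : P₃ ⟶ E := q₃ ≫ a
  have hEk := ModGroth.Perf.isKFlat_of_isStrictlyPerfect hE
  let Mc := CochainComplex.mappingCone φ
  have hMk : DCoh.IsKFlat Mc := KFlat.FlatR.mappingCone (DCoh.tensorBi (X := (V : Scheme.{u}))) φ hP₃ hEk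
  let e₃ := isoTriangleOfIso₁₂ _ _ (DerivedCategory.mappingCone_triangle_distinguished φ) hT'
    (@asIso _ _ _ _ (Q'.map q₃) hq₃' ≪≫ @asIso _ _ _ _ (Q'.map s) hs' ≪≫ eR) (Iso.refl _) (by
      change Q'.map φ ≫ 𝟙 _ = _
      rw [Category.comp_id, Q'.map_comp]
      simp only [Iso.trans_hom, asIso_hom, Category.assoc]
      refine congrArg (_ ≫ ·) ?_
      exact ((congrArg (Q'.map s ≫ ·) ha).trans (IsIso.hom_inv_id_assoc (Q'.map s) (Q'.map a))).symm)
  let eM : Q'.obj Mc ≅ K' := Triangle.π₃.mapIso e₃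
  -- compare `RHom(P|V, -)` with `RHom(Mc, -)`
  obtain ⟨P₄, s₄, hs₄, a₄, ha₄⟩ := DerivedCategory.right_fac eM.hom
  haveI : IsIso (Q'.map s₄) := hs₄
  haveI : IsIso (Q'.map a₄) := by
    rw [show Q'.map a₄ = Q'.map s₄ ≫ eM.hom by rw [ha₄]; exact (IsIso.hom_inv_id_assoc _ _).symm]
    infer_instance
  haveI := ModGroth.hasLTensorCx P₄
  haveI := hasRSheafHom P₄
  haveI := ModGroth.hasLTensorCx Mc
  haveI := hasRSheafHom Mc
  haveI := isIso_tauNT s₄ ((DerivedCategory.isIso_Q_map_iff_quasiIso (C := (V : Scheme.{u}).Modules) s₄).1 hs₄)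
  haveI := isIso_tauNT a₄ ((DerivedCategory.isIso_Q_map_iff_quasiIso (C := (V : Scheme.{u}).Modules) a₄).1
    (inferInstanceAs (IsIso (Q'.map a₄))))
  let YV := (ModGroth.Perf.rD V).obj Y
  have hYV : DCoh.IsQCohD YV := isQCohD_rD V hY
  haveI : YV.IsGE r := DerAdj.isGE_mapDerivedCategory (Scheme.Modules.restrictFunctor V.ι) Y r
  refine (qc _).prop_of_iso ((DerivedCategory.homologyFunctor _ j).mapIso
    ((((DCoh.RSheafHomAdj P₄).ofNatIsoLeft (asIso (tauNT s₄))).rightAdjointUniq (DCoh.RSheafHomAdj Mc)).app YV).symm ≪≫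
    (DerivedCategory.homologyFunctor _ j).mapIso (((Adjunction.rightAdjointUniq (DCoh.RSheafHomAdj P₄)
        ((DCoh.RSheafHomAdj _).ofNatIsoLeft (asIso (tauNT a₄)).symm))).app YV)) ?_
  -- the five term sequence
  let S := CochainComplex.mappingCone.triangleRotateShortComplex φ
  haveI := ModGroth.hasLTensorCx S.X₁
  haveI := hasRSheafHom S.X₁
  haveI := ModGroth.hasLTensorCx S.X₃
  haveI := hasRSheafHom S.X₃
  haveI : DCoh.HasLTensorCx S.X₂ := ModGroth.hasLTensorCx Mc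
  haveI : DCoh.HasRSheafHom S.X₂ := hasRSheafHom Mc
  have qE : HomQC S.X₁ := homQC_of_isStrictlyPerfect hE
  have h₃k : DCoh.IsKFlat S.X₃ := isKFlat_shift hP₃ 1
  haveI := ModGroth.hasLTensorCx (R⟦(1 : ℤ)⟧)
  haveI := hasRSheafHom (R⟦(1 : ℤ)⟧)
  haveI : (R⟦(1 : ℤ)⟧).IsStrictlyLE (n - 1) := R.isStrictlyLE_shift n 1 (n - 1) (by omega)
  have hqs : QuasiIso (q₃ ≫ s) :=
    haveI := hq₃
    haveI : QuasiIso s := (DerivedCategory.isIso_Q_map_iff_quasiIso (C := (V : Scheme.{u}).Modules) s).1 hs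
    inferInstance
  have hqs' : QuasiIso ((shiftFunctor (CochainComplex (V : Scheme.{u}).Modules ℤ) (1 : ℤ)).map (q₃ ≫ s)) :=
    haveI := hqs
    inferInstance
  haveI := isIso_tauNT (E := S.X₃) (E' := R⟦(1 : ℤ)⟧) ((shiftFunctor _ (1 : ℤ)).map (q₃ ≫ s)) hqs'
  let e₅ : DCoh.RSheafHom S.X₃ ≅ DCoh.RSheafHom (R⟦(1 : ℤ)⟧) :=
    ((DCoh.RSheafHomAdj S.X₃).ofNatIsoLeft (asIso (tauNT (E := S.X₃) (E' := R⟦(1 : ℤ)⟧)
      ((shiftFunctor _ (1 : ℤ)).map (q₃ ≫ s))))).rightAdjointUniq (DCoh.RSheafHomAdj _)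
  have hvan : ∀ (Z : DCoh.D (V : Scheme.{u})) (r' : ℤ), Z.IsGE r' → j < r' - (n - 1) →
      Coh.IsQCoh (DCoh.HD ((DCoh.RSheafHom S.X₃).obj Z) j) := fun Z r' _ hj' => by
    haveI := isGE_rsheafHom (R⟦(1 : ℤ)⟧) (n - 1) (isKFlat_shift hRk 1) Z r'
    exact (qc _).prop_of_iso ((DerivedCategory.homologyFunctor _ j).mapIso (e₅.app Z)).symm
      (qc_HD_of_isGE (K := (DCoh.RSheafHom (R⟦(1 : ℤ)⟧)).obj Z) (r' - (n - 1)) j hj')
  exact qc_middle (qc _) S (CochainComplex.mappingCone.triangleRotateShortComplexSplitting φ) hEk hMk h₃k YV j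
    (qE.qcoh _ (isQCohD_shift hYV _) j) (hvan YV r inferInstance (by omega)) (qE.qcoh _ hYV j)
    (hvan _ (r - 1) (DerivedCategory.TStructure.t.isGE_shift YV r 1 (r - 1) (by omega)) (by omega))

end Groth.Agent.DQC
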