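import Groth.Agent.DQC.RHomPerfect
import Groth.Agent.DQCPush.Local
import Groth.Agent.DQCPush.Window

/-!
# Upper bounds on `RHom(K, -)` for perfect `K`
-/

set_option autoImplicit false
set_option linter.style.haveILetI false

universe u

open CategoryTheory CategoryTheory.Limits CategoryTheory.Pretriangulated AlgebraicGeometry HomologicalComplex

attribute [local instance] HasDerivedCategory.standard

namespace Groth.Agent.DQC

variable {X : Scheme.{u}}

/-- Vanishing above `N`. -/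
def HighZero (N : ℤ) (Y : DCoh.D X) : Prop := ∀ i, N < i → IsZero (DCoh.HD Y i)

theorem HighZero.of_iso {N : ℤ} {Y Y' : DCoh.D X} (e : Y ≅ Y') (h : HighZero N Y) : HighZero N Y' := fun i hi =>
  (h i hi).of_iso ((DerivedCategory.homologyFunctor X.Modules i).mapIso e.symm)

theorem HighZero.shift {N : ℤ} {Y : DCoh.D X} (h : HighZero N Y) (n : ℤ) :
    HighZero (N - n) ((shiftFunctor (DCoh.D X) n).obj Y) := fun i hi =>
  (h (n + i) (by omega)).of_iso (((DerivedCategory.homologyFunctor X.Modules 0).shiftIso n i (n + i) rfl).app Y)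

/-- `RHom(E, -)` raises upper bounds by at most `c`. -/
structure HomLE (c : ℤ) (E : CochainComplex X.Modules ℤ) : Prop where
  le : ∀ [DCoh.HasLTensorCx E] [DCoh.HasRSheafHom E] (Y : DCoh.D X) (N : ℤ),
    HighZero N Y → HighZero (N + c) ((DCoh.RSheafHom E).obj Y)

theorem HomLE.mono {c c' : ℤ} {E : CochainComplex X.Modules ℤ} (hc : c ≤ c') (h : HomLE c E) : HomLE c' E :=
  ⟨fun {_ _} Y N hY i hi => h.le Y N hY i (by omega)⟩

theorem homLE_of_natIso {c : ℤ} (E : CochainComplex X.Modules ℤ)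
    (h : ∀ [DCoh.HasLTensorCx E], ∃ (L R : DCoh.D X ⥤ DCoh.D X) (_ : L ⊣ R), Nonempty (DCoh.LTensorCx E ≅ L) ∧
      ∀ Y N, HighZero N Y → HighZero (N + c) (R.obj Y)) : HomLE c E := by
  refine ⟨fun {_ _} Y N hY => ?_⟩
  obtain ⟨L, R, adj, ⟨e⟩, hR⟩ := h
  exact (hR Y N hY).of_iso (((adj.ofNatIsoLeft e.symm).rightAdjointUniq (DCoh.RSheafHomAdj E)).app Y)

theorem homLE_of_quasiIso {c : ℤ} {E E' : CochainComplex X.Modules ℤ} (f : E ⟶ E') (hf : QuasiIso f) (h : HomLE c E) :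
    HomLE c E' := by
  refine homLE_of_natIso E' fun {_} => ?_
  haveI := ModGroth.hasLTensorCx E
  haveI := hasRSheafHom E
  haveI := isIso_tauNT f hf
  exact ⟨_, _, DCoh.RSheafHomAdj E, ⟨(asIso (tauNT f)).symm⟩, fun Y N hY => h.le Y N hY⟩

theorem homLE_of_quasiIso' {c : ℤ} {E E' : CochainComplex X.Modules ℤ} (f : E ⟶ E') (hf : QuasiIso f) (h : HomLE c E') :
    HomLE c E := by
  refine homLE_of_natIso E fun {_} => ?_
  haveI := ModGroth.hasLTensorCx E'
  haveI := hasRSheafHom E'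
  haveI := isIso_tauNT f hf
  exact ⟨_, _, DCoh.RSheafHomAdj E', ⟨asIso (tauNT f)⟩, fun Y N hY => h.le Y N hY⟩

theorem homLE_of_iso {c : ℤ} {E E' : CochainComplex X.Modules ℤ} (e : E ≅ E') (h : HomLE c E) : HomLE c E' :=
  homLE_of_quasiIso e.hom inferInstance h

theorem homLE_of_isoD {c : ℤ} {E E' : CochainComplex X.Modules ℤ} (e : DCoh.toD X E ≅ DCoh.toD X E') (h : HomLE c E) :
    HomLE c E' := by
  obtain ⟨F, s, hs, a, ha⟩ := DerivedCategory.right_fac e.hom
  let Q' : CochainComplex X.Modules ℤ ⥤ DCoh.D X := DerivedCategory.Q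
  have hs' : IsIso (Q'.map s) := hs
  have ha' : IsIso (Q'.map a) := by
    rw [show Q'.map a = Q'.map s ≫ e.hom by rw [ha]; exact (IsIso.hom_inv_id_assoc _ _).symm]
    infer_instance
  exact homLE_of_quasiIso a ((DerivedCategory.isIso_Q_map_iff_quasiIso (C := X.Modules) a).1 ha')
    (homLE_of_quasiIso' s ((DerivedCategory.isIso_Q_map_iff_quasiIso (C := X.Modules) s).1 hs') h)

theorem homLE_shift {c : ℤ} {E : CochainComplex X.Modules ℤ} (hE : DCoh.IsKFlat E) (h : HomLE c E) (n : ℤ) :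
    HomLE (c + n) (E⟦n⟧) := by
  refine homLE_of_natIso _ fun {_} => ?_
  haveI := ModGroth.hasLTensorCx E
  haveI := hasRSheafHom E
  refine ⟨_, _, (DCoh.RSheafHomAdj E).comp (shiftEquiv (DCoh.D X) n).toAdjunction,
    ⟨ltenIsoOfTensor _ (isKFlat_shift hE n) _ ?_⟩, fun Y N hY i hi => h.le _ _ (hY.shift (-n)) i (by omega)⟩
  exact Functor.isoWhiskerRight (tensEShift E n) _ ≪≫ Functor.associator _ _ _ ≪≫
    Functor.isoWhiskerLeft _ ((DerivedCategory.Q (C := X.Modules)).commShiftIso n) ≪≫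
    (Functor.associator _ _ _).symm ≪≫ Functor.isoWhiskerRight (cIso E hE).symm _ ≪≫ Functor.associator _ _ _

theorem homLE_unit : HomLE 0 ((single X.Modules (ComplexShape.up ℤ) 0).obj (Coh.structureModule X)) := by
  refine homLE_of_natIso _ fun {_} => ⟨_, _, Adjunction.id, ⟨ltenIsoOfTensor _
    (ModGroth.Perf.isKFlat_of_isStrictlyPerfect (isStrictlyPerfect_single isFinLocFree_structureModule 0)) _ ?_⟩,
    fun Y N hY i hi => hY i (by omega)⟩
  exact Functor.isoWhiskerRight tensEUnit _ ≪≫ Functor.leftUnitor _ ≪≫ (Functor.rightUnitor _).symm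

theorem homLE_of_isZero (c : ℤ) (E : CochainComplex X.Modules ℤ) (h : IsZero E) : HomLE c E := by
  refine ⟨fun {_ _} Y _ _ i _ => ?_⟩
  have hk : DCoh.IsKFlat E := KFlat.FlatR.of_iso (DCoh.tensorBi (X := X))
    (isZero_zero _ |>.iso h) (fun M _ i => by
      exact Functor.map_isZero (HomologicalComplex.homologyFunctor X.Modules (ComplexShape.up ℤ) i)
        ((KFlat.tensR (DCoh.tensorBi (X := X)) M).map_isZero (isZero_zero _)))
  have hz : ∀ A, IsZero ((DCoh.LTensorCx E).obj A) := fun A =>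
    ((DerivedCategory.Q : CochainComplex X.Modules ℤ ⥤ DCoh.D X).map_isZero
      ((KFlat.tensR (DCoh.tensorBi (X := X)) (DerivedCategory.Q.objPreimage A)).map_isZero h)).of_iso
      ((DCoh.LTensorCx E).mapIso (DerivedCategory.Q.objObjPreimageIso A).symm ≪≫ (cIso E hk).app _)
  have hR : IsZero ((DCoh.RSheafHom E).obj Y) := (IsZero.iff_id_eq_zero _).2
    (((DCoh.RSheafHomAdj E).homEquiv _ Y).symm.injective ((hz _).eq_of_src _ _))
  exact Functor.map_isZero (DerivedCategory.homologyFunctor X.Modules i) hR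

theorem homLE_middle {c : ℤ} (S : ShortComplex (CochainComplex X.Modules ℤ))
    (σ : ∀ n, (S.map (eval X.Modules (ComplexShape.up ℤ) n)).Splitting)
    (h₁ : DCoh.IsKFlat S.X₁) (h₂ : DCoh.IsKFlat S.X₂) (h₃ : DCoh.IsKFlat S.X₃)
    (q₁ : HomLE c S.X₁) (q₃ : HomLE c S.X₃) : HomLE c S.X₂ := by
  refine ⟨fun {_ _} Y N hY m hm => ?_⟩
  haveI := ModGroth.hasLTensorCx S.X₁
  haveI := ModGroth.hasLTensorCx S.X₃
  haveI := hasRSheafHom S.X₁
  haveI := hasRSheafHom S.X₃
  haveI : (DCoh.LTensorCx S.X₁).Additive := additive_of_adj (DCoh.RSheafHomAdj S.X₁)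
  haveI : (DCoh.LTensorCx S.X₂).Additive := additive_of_adj (DCoh.RSheafHomAdj S.X₂)
  haveI : (DCoh.LTensorCx S.X₃).Additive := additive_of_adj (DCoh.RSheafHomAdj S.X₃)
  let a := tauNT S.f
  let b := tauNT S.g
  let d := delta S σ h₁ h₃
  have hT := distinguished_triA S σ h₁ h₂ h₃
  have e₂ : HomExact a b := fun A Z =>
    ⟨comp_distTriang_mor_zero₁₂ _ (hT A), fun c hc => Triangle.yoneda_exact₂ _ (hT A) c hc⟩
  exact (exact_conj (DCoh.RSheafHomAdj S.X₁) (DCoh.RSheafHomAdj S.X₂) (DCoh.RSheafHomAdj S.X₃) e₂ Y m).isZero_X₂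
    ((q₃.le Y N hY m hm).eq_of_src _ _) ((q₁.le Y N hY m hm).eq_of_tgt _ _)

theorem homLE_of_cover {c : ℤ} (K : CochainComplex X.Modules ℤ) (hK : DCoh.IsKFlat K)
    (h : ∀ x : X, ∃ V : X.Opens, x ∈ V ∧ HomLE c ((DCoh.restrictCx V).obj K)) : HomLE c K := by
  refine ⟨fun {_ _} Y N hY i hi => QCohLib.isZero_of_subsingleton_stalk fun x => ?_⟩
  obtain ⟨V, hx, hV⟩ := h x
  haveI := ModGroth.hasLTensorCx ((DCoh.restrictCx V).obj K)
  haveI := hasRSheafHom ((DCoh.restrictCx V).obj K)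
  have hYV : HighZero N ((ModGroth.Perf.rD V).obj Y) := fun j hj =>
    (Functor.map_isZero (Scheme.Modules.restrictFunctor V.ι) (hY j hj)).of_iso
      ((DQCPush.HDRestrictNatIso V.ι j).app Y)
  have hz := (hV.le _ _ hYV i hi).of_iso ((DerivedCategory.homologyFunctor _ i).mapIso ((rhomRestrIso V K hK).app Y))
  have hz' := hz.of_iso ((DQCPush.HDRestrictNatIso V.ι i).app ((DCoh.RSheafHom K).obj Y)).symm
  exact (QCohLib.subsingleton_restrict_stalk_iff V.ι _ (⟨x, hx⟩ : (V : Scheme.{u}))).1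
    (QCohLib.subsingleton_stalk_of_isZero hz' _)

theorem homLE_free : ∀ r : ℕ, HomLE 0 ((single X.Modules (ComplexShape.up ℤ) 0).obj (FlatMod.freeMod X r))
  | 0 => homLE_of_isZero 0 _ ((single X.Modules (ComplexShape.up ℤ) 0).map_isZero
      ((IsZero.iff_id_eq_zero _).2 (Sigma.hom_ext _ _ fun i => i.elim0)))
  | r + 1 => by
    have hk : ∀ M, FlatMod.IsFinLocFree M → DCoh.IsKFlat ((single X.Modules (ComplexShape.up ℤ) 0).obj M) :=
      fun M hM => ModGroth.Perf.isKFlat_of_isStrictlyPerfect (isStrictlyPerfect_single hM 0)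
    exact homLE_middle ((freeSeq X r).map (single X.Modules (ComplexShape.up ℤ) 0))
      (fun n => (freeSeqSplitting X r).map (single X.Modules (ComplexShape.up ℤ) 0 ⋙ eval X.Modules (ComplexShape.up ℤ) n))
      (hk _ (DCohPerf.isFinLocFree_free r)) (hk _ (DCohPerf.isFinLocFree_free (r + 1)))
      (hk _ isFinLocFree_structureModule) (homLE_free r) homLE_unit

theorem homLE_finLocFree {M : X.Modules} (hM : FlatMod.IsFinLocFree M) (n : ℤ) :
    HomLE (-n) ((single X.Modules (ComplexShape.up ℤ) n).obj M) := by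
  have h0 : HomLE 0 ((single X.Modules (ComplexShape.up ℤ) 0).obj M) := by
    refine homLE_of_cover _ (ModGroth.Perf.isKFlat_of_isStrictlyPerfect (isStrictlyPerfect_single hM 0)) fun x => ?_
    obtain ⟨U, r, hx, ⟨i⟩⟩ := hM x
    refine ⟨U, hx, homLE_of_iso ?_ (homLE_free r)⟩
    exact (single _ (ComplexShape.up ℤ) 0).mapIso i.symm ≪≫
      ((HomologicalComplex.singleMapHomologicalComplex (Scheme.Modules.restrictFunctor U.ι) (ComplexShape.up ℤ) 0).app M).symm
  refine homLE_of_iso (((CochainComplex.singleFunctors X.Modules).shiftIso (-n) n 0 (by omega)).app M)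
    ((homLE_shift (ModGroth.Perf.isKFlat_of_isStrictlyPerfect (isStrictlyPerfect_single hM 0)) h0 (-n)).mono (by omega))

theorem homLE_of_isStrictlyPerfect {E : CochainComplex X.Modules ℤ} (a b : ℤ)
    (hz : ∀ i, i < a ∨ b < i → IsZero (E.X i)) (hl : ∀ i, FlatMod.IsFinLocFree (E.X i)) : HomLE (-a) E := by
  obtain ⟨k, hk⟩ : ∃ k : ℕ, b - a < k := ⟨(b - a + 1).toNat, by omega⟩
  induction k generalizing E b with
  | zero => exact homLE_of_isZero _ E ((IsZero.iff_id_eq_zero _).2 (HomologicalComplex.hom_ext _ _ fun i => (hz i (by omega)).eq_of_src _ _))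
  | succ k ih =>
    by_cases hab : b < a
    · exact homLE_of_isZero _ E ((IsZero.iff_id_eq_zero _).2 (HomologicalComplex.hom_ext _ _ fun i => (hz i (by omega)).eq_of_src _ _))
    obtain ⟨S, hS, h1, h2, h3, h3'⟩ := PCohLib.exists_ses_top E b (hz (b + 1) (Or.inr (by omega)))
    have hz3 : ∀ i, i < a ∨ b - 1 < i → IsZero (S.X₃.X i) := fun i hi => by
      by_cases hib : i = b
      · exact hib ▸ h3
      · exact (hz i (by omega)).of_iso (h3' i hib).some.symm
    have hl3 : ∀ i, FlatMod.IsFinLocFree (S.X₃.X i) := fun i => by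
      by_cases hib : i = b
      · exact ModGroth.Perf.isFinLocFree_of_isZero (hib ▸ h3)
      · exact isFinLocFree_congr (h3' i hib).some (hl i)
    have σ : ∀ n, (S.map (eval X.Modules (ComplexShape.up ℤ) n)).Splitting := fun n => by
      refine splittingOfEither (hS.map_of_exact _) ?_
      by_cases hnb : n = b
      · exact Or.inr (hnb ▸ h3)
      · left
        change IsZero (S.X₁.X n)
        rw [h1]
        exact isZero_single_obj_X _ _ _ _ hnb
    rw [← h2]
    refine homLE_middle S σ ?_ (h2 ▸ ModGroth.Perf.isKFlat_of_isStrictlyPerfect ⟨⟨a, b, hz⟩, hl⟩)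
      (ModGroth.Perf.isKFlat_of_isStrictlyPerfect ⟨⟨a, b - 1, hz3⟩, hl3⟩) ?_ (ih (b - 1) hz3 hl3 (by omega))
    · rw [h1]
      exact ModGroth.Perf.isKFlat_of_isStrictlyPerfect (isStrictlyPerfect_single (hl b) b)
    · rw [h1]
      exact (homLE_finLocFree (hl b) b).mono (by omega)

/-- `RHom(K, -)` has bounded amplitude above for perfect `K` on a quasi-compact scheme. -/
theorem exists_homLE_of_isPerfect [CompactSpace X] (K : CochainComplex X.Modules ℤ)
    (hK : DCoh.IsPerfect (DCoh.toD X K)) : ∃ c, HomLE c K := by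
  classical
  obtain ⟨P, q, hP, -, hq, -⟩ := ModGroth.scheme_exists_resolution K
  haveI := ModGroth.Amp.isIso_Q_map q hq
  have hloc : ∀ x : X, ∃ (V : X.Opens) (c : ℤ), x ∈ V ∧ HomLE c ((DCoh.restrictCx V).obj P) := fun x => by
    obtain ⟨V, hx, E, ⟨⟨a, b, hz⟩, hl⟩, ⟨e⟩⟩ := (ModGroth.Perf.isPerfect_iff _).1 hK x
    exact ⟨V, -a, hx, homLE_of_isoD (e.symm ≪≫
      (ModGroth.Perf.rDIso V (asIso ((DerivedCategory.Q : _ ⥤ DCoh.D X).map q))).symm)
      (homLE_of_isStrictlyPerfect a b hz hl)⟩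
  choose V c hxV hV using hloc
  obtain ⟨t, ht⟩ := isCompact_univ.elim_finite_subcover (fun x => (V x : Set X)) (fun x => (V x).2)
    fun x _ => Set.mem_iUnion.2 ⟨x, hxV x⟩
  obtain ⟨C, hC⟩ : ∃ C, ∀ x ∈ t, c x ≤ C := (t.image c).bddAbove.imp fun C hC x hx => hC (Finset.mem_image_of_mem c hx)
  refine ⟨C, homLE_of_quasiIso q hq (homLE_of_cover P hP fun y => ?_)⟩
  obtain ⟨x, hx, hy⟩ := Set.mem_iUnion₂.1 (ht (Set.mem_univ y))
  exact ⟨V x, hy, (hV x).mono (hC x hx)⟩

end Groth.Agent.DQC
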