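import Groth.Agent.DQC.CompactPerf
import Groth.Agent.DQC.RHomLE
import Groth.Agent.DQC.RHomBound
import Groth.Agent.DQCPush.MVTri
import Groth.Agent.DCohPerf.Perfect

/-!
# Compactness of perfect objects under a cohomological dimension bound
-/

set_option autoImplicit false
set_option linter.style.haveILetI false

universe u

open CategoryTheory CategoryTheory.Limits CategoryTheory.Pretriangulated AlgebraicGeometry HomologicalComplex

attribute [local instance] HasDerivedCategory.standard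

namespace Groth.Agent.DQC

open DQCPush (oMod sO ev ev_bijective cyc exists_cyc cyc_homotopy ev_comp)
open CohVanish (sp toAbF hEquiv)

variable {X : Scheme.{u}} [CompactSpace X] [QuasiSeparatedSpace X]

theorem subsingleton_HH_injective (I : X.Modules) [Injective I] (n : ℕ) : Subsingleton (Coh.HH X I (n + 1)) := by
  haveI : TopCat.Sheaf.IsFlasque ((toAbF X).obj I) := HigherDirect.isFlasque_toAb_of_injective I
  haveI := SpecColim.subsingleton_EU_of_qFlasque (X := sp X) (U := ⊤) (by simpa using isCompact_univ (X := X))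
    (by simpa using isQuasiSeparated_univ (α := X)) n _ (SpecColim.qFlasque_of_isFlasque ⊤ ((toAbF X).obj I))
  exact (hEquiv (X := sp X) ((toAbF X).obj I) (n + 1)).injective.subsingleton

/-- `Hom(O, L) = 0` for `L` deep enough below, given a bound on cohomological dimension. -/
theorem hom_unit_eq_zero_of_highZero {d : ℕ} (hd : ∀ (F : X.Modules) (i : ℕ), d < i → Subsingleton (Coh.HH X F i))
    {L : DCoh.D X} {N : ℤ} (hL : HighZero N L) (hN : N + d + 1 < 0) (g : qS X (oMod X) ⟶ L) : g = 0 := by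
  obtain ⟨I, hI, hinj, ⟨e⟩⟩ := DQCPush.exists_injective_rep L
  have hac : ∀ k, N < k → I.ExactAt k := fun k hk => (HomologicalComplex.exactAt_iff_isZero_homology _ _).2
    ((hL k hk).of_iso (((DerivedCategory.homologyFunctorFactors X.Modules k).app I).symm ≪≫
      (DerivedCategory.homologyFunctor X.Modules k).mapIso e))
  have hex : ∀ n : ℤ, N < n + 1 →
      (ShortComplex.mk (I.d n (n + 1)) (I.d (n + 1) (n + 2)) (I.d_comp_d _ _ _)).Exact := fun n h =>
    (HomologicalComplex.exactAt_iff' I n (n + 1) (n + 2) (CochainComplex.prev _ _ |>.trans (by omega))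
      (CochainComplex.next _ _ |>.trans (by omega))).1 (hac _ h)
  let Sn : ℤ → ShortComplex X.Modules := fun n => ShortComplex.mk (kernel.ι (I.d n (n + 1)))
    (kernel.lift (I.d (n + 1) (n + 2)) (I.d n (n + 1)) (I.d_comp_d _ _ _))
    (by rw [← cancel_mono (kernel.ι _)]; simp)
  have hSn : ∀ n, N < n + 1 → (Sn n).ShortExact := fun n h => by
    haveI : Epi (Sn n).g := (hex n h).epi_kernelLift
    exact
      { exact := ShortComplex.exact_of_f_is_kernel _
          (KernelFork.IsLimit.ofι' _ _ (fun k hk => ⟨kernel.lift _ k (by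
            have := congrArg (fun x => x ≫ kernel.ι (I.d (n + 1) (n + 2))) hk
            simpa [Sn] using this), kernel.lift_ι _ _ _⟩)) }
  have hZ : ∀ (j : ℕ) (k : ℤ) (p : ℕ), N + j < k → 1 ≤ p → d < p + j →
      Subsingleton (Coh.HH X (kernel (I.d k (k + 1))) p) := by
    intro j
    induction j with
    | zero => exact fun k p _ _ hp => hd _ p (by omega)
    | succ j ih =>
      intro k p hk hp hpj
      obtain ⟨m, rfl⟩ : ∃ m, k = m + 1 := ⟨k - 1, by omega⟩
      obtain ⟨q, rfl⟩ : ∃ q, p = q + 1 := ⟨p - 1, by omega⟩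
      haveI := hinj m
      have h := CohVanish.subsingleton_HH_of_shortExact₃ (hSn m (by omega)) (q + 1)
        (subsingleton_HH_injective (I.X m) q) (ih m (q + 2) (by omega) (by omega) (by omega))
      have e₂ : m + 2 = m + 1 + 1 := by omega
      exact e₂ ▸ h
  have hsurj : Function.Surjective ((Sn (-1)).g.app ⊤) :=
    CohVanish.app_top_surjective_of_shortExact (hSn (-1) (by omega)) (hZ d (-1) 1 (by omega) le_rfl (by omega))
  let w := DerivedCategory.quotientCompQhIso X.Modules
  let q := HomotopyCategory.quotient X.Modules (ComplexShape.up ℤ)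
  obtain ⟨g', hg'⟩ := (TriH.Qh_bijective_of_isKInjective I (q.obj (sO X 0))).2
    (w.hom.app _ ≫ (g ≫ e.inv) ≫ w.inv.app _)
  obtain ⟨g₀, rfl⟩ := q.map_surjective g'
  let a : oMod X ⟶ I.X 0 := (HomologicalComplex.singleObjXSelf (ComplexShape.up ℤ) 0 (oMod X)).inv ≫ g₀.f 0
  have ha : a ≫ I.d 0 1 = 0 := by
    simp only [a, Category.assoc, g₀.comm, HomologicalComplex.single_obj_d, zero_comp, comp_zero]
  obtain ⟨b, hb⟩ := hsurj (ev (show oMod X ⟶ (Sn (-1)).X₃ from
    kernel.lift _ (show oMod X ⟶ I.X (-1 + 1) from a) (show a ≫ I.d (-1 + 1) (-1 + 2) = 0 from ha)))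
  have hb' : ev a = (I.d (-1) 0).app ⊤ b := by
    have h1 := congrArg ((kernel.ι (I.d (-1 + 1) (-1 + 2))).app ⊤) hb
    rw [← ev_comp, kernel.lift_ι] at h1
    refine h1.symm.trans ?_
    show ((kernel.lift (I.d (-1 + 1) (-1 + 2)) (I.d (-1) (-1 + 1)) _) ≫ kernel.ι _).app ⊤ b = _
    rw [kernel.lift_ι]
    rfl
  have hq : q.map g₀ = q.map 0 := (cyc_homotopy g₀ 0).2 ⟨b, by
    show ev a = _
    rw [hb', show cyc (0 : sO X 0 ⟶ I) = 0 by
      rw [cyc, HomologicalComplex.zero_f, comp_zero, DQCPush.ev_zero], add_zero]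
    rfl⟩
  rw [Functor.map_zero] at hq
  rw [hq, Functor.map_zero] at hg'
  have h2 : g ≫ e.inv = 0 := by
    rw [← cancel_mono (w.inv.app I), ← cancel_epi (w.hom.app (sO X 0)), zero_comp, comp_zero]
    exact hg'.symm
  calc g = (g ≫ e.inv) ≫ e.hom := by simp
    _ = 0 := by rw [h2, zero_comp]

/-- `O ⊗ᴸ P ≅ P` for a K-flat complex. -/
noncomputable def unitLTenIso (P : CochainComplex X.Modules ℤ) (hP : DCoh.IsKFlat P) [DCoh.HasLTensorCx P] :
    (DCoh.LTensorCx P).obj (qS X (oMod X)) ≅ DCoh.toD X P :=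
  (cIso P hP).app ((single X.Modules (ComplexShape.up ℤ) 0).obj (oMod X)) ≪≫
    DerivedCategory.Q.mapIso
      (ModGroth.cxSymm (DCoh.tensorBi (X := X)) (ModGroth.tensorFlipIso (O := X.sheaf))
          ((single X.Modules (ComplexShape.up ℤ) 0).obj (Coh.structureModule X)) P ≪≫
        tensEUnit.app P)

/-- Perfect objects see only finitely many degrees below, given a bound on cohomological dimension. -/
theorem exists_hom_eq_zero_of_isPerfect {d : ℕ}
    (hd : ∀ (F : X.Modules) (i : ℕ), d < i → Subsingleton (Coh.HH X F i)) (K : DCoh.D X) (hK : DCoh.IsPerfect K) :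
    ∃ N : ℤ, ∀ L : DCoh.D X, HighZero N L → ∀ g : K ⟶ L, g = 0 := by
  obtain ⟨F, ⟨eF⟩⟩ : ∃ F : CochainComplex X.Modules ℤ, Nonempty (DCoh.toD X F ≅ K) :=
    ⟨_, ⟨DerivedCategory.Q.objObjPreimageIso K⟩⟩
  obtain ⟨P, hP, -, ⟨eP⟩⟩ := ModGroth.Amp.exists_rep (DCoh.toD X F)
  haveI := ModGroth.hasLTensorCx P
  haveI := hasRSheafHom P
  haveI : (DCoh.LTensorCx P).Additive := additive_of_adj (DCoh.RSheafHomAdj P)
  obtain ⟨c, hc⟩ := exists_homLE_of_isPerfect P (DCohPerf.isPerfect_of_iso hK (eP ≪≫ eF).symm)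
  refine ⟨-c - d - 3, fun L hL g => ?_⟩
  let eO : DCoh.toD X P ≅ (DCoh.LTensorCx P).obj (qS X (oMod X)) := (unitLTenIso P hP).symm
  have h0 := hom_unit_eq_zero_of_highZero hd (hc.le L _ hL) (by omega)
    ((DCoh.RSheafHomAdj P).homEquiv _ _ (eO.inv ≫ (eP ≪≫ eF).hom ≫ g))
  rw [← Adjunction.homAddEquiv_apply, AddEquiv.map_eq_zero_iff, Preadditive.IsIso.comp_left_eq_zero,
    Preadditive.IsIso.comp_left_eq_zero] at h0
  exact h0

end Groth.Agent.DQC
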