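import Groth.Agent.DQC.CompactFac
import Groth.Agent.DQCPush.Colim
import Groth.Agent.DQCPush.GammaAcyclic
import Groth.Agent.DQCPush.Sums

/-!
# Maps from `O_X` into bounded below direct sums on a quasi-compact quasi-separated scheme
-/

set_option autoImplicit false
set_option linter.style.haveILetI false
set_option backward.isDefEq.respectTransparency false
set_option backward.isDefEq.respectTransparency.types false

universe u

open CategoryTheory CategoryTheory.Limits AlgebraicGeometry Opposite TopologicalSpace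

attribute [local instance] HasDerivedCategory.standard

namespace Groth.Agent.DQC

open CompactFac DQCPush TriH
open CohVanish (sp toAbF)

/-- A quasi-isomorphism of short complexes of abelian groups is surjective on classes. -/
theorem exists_class_of_quasiIso {S T : ShortComplex AddCommGrpCat.{u}} {φ : S ⟶ T}
    (h : ShortComplex.QuasiIso φ) (y : T.X₂) (hy : T.g y = 0) :
    ∃ x, S.g x = 0 ∧ ∃ b, φ.τ₂ x = T.f b + y := by
  let w := T.abCyclesIso.inv ⟨y, hy⟩
  obtain ⟨z', hz'⟩ := ((ConcreteCategory.isIso_iff_bijective _).1 h.isIso).2 (T.homologyπ w)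
  obtain ⟨z, rfl⟩ := (AddCommGrpCat.epi_iff_surjective S.homologyπ).1 inferInstance z'
  have hπ := ConcreteCategory.congr_hom (ShortComplex.homologyπ_naturality φ) z
  have he := (ShortComplex.ab_exact_iff _).1
    (ShortComplex.exact_of_g_is_cokernel (ShortComplex.mk _ _ T.toCycles_comp_homologyπ) T.homologyIsCokernel)
  obtain ⟨b, hb⟩ := he (ShortComplex.cyclesMap φ z - w) (by
    show T.homologyπ _ = 0
    rw [map_sub, sub_eq_zero]
    exact hπ.symm.trans hz')
  refine ⟨S.iCycles z, ConcreteCategory.congr_hom S.iCycles_g z, b, ?_⟩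
  refine (ConcreteCategory.congr_hom (ShortComplex.cyclesMap_i φ) z).symm.trans
    (Eq.trans ?_ (congrArg (· + y) (ConcreteCategory.congr_hom T.toCycles_i b)))
  show T.iCycles (ShortComplex.cyclesMap φ z) = T.iCycles (T.toCycles b) + y
  rw [show T.toCycles b = ShortComplex.cyclesMap φ z - w from hb, map_sub, T.abCyclesIso_inv_apply_iCycles]
  exact (sub_add_cancel _ _).symm

/-- Injective resolutions of bounded below complexes. -/
theorem exists_injective_cx {X : Scheme.{u}} (C : CochainComplex X.Modules ℤ) (a : ℤ) [C.IsStrictlyGE a] :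
    ∃ (J : CochainComplex X.Modules ℤ) (s : C ⟶ J), QuasiIso s ∧ J.IsStrictlyGE a ∧ (∀ k, Injective (J.X k)) ∧
      J.IsKInjective := by
  haveI := DQCPush.isGrothendieckAbelian_modules X
  obtain ⟨L, hL, i, hi⟩ := CochainComplex.Plus.exists_quasiIso_injective (C := X.Modules) ⟨C, a, inferInstance⟩ a
  let J := ((InjectiveObject.ι X.Modules).mapCochainComplexPlus.obj L).obj
  haveI : J.IsStrictlyGE a := by
    show CochainComplex.IsStrictlyGE (((InjectiveObject.ι X.Modules).mapHomologicalComplex _).obj L.obj) a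
    infer_instance
  haveI : ∀ k, Injective (J.X k) := fun k => (L.obj.X k).property
  exact ⟨J, i.hom, hi, inferInstance, inferInstance, CochainComplex.isKInjective_of_injective J a⟩

instance enoughInjectives_modules (X : Scheme.{u}) : EnoughInjectives X.Modules :=
  haveI := DQCPush.isGrothendieckAbelian_modules X
  IsGrothendieckAbelian.enoughInjectives

instance preservesFiniteLimits_gammaAb (X : Scheme.{u}) : PreservesFiniteLimits (DCoh.gammaAb X) := by
  haveI : PreservesFiniteLimits (Scheme.Modules.toPresheaf X) :=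
    inferInstanceAs (PreservesFiniteLimits (SheafOfModules.forget _ ⋙ PresheafOfModules.toPresheaf _))
  haveI : PreservesFiniteLimits ((evaluation (TopologicalSpace.Opens X)ᵒᵖ AddCommGrpCat.{u}).obj (op ⊤)) :=
    ⟨fun J _ _ => evaluation_preservesLimitsOfShape _⟩
  exact comp_preservesFiniteLimits _ _

variable {X : Scheme.{u}} [CompactSpace X] [QuasiSeparatedSpace X]

open CoproductsFromFiniteFiltered in
theorem finFac_unit_modules {I : Type u} {N : I → X.Modules} {c : Cofan N} (hc : IsColimit c)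
    (g : oMod X ⟶ c.pt) : FinFac hc g := by
  classical
  haveI := DQCPush.isGrothendieckAbelian_modules X
  haveI := SpecColim.preservesColimitsOfShape_toAbF X (Finset (Discrete I))
  let e₀ := hc.coconePointUniqueUpToIso (colimit.isColimit (Discrete.functor N))
  let d := finiteSubcoproductsCocone N
  have hd := isColimitFiniteSubproductsCocone N
  obtain ⟨T, s, hs⟩ := SpecColim.exists_rep_of_isCompact (isColimitOfPreserves (toAbF X) hd)
    (V := (⊤ : TopologicalSpace.Opens (sp X))) (by simpa using isCompact_univ (X := X))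
    (by simpa using isQuasiSeparated_univ (α := X)) (e₀.hom.app ⊤ (ev g))
  let F : Finset I := T.map ⟨Discrete.as, fun a b h => Discrete.ext h⟩
  refine ⟨F, (ev_bijective c.pt).1 ?_⟩
  rw [ev_comp]
  have hT : d.ι.app T ≫ e₀.inv ≫ e hc F = d.ι.app T ≫ e₀.inv := by
    refine Sigma.hom_ext _ _ fun t => ?_
    have ht : Sigma.ι _ t ≫ d.ι.app T ≫ e₀.inv = c.inj t.1.as := by
      rw [← Category.assoc]
      simp [d, finiteSubcoproductsCocone, e₀]
      rfl
    rw [← Category.assoc (d.ι.app T), ← Category.assoc (Sigma.ι _ t), ht]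
    exact inj_e_of_mem hc (Finset.mem_map.2 ⟨t.1, t.2, rfl⟩)
  have hg : ev g = (d.ι.app T ≫ e₀.inv).app ⊤ s := by
    have h1 : e₀.inv.app ⊤ (e₀.hom.app ⊤ (ev g)) = ev g := by
      rw [← ev_comp, ← ev_comp, Category.assoc, e₀.hom_inv_id, Category.comp_id]
    rw [← h1, ← hs]
    rfl
  rw [hg]
  exact congrArg (fun φ => (φ : _ ⟶ c.pt).app ⊤ s) hT

/-- Quasi-flasque sheaves are acyclic for global sections. -/
theorem isAcyclic_gammaAb_of_qFlasque : ∀ (n : ℕ) (C : X.Modules),
    SpecColim.QFlasque (⊤ : TopologicalSpace.Opens (sp X)) ((toAbF X).obj C) →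
    IsZero (((DCoh.gammaAb X).rightDerived (n + 1)).obj C) := by
  haveI := DQCPush.isGrothendieckAbelian_modules X
  have hqs : IsQuasiSeparated ((⊤ : TopologicalSpace.Opens (sp X)) : Set (sp X)) := by
    simpa using isQuasiSeparated_univ (α := X)
  intro n
  induction n with
  | zero =>
    intro C hC
    let S := ShortComplex.mk (Injective.ι C) (cokernel.π _) (cokernel.condition _)
    have hS : S.ShortExact := { exact := ShortComplex.exact_of_g_is_cokernel _ (cokernelIsCokernel _) }
    haveI : Epi ((DCoh.gammaAb X).map S.g) := (AddCommGrpCat.epi_iff_surjective _).2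
      (SpecColim.surjective_of_qFlasque (hS.map_of_exact (toAbF X)) hqs hC le_rfl (by simpa using isCompact_univ (X := X)))
    have e := (DCoh.gammaAb X).rightDerivedZeroIsoSelf.hom.naturality S.g
    haveI : Epi (((DCoh.gammaAb X).rightDerivedZeroIsoSelf.hom.app S.X₂) ≫ (DCoh.gammaAb X).map S.g) := epi_comp _ _
    haveI : Epi (((DCoh.gammaAb X).rightDerived 0).map S.g ≫ (DCoh.gammaAb X).rightDerivedZeroIsoSelf.hom.app S.X₃) := by
      rw [e]; infer_instance
    haveI : Epi (((DCoh.gammaAb X).rightDerived 0).map S.g) := by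
      have := epi_comp (((DCoh.gammaAb X).rightDerived 0).map S.g ≫ (DCoh.gammaAb X).rightDerivedZeroIsoSelf.hom.app S.X₃)
        ((DCoh.gammaAb X).rightDerivedZeroIsoSelf.inv.app S.X₃)
      simpa using this
    have hδ : (RDer.derivedLES (DCoh.gammaAb X)).δ S hS 0 1 rfl = 0 := by
      rw [← cancel_epi (((DCoh.gammaAb X).rightDerived 0).map S.g), comp_zero]
      exact (RDer.derivedLES (DCoh.gammaAb X)).comp_δ S hS 0 1 rfl
    exact ((RDer.derivedLES (DCoh.gammaAb X)).exact₁ S hS 0 1 rfl).isZero_X₂ hδ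
      (((DCoh.gammaAb X).isZero_rightDerived_obj_injective_succ 0 (Injective.under C)).eq_of_tgt _ _)
  | succ n ih =>
    intro C hC
    let S := ShortComplex.mk (Injective.ι C) (cokernel.π _) (cokernel.condition _)
    have hS : S.ShortExact := { exact := ShortComplex.exact_of_g_is_cokernel _ (cokernelIsCokernel _) }
    haveI : TopCat.Sheaf.IsFlasque ((toAbF X).obj (Injective.under C)) :=
      HigherDirect.isFlasque_toAb_of_injective (Injective.under C)
    have h₃ : SpecColim.QFlasque (⊤ : TopologicalSpace.Opens (sp X)) ((toAbF X).obj S.X₃) := by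
      intro V W h hV hVc hWc s
      obtain ⟨t, ht⟩ := SpecColim.surjective_of_qFlasque (hS.map_of_exact (toAbF X)) hqs hC (h.trans hV) hWc s
      obtain ⟨t', ht'⟩ := SpecColim.qFlasque_of_isFlasque ⊤ ((toAbF X).obj (Injective.under C)) h hV hVc hWc t
      exact ⟨((toAbF X).map S.g).hom.app (op V) t', (SpecColim.app_res _ h t').symm.trans ((congrArg _ ht').trans ht)⟩
    exact ((RDer.derivedLES (DCoh.gammaAb X)).exact₁ S hS (n + 1) (n + 1 + 1) rfl).isZero_X₂
      ((ih _ h₃).eq_of_src _ _)
      (((DCoh.gammaAb X).isZero_rightDerived_obj_injective_succ (n + 1) (Injective.under C)).eq_of_tgt _ _)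

open CoproductsFromFiniteFiltered in
theorem qFlasque_coproduct_injective {I : Type u} {N : I → X.Modules} (hN : ∀ t, Injective (N t))
    {c : Cofan N} (hc : IsColimit c) :
    SpecColim.QFlasque (⊤ : TopologicalSpace.Opens (sp X)) ((toAbF X).obj c.pt) := by
  classical
  haveI := DQCPush.isGrothendieckAbelian_modules X
  haveI := SpecColim.preservesColimitsOfShape_toAbF X (Finset (Discrete I))
  let e₀ := hc.coconePointUniqueUpToIso (colimit.isColimit (Discrete.functor N))
  let d := (finiteSubcoproductsCocone N)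
  let d' : Cocone (liftToFinsetObj (Discrete.functor N)) := d.extend e₀.inv
  have hd : IsColimit d' := IsColimit.extendIso _ (isColimitFiniteSubproductsCocone N)
  refine SpecColim.qFlasque_of_isColimit (isColimitOfPreserves (toAbF X) hd)
    (by simpa using isQuasiSeparated_univ (α := X)) fun T => ?_
  haveI : Injective ((liftToFinsetObj (Discrete.functor N)).obj T) := by
    show Injective (∐ fun x : T => (Discrete.functor N).obj x)
    haveI : ∀ x : T, Injective ((Discrete.functor N).obj x) := fun x => hN x.1.as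
    haveI : HasFiniteBiproducts X.Modules := HasFiniteBiproducts.of_hasFiniteCoproducts
    exact Injective.of_iso (biproduct.isoCoproduct _) inferInstance
  have := HigherDirect.isFlasque_toAb_of_injective ((liftToFinsetObj (Discrete.functor N)).obj T)
  exact @SpecColim.qFlasque_of_isFlasque _ _ ((toAbF X).obj _) this

/-- Homotopy classes of maps out of `O_X[-n]` surject onto derived ones for bounded below acyclic targets. -/
theorem exists_map_unit {C : CochainComplex X.Modules ℤ} (a : ℤ) [C.IsStrictlyGE a]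
    (hC : ∀ k, TriH.IsAcyclicObj (DCoh.gammaAb X) (C.X k)) (n : ℤ)
    (g : DerivedCategory.Q.obj (sO X n) ⟶ DerivedCategory.Q.obj C) :
    ∃ g₀ : sO X n ⟶ C, DerivedCategory.Q.map g₀ = g := by
  haveI := DQCPush.isGrothendieckAbelian_modules X
  obtain ⟨J, s, _, _, _, _⟩ := exists_injective_cx C a
  have hq : QuasiIso (((DCoh.gammaAb X).mapHomologicalComplex (ComplexShape.up ℤ)).map s) :=
    (HomologicalComplex.mem_quasiIso_iff _).1 ((HomotopyCategory.quotient_map_mem_quasiIso_iff _).1
      (TriH.quasiIso_map_of_acyclic (DCoh.gammaAb X) s a a hC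
        (fun k => TriH.isAcyclicObj_of_injective _ _)))
  let q := HomotopyCategory.quotient X.Modules (ComplexShape.up ℤ)
  let w := DerivedCategory.quotientCompQhIso X.Modules
  obtain ⟨gJ', hgJ⟩ := (TriH.Qh_bijective_of_isKInjective J (q.obj (sO X n))).2
    (w.hom.app _ ≫ (g ≫ DerivedCategory.Q.map s) ≫ w.inv.app _)
  obtain ⟨gJ, rfl⟩ := q.map_surjective gJ'
  obtain ⟨x, hx, b, hb⟩ : ∃ x, (C.d n (n + 1)).app ⊤ x = 0 ∧ ∃ b, (s.f n).app ⊤ x = (J.d (n - 1) n).app ⊤ b + cyc gJ := by
    have hqn := hq.quasiIsoAt n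
    rw [quasiIsoAt_iff' _ (n - 1) n (n + 1) (by simp) (by simp)] at hqn
    exact exists_class_of_quasiIso hqn (cyc gJ) (cyc_d gJ)
  obtain ⟨g₀, hg₀⟩ := exists_cyc (K := C) x hx
  refine ⟨g₀, (cancel_mono (DerivedCategory.Q.map s)).1 ?_⟩
  rw [← Functor.map_comp]
  have h2 : q.map (g₀ ≫ s) = q.map gJ := (cyc_homotopy _ _).2 ⟨b, by
    rw [cyc_comp, show cyc g₀ = x from hg₀]
    exact hb⟩
  have h3 := w.hom.naturality (g₀ ≫ s)
  simp only [Functor.comp_map] at h3
  rw [← cancel_epi (w.hom.app (sO X n)), ← h3]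
  show DerivedCategory.Qh.map (q.map (g₀ ≫ s)) ≫ _ = _
  rw [h2, hgJ]
  simp only [Category.assoc, Iso.inv_hom_id_app, Category.comp_id]

/-- Maps from `O_X` into a bounded below direct sum factor through finite partial sums. -/
theorem finFac_unit {I : Type u} {M : I → DCoh.D X} (a : ℤ) (hM : ∀ t, (M t).IsGE a) {c : Cofan M}
    (hc : IsColimit c) (g : DerivedCategory.Q.obj (sO X 0) ⟶ c.pt) : FinFac hc g := by
  classical
  haveI := DQCPush.isGrothendieckAbelian_modules X
  have hrep : ∀ t, ∃ L : CochainComplex X.Modules ℤ, L.IsStrictlyGE a ∧ (∀ k, Injective (L.X k)) ∧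
      Nonempty (DerivedCategory.Q.obj L ≅ M t) := fun t => by
    haveI := hM t
    obtain ⟨L₀, _, ⟨e₀⟩⟩ := (M t).exists_iso_Q_obj_of_isGE a
    obtain ⟨J, s, _, hJ, hJi, -⟩ := exists_injective_cx L₀ a
    exact ⟨J, hJ, hJi, ⟨(asIso (DerivedCategory.Q.map s)).symm ≪≫ e₀.symm⟩⟩
  choose L hLa hLi eL using hrep
  let cL : Cofan L := Cofan.mk (∐ L) (Sigma.ι L)
  have hcL : IsColimit cL := coproductIsCoproduct L
  obtain ⟨hQ⟩ := TriH.isColimit_Q_cofan (DerAdj.modules_hKinj X) L
  let φ : ∀ t, DerivedCategory.Q.obj (L t) ≅ M t := fun t => (eL t).some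
  let u : DerivedCategory.Q.obj (∐ L) ⟶ c.pt := Cofan.IsColimit.desc hQ fun t => (φ t).hom ≫ c.inj t
  let v : c.pt ⟶ DerivedCategory.Q.obj (∐ L) :=
    Cofan.IsColimit.desc hc fun t => (φ t).inv ≫ DerivedCategory.Q.map (Sigma.ι L t)
  haveI : ∀ k, PreservesColimit (Discrete.functor L) (HomologicalComplex.eval X.Modules (ComplexShape.up ℤ) k) :=
    fun k => inferInstance
  have hev : ∀ k, IsColimit (Cofan.mk ((∐ L).X k) fun t => (Sigma.ι L t).f k) := fun k =>
    isColimitCofanMkObjOfIsColimit (HomologicalComplex.eval X.Modules (ComplexShape.up ℤ) k) L _ hcL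
  haveI : (∐ L).IsStrictlyGE a := (CochainComplex.isStrictlyGE_iff _ _).2 fun k hk =>
    (IsZero.iff_id_eq_zero _).2 (Cofan.IsColimit.hom_ext (hev k) _ _ fun t =>
      ((L t).isZero_of_isStrictlyGE a k hk).eq_of_src _ _)
  have hac : ∀ k, TriH.IsAcyclicObj (DCoh.gammaAb X) ((∐ L).X k) := fun k i hi => by
    obtain ⟨m, rfl⟩ : ∃ m, i = m + 1 := ⟨i - 1, by omega⟩
    exact isAcyclic_gammaAb_of_qFlasque m _ (qFlasque_coproduct_injective (fun t => hLi t k) (hev k))
  obtain ⟨g₀, hg₀⟩ := exists_map_unit a hac 0 (g ≫ v)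
  obtain ⟨F, hF⟩ := finFac_unit_modules (hev 0)
    ((HomologicalComplex.singleObjXSelf (ComplexShape.up ℤ) 0 (oMod X)).inv ≫ g₀.f 0)
  have h0 : g₀ ≫ e hcL F = g₀ := by
    refine HomologicalComplex.from_single_hom_ext ?_
    rw [HomologicalComplex.comp_f, show (e hcL F).f 0 = e (hev 0) F from
      map_e_self hcL (HomologicalComplex.eval X.Modules (ComplexShape.up ℤ) 0) (hev 0) F]
    rw [Category.assoc, cancel_epi] at hF
    exact hF
  have hvu : v ≫ u = 𝟙 _ := Cofan.IsColimit.hom_ext hc _ _ fun t => by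
    rw [Category.comp_id, ← Category.assoc,
      show c.inj t ≫ v = (φ t).inv ≫ DerivedCategory.Q.map (Sigma.ι L t) from Cofan.IsColimit.fac hc _ t,
      Category.assoc, show DerivedCategory.Q.map (Sigma.ι L t) ≫ u = (φ t).hom ≫ c.inj t from Cofan.IsColimit.fac hQ _ t,
      Iso.inv_hom_id_assoc]
  have huv : ∀ t, DerivedCategory.Q.map (Sigma.ι L t) ≫ u = (φ t).hom ≫ c.inj t := fun t =>
    Cofan.IsColimit.fac hQ _ t
  refine ⟨F, ?_⟩
  have hmap : e hQ F ≫ u = u ≫ e hc F := Cofan.IsColimit.hom_ext hQ _ _ fun t => by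
    change DerivedCategory.Q.map (Sigma.ι L t) ≫ _ = DerivedCategory.Q.map (Sigma.ι L t) ≫ _
    rw [reassoc_of% huv, inj_e, ← Category.assoc,
      show DerivedCategory.Q.map (Sigma.ι L t) ≫ e hQ F = _ from inj_e hQ F t]
    split_ifs with ht
    · exact huv t
    · rw [zero_comp, comp_zero]
  calc g ≫ e hc F = g ≫ (v ≫ u) ≫ e hc F := by rw [hvu, Category.id_comp]
    _ = (g ≫ v) ≫ e hQ F ≫ u := by simp only [Category.assoc, hmap]
    _ = g := by
      rw [← hg₀, ← map_e_self hcL DerivedCategory.Q hQ F, ← Functor.map_comp_assoc]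
      rw [show g₀ ≫ e hcL F = g₀ from h0, hg₀, Category.assoc, hvu, Category.comp_id]

end Groth.Agent.DQC
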