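import Groth.Agent.DQC.RHomLocal
import Groth.Agent.PCohLib.Stupid

/-!
# `RHom(K, -)` preserves `D_QCoh` for perfect `K`
-/

set_option autoImplicit false
set_option linter.style.haveILetI false

universe u

open CategoryTheory CategoryTheory.Limits AlgebraicGeometry HomologicalComplex

attribute [local instance] HasDerivedCategory.standard

namespace Groth.Agent.DQC

variable {X : Scheme.{u}}

theorem homQC_of_cover (K : CochainComplex X.Modules ℤ) (hK : DCoh.IsKFlat K)
    (h : ∀ x : X, ∃ V : X.Opens, x ∈ V ∧ HomQC ((DCoh.restrictCx V).obj K)) : HomQC K := by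
  refine ⟨fun {_ _} Y hY => isQCohD_of_cover fun x => ?_⟩
  obtain ⟨V, hx, hV⟩ := h x
  haveI := ModGroth.hasLTensorCx ((DCoh.restrictCx V).obj K)
  haveI := hasRSheafHom ((DCoh.restrictCx V).obj K)
  exact ⟨V, hx, isQCohD_of_iso ((rhomRestrIso V K hK).app Y).symm (hV.qcoh _ (isQCohD_rD V hY))⟩

theorem homQC_of_isZero (E : CochainComplex X.Modules ℤ) (h : IsZero E) : HomQC E := by
  refine ⟨fun {_ _} Y _ i => ?_⟩
  have hk : DCoh.IsKFlat E := KFlat.FlatR.of_iso (DCoh.tensorBi (X := X))
    (isZero_zero _ |>.iso h) (fun M _ i => by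
      exact Functor.map_isZero (HomologicalComplex.homologyFunctor X.Modules (ComplexShape.up ℤ) i)
        ((KFlat.tensR (DCoh.tensorBi (X := X)) M).map_isZero (isZero_zero _)))
  have hz : ∀ A, IsZero ((DCoh.LTensorCx E).obj A) := fun A =>
    ((DerivedCategory.Q : CochainComplex X.Modules ℤ ⥤ DCoh.D X).map_isZero
      ((KFlat.tensR (DCoh.tensorBi (X := X)) (DerivedCategory.Q.objPreimage A)).map_isZero h)).of_iso
      ((DCoh.LTensorCx E).mapIso (DerivedCategory.Q.objObjPreimageIso A).symm ≪≫ (cIso E hk).app _)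
  have hR : IsZero ((DCoh.RSheafHom E).obj Y) := (IsZero.iff_id_eq_zero _).2
    (((DCoh.RSheafHomAdj E).homEquiv _ Y).symm.injective ((hz _).eq_of_src _ _))
  exact (qc X).prop_of_isZero (Functor.map_isZero (DerivedCategory.homologyFunctor X.Modules i) hR)

/-- The split sequence `O^n ⟶ O^(n+1) ⟶ O`. -/
noncomputable abbrev freeSeq (X : Scheme.{u}) (n : ℕ) : ShortComplex X.Modules :=
  ShortComplex.mk (X₁ := FlatMod.freeMod X n) (X₂ := FlatMod.freeMod X (n + 1)) (X₃ := Coh.structureModule X)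
    (Sigma.desc fun i => Sigma.ι (fun _ : Fin (n + 1) => Coh.structureModule X) i.castSucc)
    (Sigma.desc fun i => Fin.lastCases (motive := fun _ => Coh.structureModule X ⟶ Coh.structureModule X) (𝟙 _)
      (fun _ => 0) i)
    (Sigma.hom_ext _ _ fun i => by simp)

/-- Its splitting. -/
noncomputable def freeSeqSplitting (X : Scheme.{u}) (n : ℕ) : (freeSeq X n).Splitting where
  r := Sigma.desc fun i => Fin.lastCases (motive := fun _ => Coh.structureModule X ⟶ FlatMod.freeMod X n) 0
    (fun j => Sigma.ι (fun _ : Fin n => Coh.structureModule X) j) i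
  s := Sigma.ι (fun _ : Fin (n + 1) => Coh.structureModule X) (Fin.last n)
  f_r := Sigma.hom_ext _ _ fun i => by simp
  s_g := by simp
  id := Sigma.hom_ext _ _ fun i => by
    induction i using Fin.lastCases <;> simp

theorem homQC_free : ∀ r : ℕ, HomQC ((single X.Modules (ComplexShape.up ℤ) 0).obj (FlatMod.freeMod X r))
  | 0 => homQC_of_isZero _ ((single X.Modules (ComplexShape.up ℤ) 0).map_isZero
      ((IsZero.iff_id_eq_zero _).2 (Sigma.hom_ext _ _ fun i => i.elim0)))
  | r + 1 => by
    have hk : ∀ M, FlatMod.IsFinLocFree M → DCoh.IsKFlat ((single X.Modules (ComplexShape.up ℤ) 0).obj M) :=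
      fun M hM => ModGroth.Perf.isKFlat_of_isStrictlyPerfect (isStrictlyPerfect_single hM 0)
    exact homQC_middle ((freeSeq X r).map (single X.Modules (ComplexShape.up ℤ) 0))
      (fun n => (freeSeqSplitting X r).map (single X.Modules (ComplexShape.up ℤ) 0 ⋙ eval X.Modules (ComplexShape.up ℤ) n))
      (hk _ (DCohPerf.isFinLocFree_free r)) (hk _ (DCohPerf.isFinLocFree_free (r + 1)))
      (hk _ isFinLocFree_structureModule) (homQC_free r) homQC_unit

theorem homQC_finLocFree {M : X.Modules} (hM : FlatMod.IsFinLocFree M) (n : ℤ) :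
    HomQC ((single X.Modules (ComplexShape.up ℤ) n).obj M) := by
  refine homQC_single hM (homQC_of_cover _
    (ModGroth.Perf.isKFlat_of_isStrictlyPerfect (isStrictlyPerfect_single hM 0)) fun x => ?_) n
  obtain ⟨U, r, hx, ⟨i⟩⟩ := hM x
  refine ⟨U, hx, homQC_of_iso ?_ (homQC_free r)⟩
  exact (single _ (ComplexShape.up ℤ) 0).mapIso i.symm ≪≫
    ((HomologicalComplex.singleMapHomologicalComplex (Scheme.Modules.restrictFunctor U.ι) (ComplexShape.up ℤ) 0).app M).symm

/-- A splitting when one end vanishes. -/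
noncomputable def splittingOfEither {S : ShortComplex X.Modules} (hS : S.ShortExact) (h : IsZero S.X₁ ∨ IsZero S.X₃) :
    S.Splitting :=
  haveI := hS.mono_f
  haveI := hS.epi_g
  haveI : Decidable (IsZero S.X₁) := Classical.dec _
  if h₁ : IsZero S.X₁ then
    haveI : IsIso S.g := hS.isIso_g_iff.2 h₁
    ShortComplex.Splitting.ofExactOfSection S hS.exact (inv S.g) (IsIso.inv_hom_id _) inferInstance
  else
    ShortComplex.Splitting.ofExactOfSection S hS.exact 0 ((h.resolve_left h₁).eq_of_src _ _) inferInstance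

theorem homQC_of_isStrictlyPerfect {E : CochainComplex X.Modules ℤ} (hE : DCoh.IsStrictlyPerfect E) : HomQC E := by
  obtain ⟨⟨a, b, hz⟩, hl⟩ := hE
  obtain ⟨k, hk⟩ : ∃ k : ℕ, b - a < k := ⟨(b - a + 1).toNat, by omega⟩
  induction k generalizing E b with
  | zero => exact homQC_of_isZero E ((IsZero.iff_id_eq_zero _).2 (HomologicalComplex.hom_ext _ _ fun i => (hz i (by omega)).eq_of_src _ _))
  | succ k ih =>
    obtain ⟨S, hS, h1, h2, h3, h3'⟩ := PCohLib.exists_ses_top E b (hz (b + 1) (Or.inr (by omega)))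
    have hz3 : ∀ i, i < a ∨ b - 1 < i → IsZero (S.X₃.X i) := fun i hi => by
      by_cases hib : i = b
      · exact hib ▸ h3
      · exact (hz i (by omega)).of_iso (h3' i hib).some.symm
    have hl3 : ∀ i, FlatMod.IsFinLocFree (S.X₃.X i) := fun i => by
      by_cases hib : i = b
      · exact ModGroth.Perf.isFinLocFree_of_isZero (hib ▸ h3)
      · exact isFinLocFree_congr (h3' i hib).some (hl i)
    have sp3 : DCoh.IsStrictlyPerfect S.X₃ := ⟨⟨a, b - 1, hz3⟩, hl3⟩
    have σ : ∀ n, (S.map (eval X.Modules (ComplexShape.up ℤ) n)).Splitting := fun n => by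
      refine splittingOfEither (hS.map_of_exact _) ?_
      by_cases hnb : n = b
      · exact Or.inr (hnb ▸ h3)
      · left
        change IsZero (S.X₁.X n)
        rw [h1]
        exact isZero_single_obj_X _ _ _ _ hnb
    rw [← h2]
    refine homQC_middle S σ ?_ (h2 ▸ ModGroth.Perf.isKFlat_of_isStrictlyPerfect ⟨⟨a, b, hz⟩, hl⟩)
      (ModGroth.Perf.isKFlat_of_isStrictlyPerfect sp3) ?_ (ih hl3 (b - 1) hz3 (by omega))
    · rw [h1]
      exact ModGroth.Perf.isKFlat_of_isStrictlyPerfect (isStrictlyPerfect_single (hl b) b)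
    · rw [h1]
      exact homQC_finLocFree (hl b) b

/-- `RHom(K, -)` preserves quasi-coherent cohomology for perfect `K`. -/
theorem homQC_of_isPerfect (K : CochainComplex X.Modules ℤ) (hK : DCoh.IsPerfect (DCoh.toD X K)) : HomQC K := by
  obtain ⟨P, q, hP, -, hq, -⟩ := ModGroth.scheme_exists_resolution K
  haveI := ModGroth.Amp.isIso_Q_map q hq
  refine homQC_of_quasiIso q hq (homQC_of_cover P hP fun x => ?_)
  obtain ⟨V, hx, E, hE, ⟨e⟩⟩ := (ModGroth.Perf.isPerfect_iff _).1 hK x
  exact ⟨V, hx, homQC_of_isoD (e.symm ≪≫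
    (ModGroth.Perf.rDIso V (asIso ((DerivedCategory.Q : _ ⥤ DCoh.D X).map q))).symm)
    (homQC_of_isStrictlyPerfect hE)⟩

end Groth.Agent.DQC
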