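import Groth.Agent.DQC.CompactGamma
import Groth.Agent.DQC.RHomPerfect
import Groth.Agent.DQCPush.Local
import Groth.Agent.DerAdj.Basic

/-!
# Perfect objects are compact for bounded below direct sums
-/

set_option autoImplicit false
set_option linter.style.haveILetI false

universe u

open CategoryTheory CategoryTheory.Limits CategoryTheory.Pretriangulated AlgebraicGeometry HomologicalComplex

attribute [local instance] HasDerivedCategory.standard

namespace Groth.Agent.DQC

open CompactFac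

variable {X : Scheme.{u}}

/-- Maps into bounded below direct sums factor through finite partial sums. -/
def FacGE (K : DCoh.D X) : Prop :=
  ∀ (I : Type u) (M : I → DCoh.D X) (a : ℤ), (∀ t, (M t).IsGE a) →
    ∀ (c : Cofan M) (hc : IsColimit c) (g : K ⟶ c.pt), FinFac hc g

theorem FacGE.of_iso {K L : DCoh.D X} (e : K ≅ L) (h : FacGE K) : FacGE L := fun I M a hM c hc g => by
  have := (h I M a hM c hc (e.hom ≫ g)).comp hc e.inv
  rwa [e.inv_hom_id_assoc] at this

theorem facGE_of_isZero {K : DCoh.D X} (h : IsZero K) : FacGE K := fun _ _ _ _ _ hc _ => ⟨∅, h.eq_of_src _ _⟩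

theorem FacGE.shift {K : DCoh.D X} (h : FacGE K) (n : ℤ) : FacGE (K⟦n⟧) := fun I M a hM c hc g =>
  finFac_of_adj (F := shiftFunctor (DCoh.D X) n) (G := shiftFunctor (DCoh.D X) (-n))
    (shiftEquiv (DCoh.D X) n).toAdjunction hc
    (isColimitCofanMkObjOfIsColimit (shiftFunctor (DCoh.D X) (-n)) M c.inj hc) g
    (h I (fun t => (M t)⟦(-n : ℤ)⟧) (a + n)
      (fun t => haveI := hM t; DerivedCategory.TStructure.t.isGE_shift (M t) a (-n) (a + n) (by omega)) _ _ _)

theorem FacGE.ext₂ (T : Triangle (DCoh.D X)) (hT : T ∈ distTriang _) (h₁ : FacGE T.obj₁) (h₃ : FacGE T.obj₃) :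
    FacGE T.obj₂ := fun I M a hM c hc g =>
  finFac_ext₂ hc T hT (h₁ I M a hM c hc) (h₃ I M a hM c hc) g

theorem FacGE.ext₃ (T : Triangle (DCoh.D X)) (hT : T ∈ distTriang _) (h₁ : FacGE T.obj₁) (h₂ : FacGE T.obj₂) :
    FacGE T.obj₃ :=
  FacGE.ext₂ T.rotate (rot_of_distTriang _ hT) h₂ (h₁.shift 1)

/-- `j_!` preserves the property. -/
theorem facGE_jSD (U : X.Opens) {A : DCoh.D (U : Scheme.{u})} (h : FacGE A) : FacGE ((jSD U).obj A) :=
  fun I M a hM c hc g => by
    haveI := DQCPush.preservesColimit_restrictD U.ι M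
    haveI : PreservesColimit (Discrete.functor M) (ModGroth.Perf.rD U) := this
    haveI : (ModGroth.Perf.rD U).Additive := (jSDAdj U).right_adjoint_additive
    refine finFac_of_adj (jSDAdj U) hc (isColimitCofanMkObjOfIsColimit (ModGroth.Perf.rD U) M c.inj hc) g
      (h I _ a (fun t => ?_) _ _ _)
    haveI := hM t
    exact DerAdj.isGE_mapDerivedCategory (Scheme.Modules.restrictFunctor U.ι) (M t) a

noncomputable instance commShift_rD (U : X.Opens) : (ModGroth.Perf.rD U).CommShift ℤ :=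
  inferInstanceAs ((Scheme.Modules.restrictFunctor U.ι).mapDerivedCategory.CommShift ℤ)

instance isTriangulated_rD (U : X.Opens) : (ModGroth.Perf.rD U).IsTriangulated :=
  inferInstanceAs ((Scheme.Modules.restrictFunctor U.ι).mapDerivedCategory.IsTriangulated)

/-- Cohomology of the stalk. -/
noncomputable abbrev hs (x : X) (i : ℤ) : DCoh.D X ⥤ ModuleCat.{u} (X.presheaf.stalk x) :=
  DerivedCategory.homologyFunctor X.Modules i ⋙ DerSch.stalkFunctor X x

/-- An isomorphism on stalks over an open. -/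
def LocIso (U : X.Opens) {K L : DCoh.D X} (φ : K ⟶ L) : Prop :=
  ∀ (i : ℤ), ∀ x ∈ U, IsIso ((hs x i).map φ)

/-- No cohomology outside an open. -/
def Supp (U : X.Opens) (K : DCoh.D X) : Prop := ∀ (i : ℤ) (x : X), x ∉ U → IsZero ((hs x i).obj K)

lemma isIso_hs_iff {K L : DCoh.D X} (φ : K ⟶ L) (x : X) (i : ℤ) : IsIso ((hs x i).map φ) ↔
    Function.Bijective (QCohLib.stalkHom ((DerivedCategory.homologyFunctor X.Modules i).map φ) x) := by
  rw [ConcreteCategory.isIso_iff_bijective]
  rfl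

lemma isIso_rD_iff (U : X.Opens) {K L : DCoh.D X} (φ : K ⟶ L) :
    IsIso ((ModGroth.Perf.rD U).map φ) ↔ LocIso U φ := by
  haveI : PreservesFiniteLimits (Scheme.Modules.restrictFunctor U.ι) := inferInstance
  have key : ∀ i, IsIso ((DerivedCategory.homologyFunctor _ i).map ((ModGroth.Perf.rD U).map φ)) ↔
      ∀ x ∈ U, IsIso ((hs x i).map φ) := fun i => by
    refine ((NatIso.isIso_map_iff (DQCPush.HDRestrictNatIso U.ι i) φ).trans
      (QCohLib.isIso_iff_stalk_bijective _)).trans ?_
    constructor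
    · intro h x hx
      rw [isIso_hs_iff]
      obtain ⟨h1, h2⟩ := h (⟨x, hx⟩ : (U : Scheme.{u}))
      refine ⟨fun a b hab => ?_, fun b => ?_⟩
      · obtain ⟨a, rfl⟩ := (QCohLib.restrictStalkIso_bijective U.ι _ (⟨x, hx⟩ : (U : Scheme.{u}))).2 a
        obtain ⟨b, rfl⟩ := (QCohLib.restrictStalkIso_bijective U.ι _ (⟨x, hx⟩ : (U : Scheme.{u}))).2 b
        exact congrArg _ (h1 ((QCohLib.restrictStalkIso_bijective U.ι _ (⟨x, hx⟩ : (U : Scheme.{u}))).1
          ((QCohLib.stalkHom_restrict U.ι _ _ a).trans (hab.trans (QCohLib.stalkHom_restrict U.ι _ _ b).symm))))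
      · obtain ⟨n, rfl⟩ := (QCohLib.restrictStalkIso_bijective U.ι _ (⟨x, hx⟩ : (U : Scheme.{u}))).2 b
        obtain ⟨m, rfl⟩ := h2 n
        exact ⟨_, (QCohLib.stalkHom_restrict U.ι _ _ m).symm⟩
    · intro h y
      obtain ⟨h1, h2⟩ := (isIso_hs_iff φ _ i).1 (h (U.ι y) y.2)
      refine ⟨fun a b hab => ?_, fun b => ?_⟩
      · refine (QCohLib.restrictStalkIso_bijective U.ι _ y).1 (h1 ?_)
        exact (QCohLib.stalkHom_restrict U.ι _ y a).symm.trans
          ((congrArg _ hab).trans (QCohLib.stalkHom_restrict U.ι _ y b))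
      · obtain ⟨a, ha⟩ := h2 ((QCohLib.restrictStalkIso U.ι _ y).hom b)
        obtain ⟨a, rfl⟩ := (QCohLib.restrictStalkIso_bijective U.ι _ y).2 a
        exact ⟨a, (QCohLib.restrictStalkIso_bijective U.ι _ y).1 ((QCohLib.stalkHom_restrict U.ι _ y a).trans ha)⟩
  rw [DerivedCategory.isIso_iff]
  exact forall_congr' key

lemma LocIso.mono {U V : X.Opens} (h : U ≤ V) {K L : DCoh.D X} {φ : K ⟶ L} (hφ : LocIso V φ) : LocIso U φ :=
  fun i x hx => hφ i x (h hx)

lemma LocIso.comp {U : X.Opens} {K L M : DCoh.D X} {φ : K ⟶ L} {ψ : L ⟶ M} (h : LocIso U φ) (h' : LocIso U ψ) :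
    LocIso U (φ ≫ ψ) := fun i x hx => by
  haveI := h i x hx
  haveI := h' i x hx
  rw [Functor.map_comp]
  infer_instance

/-- A map of objects supported in an open that is an isomorphism there. -/
lemma isIso_of_supp {U : X.Opens} {K L : DCoh.D X} (φ : K ⟶ L) (hK : Supp U K) (hL : Supp U L)
    (h : LocIso U φ) : IsIso φ := by
  rw [DerivedCategory.isIso_iff]
  intro i
  rw [QCohLib.isIso_iff_stalk_bijective]
  intro x
  rw [← isIso_hs_iff]
  by_cases hx : x ∈ U
  · exact h i x hx
  · exact ⟨⟨0, (hK i x hx).eq_of_src _ _, (hL i x hx).eq_of_src _ _⟩⟩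

lemma supp_jSD (U : X.Opens) (A : DCoh.D (U : Scheme.{u})) : Supp U ((jSD U).obj A) := fun i x hx => by
  let P := DerivedCategory.Q.objPreimage A
  let e : (jSD U).obj A ≅ DerivedCategory.Q.obj (((jS U).mapHomologicalComplex (ComplexShape.up ℤ)).obj P) :=
    (jSD U).mapIso (DerivedCategory.Q.objObjPreimageIso A).symm ≪≫ (jS U).mapDerivedCategoryFactors.app P
  exact (isZero_stalk_jS U (P.homology i) hx).of_iso ((DerSch.stalkFunctor X x).mapIso
    ((DerivedCategory.homologyFunctor X.Modules i).mapIso e ≪≫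
      (DerivedCategory.homologyFunctorFactors X.Modules i).app _ ≪≫ (P.sc i).mapHomologyIso (jS U)))

instance isIso_jSDAdj_unit (U : X.Opens) : IsIso (jSDAdj U).unit := by
  haveI : ∀ P : HomotopyCategory (U : Scheme.{u}).Modules (ComplexShape.up ℤ),
      IsIso ((jSDAdj U).unit.app (DerivedCategory.Qh.obj P)) := fun P => by
    haveI : IsIso ((DerAdj.mapHomotopyCategoryAdj (jSAdj U)).unit.app P) := by
      haveI : ∀ k, IsIso ((DerAdj.complexUnit (jSAdj U) P.as).f k) := fun k =>
        inferInstanceAs (IsIso ((jSAdj U).unit.app (P.as.X k)))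
      haveI : IsIso (DerAdj.complexUnit (jSAdj U) P.as) := HomologicalComplex.Hom.isIso_of_components _
      exact inferInstanceAs (IsIso ((HomotopyCategory.quotient _ _).map (DerAdj.complexUnit (jSAdj U) P.as)))
    rw [jSDAdj, Adjunction.localization_unit_app]
    infer_instance
  haveI : ∀ A, IsIso ((jSDAdj U).unit.app A) := fun A =>
    (NatTrans.isIso_app_iff_of_iso _ ((DerivedCategory.Qh (C := (U : Scheme.{u}).Modules)).objObjPreimageIso A)).1
      inferInstance
  exact NatIso.isIso_of_isIso_app _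

lemma locIso_counit (U : X.Opens) (K : DCoh.D X) : LocIso U ((jSDAdj U).counit.app K) := by
  rw [← isIso_rD_iff]
  have h := (jSDAdj U).right_triangle_components K
  haveI : IsIso ((jSDAdj U).unit.app ((ModGroth.Perf.rD U).obj K) ≫
      (ModGroth.Perf.rD U).map ((jSDAdj U).counit.app K)) := by rw [h]; exact IsIso.id _
  exact IsIso.of_isIso_comp_left ((jSDAdj U).unit.app _) _

/-- `j_! j^*`. -/
noncomputable abbrev EU (U : X.Opens) : DCoh.D X ⥤ DCoh.D X := ModGroth.Perf.rD U ⋙ jSD U

lemma isIso_EU_map {U : X.Opens} {K L : DCoh.D X} {φ : K ⟶ L} (h : LocIso U φ) : IsIso ((EU U).map φ) := by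
  haveI := (isIso_rD_iff U φ).2 h
  exact inferInstanceAs (IsIso ((jSD U).map ((ModGroth.Perf.rD U).map φ)))

/-- An object supported in `U` mapping to `K` isomorphically over `U` is `j_! j^* K`. -/
theorem nonempty_iso_EU {U : X.Opens} {K' K : DCoh.D X} (φ : K' ⟶ K) (hK' : Supp U K') (h : LocIso U φ) :
    Nonempty (K' ≅ (EU U).obj K) := by
  haveI := isIso_EU_map h
  haveI := isIso_of_supp _ (supp_jSD U _) hK' (locIso_counit U K')
  exact ⟨(asIso ((jSDAdj U).counit.app K')).symm ≪≫ asIso ((EU U).map φ)⟩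

/-- The induction over quasi-compact opens. -/
theorem facGE_EU_of_local (K : DCoh.D X) [QuasiSeparatedSpace X]
    (U : X.Opens) (hU : IsCompact (U : Set X))
    (h : ∀ x ∈ U, ∃ V : X.Opens, x ∈ V ∧ ∀ U' : X.Opens, U' ≤ V → IsCompact (U' : Set X) → FacGE ((EU U').obj K)) :
    FacGE ((EU U).obj K) := by
  have hgood : ∀ V : X.Opens, (∀ U : X.Opens, U ≤ V → IsCompact (U : Set X) → FacGE ((EU U).obj K)) →
      ∀ A B : X.Opens, IsCompact (A : Set X) → IsCompact (B : Set X) → B ≤ V → FacGE ((EU A).obj K) →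
        FacGE ((EU (A ⊔ B)).obj K) := by
    intro V hV A B hA hB hBV hgA
    let W := A ⊔ B
    let L := (EU W).obj K
    obtain ⟨C, β, γ, hT⟩ := Pretriangulated.distinguished_cocone_triangle ((jSDAdj A).counit.app L)
    let T := Triangle.mk ((jSDAdj A).counit.app L) β γ
    have hκ : LocIso W ((jSDAdj W).counit.app K) := locIso_counit W K
    have h₁ : FacGE ((EU A).obj L) := by
      haveI := isIso_EU_map (hκ.mono (le_sup_left : A ≤ W))
      exact hgA.of_iso (asIso ((EU A).map ((jSDAdj W).counit.app K))).symm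
    have hC : ∀ (i : ℤ) (x : X), x ∈ A ∨ x ∉ W → IsZero ((hs x i).obj C) := fun i x hx => by
      have hex := ((DerivedCategory.HomologySequence.exact₃ T hT i (i + 1) rfl).map (DerSch.stalkFunctor X x))
      rcases hx with hx | hx
      · haveI hi : IsIso ((hs x i).map T.mor₁) := locIso_counit A L i x hx
        haveI hi' : IsIso ((hs x (i + 1)).map T.mor₁) := locIso_counit A L (i + 1) x hx
        have h₂ := ((DerivedCategory.HomologySequence.exact₂ T hT i).map (DerSch.stalkFunctor X x))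
        have h₄ := ((DerivedCategory.HomologySequence.exact₁ T hT i (i + 1) rfl).map (DerSch.stalkFunctor X x))
        have z : ∀ {S : ShortComplex (ModuleCat.{u} (X.presheaf.stalk x))} (_ : S.Exact), S.f ≫ S.g = 0 := fun {S} _ => S.zero
        refine hex.isZero_X₂ ((cancel_epi ((hs x i).map T.mor₁)).1 ?_) ((cancel_mono ((hs x (i + 1)).map T.mor₁)).1 ?_)
        · exact (z h₂).trans comp_zero.symm
        · exact (z h₄).trans zero_comp.symm
      · exact hex.isZero_X₂ ((supp_jSD W _ i x hx).eq_of_src _ _)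
          ((supp_jSD A _ (i + 1) x fun hA' => hx (le_sup_left (a := A) (b := B) hA')).eq_of_tgt _ _)
    refine FacGE.ext₂ T hT h₁ ?_
    have hB' : Supp B C := fun i x hx => hC i x (by
      by_cases hxA : x ∈ A
      · exact Or.inl hxA
      · exact Or.inr fun hxW => hx (hxW.resolve_left hxA))
    have hεC : IsIso ((jSDAdj B).counit.app C) := isIso_of_supp _ (supp_jSD B _) hB' (locIso_counit B C)
    refine FacGE.of_iso (@asIso _ _ _ _ ((jSDAdj B).counit.app C) hεC) ?_
    refine FacGE.ext₃ ((EU B).mapTriangle.obj T) ((EU B).map_distinguished T hT) ?_ ?_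
    · have hs' : Supp (A ⊓ B) ((EU B).obj ((EU A).obj L)) := fun i x hx => by
        by_cases hxB : x ∈ B
        · haveI := locIso_counit B ((EU A).obj L) i x hxB
          exact (supp_jSD A _ i x fun hxA => hx ⟨hxA, hxB⟩).of_iso (asIso ((hs x i).map ((jSDAdj B).counit.app _)))
        · exact supp_jSD B _ i x hxB
      have hl : LocIso (A ⊓ B) ((jSDAdj B).counit.app ((EU A).obj L) ≫ (jSDAdj A).counit.app L ≫
          (jSDAdj W).counit.app K) :=
        ((locIso_counit B _).mono inf_le_right).comp (((locIso_counit A L).mono inf_le_left).comp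
          (hκ.mono (inf_le_left.trans le_sup_left)))
      obtain ⟨e⟩ := nonempty_iso_EU _ hs' hl
      exact (hV (A ⊓ B) (inf_le_right.trans hBV)
        (QuasiSeparatedSpace.inter_isCompact _ _ A.2 hA B.2 hB)).of_iso e.symm
    · haveI := isIso_EU_map (hκ.mono (le_sup_right : B ≤ W))
      exact (hV B hBV hB).of_iso (asIso ((EU B).map ((jSDAdj W).counit.app K))).symm
  have hbot : FacGE ((EU (⊥ : X.Opens)).obj K) := by
    refine facGE_of_isZero ?_
    rw [IsZero.iff_id_eq_zero]
    haveI := isIso_of_supp (0 : (EU (⊥ : X.Opens)).obj K ⟶ (EU (⊥ : X.Opens)).obj K) (supp_jSD _ _) (supp_jSD _ _)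
      fun i x hx => hx.elim
    exact (cancel_mono (0 : (EU (⊥ : X.Opens)).obj K ⟶ (EU (⊥ : X.Opens)).obj K)).1 (by simp)
  have key := SpecColim.induction_compact (X := CohVanish.sp X) hU
    (fun A => ∀ B : X.Opens, IsCompact (B : Set X) → FacGE ((EU B).obj K) → FacGE ((EU (B ⊔ A : X.Opens)).obj K))
    (fun B _ hB => by rwa [sup_bot_eq])
    (fun A A' _ _ hA hA' h₁ h₂ B hBc hB => by
      rw [← sup_assoc]
      exact h₂ _ (by rw [TopologicalSpace.Opens.coe_sup]; exact hBc.union hA) (h₁ B hBc hB))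
    (fun x hx => by
      obtain ⟨V, hxV, hV⟩ := h x hx
      obtain ⟨W, hxW, hW, hWc⟩ := SpecColim.exists_compact_nbhd (X := CohVanish.sp X) (W := U ⊓ V) (x := x) ⟨hx, hxV⟩
      exact ⟨W, hxW, hW.trans inf_le_left, hWc, fun B hBc hB => hgood V hV B W hBc hWc (hW.trans inf_le_right) hB⟩)
    ⊥ (by simp) hbot
  rwa [bot_sup_eq] at key

end Groth.Agent.DQC
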