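import Groth.Agent.DQC.CompactCd
import Groth.Agent.DQCPush.Window
import Groth.Agent.DQCPush.Sums

/-!
# Compactness of perfect objects
-/

set_option autoImplicit false
set_option linter.style.haveILetI false

universe u

open CategoryTheory CategoryTheory.Limits CategoryTheory.Pretriangulated AlgebraicGeometry DerivedCategory

attribute [local instance] HasDerivedCategory.standard

namespace Groth.Agent.DQC

open CompactFac
open RlimLib (tge tgeπ isIso_homology_tgeπ isZero_homology_tge)
open DQCPush (isGE_tge)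

variable {X : Scheme.{u}} [CompactSpace X] [QuasiSeparatedSpace X]

/-- All families, given a bound on cohomological dimension. -/
theorem finFac_of_isPerfect {d : ℕ} (hd : ∀ (F : X.Modules) (i : ℕ), d < i → Subsingleton (Coh.HH X F i))
    (K : DCoh.D X) (hK : DCoh.IsPerfect K) {I : Type u} {M : I → DCoh.D X} {c : Cofan M} (hc : IsColimit c)
    (g : K ⟶ c.pt) : FinFac hc g := by
  classical
  obtain ⟨N, hN⟩ := exists_hom_eq_zero_of_isPerfect hd K hK
  let M' : I → DCoh.D X := fun t => tge (N + 1) (M t)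
  haveI := DQCPush.hasCoproduct_D M'
  haveI : HasCoproduct M := ⟨⟨c, hc⟩⟩
  let c' : Cofan M' := Cofan.mk (∐ M') (Sigma.ι M')
  have hc' : IsColimit c' := coproductIsCoproduct M'
  let p : c.pt ⟶ ∐ M' := Cofan.IsColimit.desc hc fun t => tgeπ (N + 1) (M t) ≫ Sigma.ι M' t
  have hp : ∀ t, c.inj t ≫ p = tgeπ (N + 1) (M t) ≫ Sigma.ι M' t := fun t => Cofan.IsColimit.fac hc _ t
  obtain ⟨F, hF⟩ := facGE_of_isPerfect K hK I M' (N + 1) (fun t => isGE_tge (M t) (N + 1)) c' hc' (g ≫ p)
  have hcomm : e hc F ≫ p = p ≫ e hc' F := Cofan.IsColimit.hom_ext hc _ _ fun t => by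
    rw [← Category.assoc, inj_e, ← Category.assoc, hp, Category.assoc,
      show Sigma.ι M' t ≫ e hc' F = _ from inj_e hc' F t]
    split_ifs with ht
    · exact hp t
    · rw [zero_comp, comp_zero]
  obtain ⟨C, β, γ, hT⟩ := Pretriangulated.distinguished_cocone_triangle p
  let T := Triangle.mk p β γ
  obtain ⟨k, hk⟩ := Triangle.coyoneda_exact₂ T.invRotate (inv_rot_of_distTriang _ hT) (g - g ≫ e hc F)
    (show (g - g ≫ e hc F) ≫ p = 0 by rw [Preadditive.sub_comp, Category.assoc, hcomm, ← Category.assoc, hF, sub_self])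
  refine ⟨F, (sub_eq_zero.1 (hk.trans ?_)).symm⟩
  refine (congrArg (· ≫ T.invRotate.mor₁) (hN T.invRotate.obj₁ ?_ k)).trans zero_comp
  have hiso : ∀ i, N + 1 ≤ i → IsIso ((homologyFunctor X.Modules i).map p) := fun i hi => by
    haveI := DQCPush.preservesColimit_HD M i
    haveI := DQCPush.preservesColimit_HD M' i
    let c1 := isColimitCofanMkObjOfIsColimit (homologyFunctor X.Modules i) M c.inj hc
    let c2 := isColimitCofanMkObjOfIsColimit (homologyFunctor X.Modules i) M' c'.inj hc'
    let τ : ∀ t, (homologyFunctor X.Modules i).obj (M t) ≅ (homologyFunctor X.Modules i).obj (M' t) := fun t =>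
      haveI := isIso_homology_tgeπ (M t) hi
      asIso ((homologyFunctor X.Modules i).map (tgeπ (N + 1) (M t)))
    let e' := c1.coconePointsIsoOfNatIso c2 (Discrete.natIso fun t => τ t.as)
    have he : (homologyFunctor X.Modules i).map p = e'.hom := Cofan.IsColimit.hom_ext c1 _ _ fun t => by
      refine Eq.trans ?_ (c1.comp_coconePointsIsoOfNatIso_hom c2 (Discrete.natIso fun t => τ t.as) ⟨t⟩).symm
      exact ((homologyFunctor X.Modules i).map_comp _ _).symm.trans
        ((congrArg (homologyFunctor X.Modules i).map (hp t)).trans ((homologyFunctor X.Modules i).map_comp _ _))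
    rw [he]
    infer_instance
  have hlow : ∀ i, i ≤ N → IsZero ((homologyFunctor X.Modules i).obj (∐ M')) := fun i hi => by
    haveI := DQCPush.preservesColimit_HD M' i
    exact (IsZero.iff_id_eq_zero _).2 (Cofan.IsColimit.hom_ext
      (isColimitCofanMkObjOfIsColimit (homologyFunctor X.Modules i) M' c'.inj hc') _ _
      fun t => (isZero_homology_tge (M t) (by omega : i < N + 1)).eq_of_src _ _)
  intro i hi
  refine IsZero.of_iso ?_ (((homologyFunctor X.Modules 0).shiftIso (-1) i (i - 1) (by omega)).app C)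
  have z : ∀ {S : ShortComplex X.Modules} (_ : S.Exact), S.f ≫ S.g = 0 := fun {S} _ => S.zero
  have hex := HomologySequence.exact₃ T hT (i - 1) i (by omega)
  refine hex.isZero_X₂ ?_ ?_
  · by_cases hi' : i - 1 ≤ N
    · exact (hlow (i - 1) hi').eq_of_src _ _
    · haveI : IsIso ((homologyFunctor X.Modules (i - 1)).map T.mor₁) := hiso (i - 1) (by omega)
      rw [← cancel_epi ((homologyFunctor X.Modules (i - 1)).map T.mor₁), comp_zero]
      exact z (HomologySequence.exact₂ T hT (i - 1))
  · haveI : IsIso ((homologyFunctor X.Modules i).map T.mor₁) := hiso i (by omega)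
    rw [← cancel_mono ((homologyFunctor X.Modules i).map T.mor₁), zero_comp]
    exact z (HomologySequence.exact₁ T hT (i - 1) i (by omega))

/-- The reindexed cofan. -/
theorem bijective_homSum {I : Type u} (M : I → DCoh.D X) [HasCoproduct fun i : ULift.{u + 1} I => M i.down]
    (K : DCoh.D X)
    (h : ∀ (c : Cofan M) (hc : IsColimit c) (g : K ⟶ c.pt), FinFac hc g) :
    Function.Bijective (CohDer.homSumToHomCoprod K fun i : ULift.{u + 1} I => M i.down) := by
  classical
  let M₁ : ULift.{u + 1} I → DCoh.D X := fun i => M i.down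
  let c : Cofan M := Cofan.mk (∐ M₁) fun t => Sigma.ι M₁ ⟨t⟩
  have hc : IsColimit c := mkCofanColimit c (fun s => Sigma.desc (f := M₁) fun i => s.inj i.down)
    (fun s t => Sigma.ι_desc (f := M₁) (fun i => s.inj i.down) ⟨t⟩) (fun s m hm => Sigma.hom_ext (f := M₁) _ _ fun i =>
      (hm i.down).trans (Sigma.ι_desc (f := M₁) (fun i => s.inj i.down) i).symm)
  refine ⟨injective_homSum _, fun g => mem_range_of_finFac g ?_⟩
  obtain ⟨F, hF⟩ := h c hc g
  refine ⟨F.map Equiv.ulift.symm.toEmbedding, ?_⟩
  suffices he : e (coproductIsCoproduct M₁) (F.map Equiv.ulift.symm.toEmbedding) = e hc F by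
    show g ≫ e (coproductIsCoproduct M₁) _ = g
    rw [he, hF]
  refine Sigma.hom_ext _ _ fun i => ?_
  refine (inj_e (coproductIsCoproduct M₁) _ i).trans (Eq.trans ?_ (inj_e hc F i.down).symm)
  by_cases hi : i.down ∈ F
  · have hm : i ∈ F.map Equiv.ulift.symm.toEmbedding := Finset.mem_map.2 ⟨i.down, hi, rfl⟩
    rw [if_pos hi, if_pos hm]
    rfl
  · rw [if_neg hi, if_neg fun hm => hi (by
      obtain ⟨j, hj, rfl⟩ := Finset.mem_map.1 hm
      exact hj)]

end Groth.Agent.DQC
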