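import Groth.Agent.DQC.CompactLocal

/-!
# Perfect objects and bounded below direct sums
-/

set_option autoImplicit false
set_option linter.style.haveILetI false

universe u

open CategoryTheory CategoryTheory.Limits CategoryTheory.Pretriangulated AlgebraicGeometry HomologicalComplex

attribute [local instance] HasDerivedCategory.standard

namespace Groth.Agent.DQC

open DQCPush (oMod sO)

variable {X : Scheme.{u}}

/-- The single-degree complexes of modules as derived objects. -/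
noncomputable abbrev qS (X : Scheme.{u}) (M : X.Modules) : DCoh.D X :=
  DerivedCategory.Q.obj ((single X.Modules (ComplexShape.up ℤ) 0).obj M)

/-- Restriction of an object in one degree. -/
noncomputable def rDqS (U : X.Opens) (M : X.Modules) :
    (ModGroth.Perf.rD U).obj (qS X M) ≅ qS (U : Scheme.{u}) ((Scheme.Modules.restrictFunctor U.ι).obj M) :=
  (Scheme.Modules.restrictFunctor U.ι).mapDerivedCategoryFactors.app _ ≪≫
    DerivedCategory.Q.mapIso
      ((HomologicalComplex.singleMapHomologicalComplex (Scheme.Modules.restrictFunctor U.ι) (ComplexShape.up ℤ) 0).app M)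

/-- Free modules restrict to free modules. -/
noncomputable def restrictFreeIso {Y : Scheme.{u}} (j : Y ⟶ X) [IsOpenImmersion j] (r : ℕ) :
    (Scheme.Modules.restrictFunctor j).obj (FlatMod.freeMod X r) ≅ FlatMod.freeMod Y r :=
  haveI : PreservesColimitsOfSize.{0, 0} (Scheme.Modules.restrictFunctor j) :=
    (Scheme.Modules.restrictAdjunction j).leftAdjoint_preservesColimits
  PreservesCoproduct.iso _ _ ≪≫ Sigma.mapIso fun _ => Scheme.Modules.restrictUnitIso j

theorem facGE_EU_unit [QuasiSeparatedSpace X] (U : X.Opens) (hU : IsCompact (U : Set X)) :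
    FacGE ((EU U).obj (qS X (oMod X))) := by
  haveI : CompactSpace (U : Scheme.{u}) := isCompact_iff_compactSpace.1 hU
  haveI : QuasiSeparatedSpace (U : Scheme.{u}) := QuasiSeparatedSpace.of_isOpenEmbedding U.isOpenEmbedding
  refine facGE_jSD U ?_
  have h : FacGE (qS (U : Scheme.{u}) (oMod (U : Scheme.{u}))) := fun I M a hM c hc g => finFac_unit a hM hc g
  exact h.of_iso ((rDqS U (oMod X)).trans (DerivedCategory.Q.mapIso ((single _ (ComplexShape.up ℤ) 0).mapIso
    (Scheme.Modules.restrictUnitIso U.ι)))).symm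

/-- Pointwise stalks of restrictions. -/
theorem isIso_hs_rD (U : X.Opens) {K L : DCoh.D X} (φ : K ⟶ L) (y : (U : Scheme.{u})) (i : ℤ) :
    IsIso ((hs y i).map ((ModGroth.Perf.rD U).map φ)) ↔ IsIso ((hs (U.ι y) i).map φ) := by
  let ν := DQCPush.HDRestrictNatIso U.ι i
  have e : IsIso ((hs y i).map ((ModGroth.Perf.rD U).map φ)) ↔
      IsIso ((DerSch.stalkFunctor (U : Scheme.{u}) y).map ((Scheme.Modules.restrictFunctor U.ι).map
        ((DerivedCategory.homologyFunctor X.Modules i).map φ))) :=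
    NatIso.isIso_map_iff (Functor.isoWhiskerRight ν (DerSch.stalkFunctor (U : Scheme.{u}) y)) φ
  rw [e, isIso_hs_iff, ConcreteCategory.isIso_iff_bijective]
  change Function.Bijective (QCohLib.stalkHom _ y) ↔ _
  refine ⟨fun h => ⟨fun a b hab => ?_, fun b => ?_⟩, fun h => ⟨fun a b hab => ?_, fun b => ?_⟩⟩
  · obtain ⟨a, rfl⟩ := (QCohLib.restrictStalkIso_bijective U.ι _ y).2 a
    obtain ⟨b, rfl⟩ := (QCohLib.restrictStalkIso_bijective U.ι _ y).2 b
    exact congrArg _ (h.1 ((QCohLib.restrictStalkIso_bijective U.ι _ y).1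
      ((QCohLib.stalkHom_restrict U.ι _ y a).trans (hab.trans (QCohLib.stalkHom_restrict U.ι _ y b).symm))))
  · obtain ⟨n, rfl⟩ := (QCohLib.restrictStalkIso_bijective U.ι _ y).2 b
    obtain ⟨m, rfl⟩ := h.2 n
    exact ⟨_, (QCohLib.stalkHom_restrict U.ι _ y m).symm⟩
  · exact (QCohLib.restrictStalkIso_bijective U.ι _ y).1 (h.1 ((QCohLib.stalkHom_restrict U.ι _ y a).symm.trans
      ((congrArg _ hab).trans (QCohLib.stalkHom_restrict U.ι _ y b))))
  · obtain ⟨a, ha⟩ := h.2 ((QCohLib.restrictStalkIso U.ι _ y).hom b)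
    obtain ⟨a, rfl⟩ := (QCohLib.restrictStalkIso_bijective U.ι _ y).2 a
    exact ⟨a, (QCohLib.restrictStalkIso_bijective U.ι _ y).1 ((QCohLib.stalkHom_restrict U.ι _ y a).trans ha)⟩

theorem locIso_jSD_map (V : X.Opens) (W : (V : Scheme.{u}).Opens) {A B : DCoh.D (V : Scheme.{u})} (ψ : A ⟶ B)
    (h : LocIso W ψ) : LocIso (V.ι ''ᵁ W) ((jSD V).map ψ) := by
  rintro i x ⟨y, hy, rfl⟩
  exact (isIso_hs_rD V _ y i).1 ((NatIso.isIso_map_iff (Functor.isoWhiskerRight (asIso (jSDAdj V).unit) (hs y i)) ψ).1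
    (h i y hy))

theorem locIso_of_isIso (U : X.Opens) {K L : DCoh.D X} (φ : K ⟶ L) [IsIso φ] : LocIso U φ :=
  fun _ _ _ => inferInstance

section

variable [QuasiSeparatedSpace X] (V : X.Opens)

/-- The good objects over `V`. -/
def GoodV (A : DCoh.D (V : Scheme.{u})) : Prop :=
  ∀ U : X.Opens, U ≤ V → IsCompact (U : Set X) → FacGE ((EU U).obj ((jSD V).obj A))

theorem GoodV.of_iso {A B : DCoh.D (V : Scheme.{u})} (e : A ≅ B) (h : GoodV V A) : GoodV V B :=
  fun U hU hc => (h U hU hc).of_iso ((jSD V ⋙ EU U).mapIso e)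

theorem GoodV.ext₂ (T : Triangle (DCoh.D (V : Scheme.{u}))) (hT : T ∈ distTriang _) (h₁ : GoodV V T.obj₁)
    (h₃ : GoodV V T.obj₃) : GoodV V T.obj₂ := fun U hU hc =>
  FacGE.ext₂ ((EU U).mapTriangle.obj ((jSD V).mapTriangle.obj T))
    ((EU U).map_distinguished _ ((jSD V).map_distinguished T hT)) (h₁ U hU hc) (h₃ U hU hc)

theorem GoodV.shift {A : DCoh.D (V : Scheme.{u})} (h : GoodV V A) (n : ℤ) : GoodV V (A⟦n⟧) := fun U hU hc =>
  ((h U hU hc).shift n).of_iso (((jSD V ⋙ EU U).commShiftIso n).app A).symm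

theorem goodV_of_isZero {A : DCoh.D (V : Scheme.{u})} (h : IsZero A) : GoodV V A := fun U _ _ =>
  facGE_of_isZero (Functor.map_isZero (jSD V ⋙ EU U) h)

theorem goodV_unit : GoodV V (qS (V : Scheme.{u}) (oMod (V : Scheme.{u}))) := by
  let e : qS (V : Scheme.{u}) (oMod (V : Scheme.{u})) ≅ (ModGroth.Perf.rD V).obj (qS X (oMod X)) :=
    ((rDqS V (oMod X)).trans (DerivedCategory.Q.mapIso ((single _ (ComplexShape.up ℤ) 0).mapIso
      (Scheme.Modules.restrictUnitIso V.ι)))).symm
  refine GoodV.of_iso V e.symm fun U hU hc => ?_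
  haveI := isIso_EU_map ((locIso_counit V (qS X (oMod X))).mono hU)
  exact (facGE_EU_unit U hc).of_iso (asIso ((EU U).map ((jSDAdj V).counit.app (qS X (oMod X))))).symm

theorem goodV_free : ∀ r : ℕ, GoodV V (qS (V : Scheme.{u}) (FlatMod.freeMod (V : Scheme.{u}) r))
  | 0 => goodV_of_isZero V (Functor.map_isZero _ (Functor.map_isZero _
      ((IsZero.iff_id_eq_zero _).2 (Sigma.hom_ext _ _ fun i => i.elim0))))
  | r + 1 => by
    have hS := ((freeSeqSplitting (V : Scheme.{u}) r).map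
      (single (V : Scheme.{u}).Modules (ComplexShape.up ℤ) 0)).shortExact
    exact GoodV.ext₂ V _ (DerivedCategory.triangleOfSES_distinguished hS) (goodV_free r) (goodV_unit V)

theorem goodV_finLocFree {M : (V : Scheme.{u}).Modules} (hM : FlatMod.IsFinLocFree M) :
    GoodV V (qS (V : Scheme.{u}) M) := by
  intro U hU hc
  refine facGE_EU_of_local _ U hc fun x hx => ?_
  obtain ⟨W, r, hy, ⟨i⟩⟩ := hM (⟨x, hU hx⟩ : (V : Scheme.{u}))
  have hle : V.ι ''ᵁ W ≤ V := by
    rintro _ ⟨y, -, rfl⟩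
    exact y.2
  refine ⟨V.ι ''ᵁ W, ⟨_, hy, rfl⟩, fun U' hU' hc' => ?_⟩
  let R := ModGroth.Perf.rD W
  let e : R.obj (qS (V : Scheme.{u}) (FlatMod.freeMod (V : Scheme.{u}) r)) ≅ R.obj (qS (V : Scheme.{u}) M) :=
    rDqS W _ ≪≫ DerivedCategory.Q.mapIso ((single _ (ComplexShape.up ℤ) 0).mapIso (restrictFreeIso W.ι r ≪≫ i.symm)) ≪≫
      (rDqS W M).symm
  let ψ := (jSDAdj W).counit.app (qS (V : Scheme.{u}) (FlatMod.freeMod (V : Scheme.{u}) r))
  let ψ' := (jSD W).map e.hom ≫ (jSDAdj W).counit.app (qS (V : Scheme.{u}) M)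
  have h' : LocIso W ψ' := (locIso_of_isIso W _).comp (locIso_counit W _)
  haveI := isIso_EU_map ((locIso_jSD_map V W ψ (locIso_counit W _)).mono hU')
  haveI := isIso_EU_map ((locIso_jSD_map V W ψ' h').mono hU')
  exact (goodV_free V r U' (hU'.trans hle) hc').of_iso
    ((asIso ((EU U').map ((jSD V).map ψ))).symm ≪≫ asIso ((EU U').map ((jSD V).map ψ')))

theorem goodV_single {M : (V : Scheme.{u}).Modules} (hM : FlatMod.IsFinLocFree M) (b : ℤ) :
    GoodV V (DerivedCategory.Q.obj ((single (V : Scheme.{u}).Modules (ComplexShape.up ℤ) b).obj M)) :=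
  GoodV.of_iso V (((shiftFunctor _ (-b)).mapIso (PCohLib.singleQIso 0 M)) ≪≫
    (((DerivedCategory.singleFunctors _).shiftIso (-b) b 0 (by omega)).app M) ≪≫ (PCohLib.singleQIso b M).symm)
    ((goodV_finLocFree V hM).shift V (-b))

theorem goodV_of_isStrictlyPerfect {E : CochainComplex (V : Scheme.{u}).Modules ℤ} (hE : DCoh.IsStrictlyPerfect E) :
    GoodV V (DerivedCategory.Q.obj E) := by
  obtain ⟨⟨a, b, hz⟩, hl⟩ := hE
  obtain ⟨k, hk⟩ : ∃ k : ℕ, b - a < k := ⟨(b - a + 1).toNat, by omega⟩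
  induction k generalizing E b with
  | zero =>
    exact goodV_of_isZero V (DerivedCategory.Q.map_isZero
      ((IsZero.iff_id_eq_zero _).2 (HomologicalComplex.hom_ext _ _ fun i => (hz i (by omega)).eq_of_src _ _)))
  | succ k ih =>
    obtain ⟨S, hS, h1, h2, h3, h3'⟩ := PCohLib.exists_ses_top E b (hz (b + 1) (Or.inr (by omega)))
    have hz3 : ∀ i, i < a ∨ b - 1 < i → IsZero (S.X₃.X i) := fun i hi => by
      by_cases hib : i = b
      · exact hib ▸ h3
      · exact (hz i (by omega)).of_iso (h3' i hib).some.symm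
    have hl3 : ∀ i, FlatMod.IsFinLocFree (S.X₃.X i) := fun i => by
      by_cases hib : i = b
      · exact ModGroth.Perf.isFinLocFree_of_isZero (hib ▸ h3)
      · exact isFinLocFree_congr (h3' i hib).some (hl i)
    subst h2
    refine GoodV.ext₂ V _ (DerivedCategory.triangleOfSES_distinguished hS) ?_ (ih hl3 (b - 1) hz3 (by omega))
    show GoodV V (DerivedCategory.Q.obj S.X₁)
    rw [h1]
    exact goodV_single V (hl b) b

end

/-- Perfect objects are compact for uniformly bounded below sums. -/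
theorem facGE_of_isPerfect [CompactSpace X] [QuasiSeparatedSpace X] (K : DCoh.D X) (hK : DCoh.IsPerfect K) :
    FacGE K := by
  have h := facGE_EU_of_local K ⊤ (by simpa using isCompact_univ (X := X)) fun x _ => by
    obtain ⟨V, hx, E, hE, ⟨e⟩⟩ := (ModGroth.Perf.isPerfect_iff K).1 hK x
    refine ⟨V, hx, fun U hU hc => ?_⟩
    let φ := (jSD V).map e.inv ≫ (jSDAdj V).counit.app K
    haveI := isIso_EU_map (((locIso_of_isIso V ((jSD V).map e.inv)).comp (locIso_counit V K)).mono hU)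
    exact (goodV_of_isStrictlyPerfect V hE U hU hc).of_iso (asIso ((EU U).map φ))
  haveI : IsIso ((jSDAdj (⊤ : X.Opens)).counit.app K) :=
    isIso_of_supp _ (supp_jSD _ _) (fun i x hx => absurd trivial hx) (locIso_counit ⊤ K)
  exact h.of_iso (asIso ((jSDAdj (⊤ : X.Opens)).counit.app K))

end Groth.Agent.DQC
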