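import Groth.Agent.DQC.CompactMain
import Groth.Agent.DQC.Affine
import Groth.Agent.DQCPush.QCohD
import Groth.Agent.DerAdj.LpullRpush
import Groth.Agent.ModGroth.FinLocFree

/-!
# Perfect objects against quasi-coherent objects far below
-/

set_option autoImplicit false
set_option linter.style.haveILetI false

universe u

open CategoryTheory CategoryTheory.Limits CategoryTheory.Pretriangulated AlgebraicGeometry HomologicalComplex

attribute [local instance] HasDerivedCategory.standard

namespace Groth.Agent.DQC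

open DQCPush (oMod sO)

/-- `Hom(O, L) = 0` on an affine scheme. -/
theorem hom_unit_eq_zero_affine (R : CommRingCat.{u}) {L : DCoh.D (Spec R)} (hq : DCoh.IsQCohD L) {N : ℤ}
    (hL : HighZero N L) (hN : N < 0) (g : qS (Spec R) (oMod (Spec R)) ⟶ L) : g = 0 := by
  obtain ⟨M, ⟨e⟩⟩ := (isQCohD_iff R L).1 hq
  obtain ⟨P, ⟨eP⟩⟩ : ∃ P, Nonempty (DerivedCategory.Q.obj P ≅ M) := ⟨_, ⟨DerivedCategory.Q.objObjPreimageIso M⟩⟩
  have hP : P.IsLE (-1) := (CochainComplex.isLE_iff P (-1)).2 fun i hi => by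
    rw [HomologicalComplex.exactAt_iff_isZero_homology]
    have h1 : IsZero (((tilde.functor R).mapHomologicalComplex (ComplexShape.up ℤ)).obj P |>.homology i) :=
      (hL i (by omega)).of_iso (((DerivedCategory.homologyFunctorFactors _ i).app _).symm ≪≫
        (DerivedCategory.homologyFunctor (Spec R).Modules i).mapIso
          (((tilde.functor R).mapDerivedCategoryFactors.app P).symm ≪≫ (DCoh.tildeD R).mapIso eP ≪≫ e))
    have h2 : IsZero ((tilde.functor R).obj (P.homology i)) := h1.of_iso ((P.sc i).mapHomologyIso (tilde.functor R)).symm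
    rw [IsZero.iff_id_eq_zero] at h2 ⊢
    apply (tilde.functor R).map_injective
    rw [CategoryTheory.Functor.map_id, h2, Functor.map_zero]
  haveI := (DerivedCategory.isLE_Q_obj_iff P (-1)).2 hP
  obtain ⟨P', hP', ⟨eP'⟩⟩ := (DerivedCategory.Q.obj P).exists_iso_Q_obj_of_isLE (-1)
  haveI := full_tildeD R
  let A₀ : CochainComplex (ModuleCat.{u} R) ℤ := (single _ (ComplexShape.up ℤ) 0).obj (ModuleCat.of R R)
  let eO : (DCoh.tildeD R).obj (DerivedCategory.Q.obj A₀) ≅ qS (Spec R) (oMod (Spec R)) :=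
    (tilde.functor R).mapDerivedCategoryFactors.app A₀ ≪≫ DerivedCategory.Q.mapIso
      ((HomologicalComplex.singleMapHomologicalComplex (tilde.functor R) (ComplexShape.up ℤ) 0).app _ ≪≫
        (single _ (ComplexShape.up ℤ) 0).mapIso tildeSelf)
  let E : (DCoh.tildeD R).obj (DerivedCategory.Q.obj P') ≅ L :=
    (DCoh.tildeD R).mapIso (eP'.symm ≪≫ eP) ≪≫ e
  obtain ⟨h, hh⟩ := (DCoh.tildeD R).map_surjective (eO.hom ≫ g ≫ E.inv)
  haveI : A₀.IsKProjective := by
    haveI : ∀ n, Projective (A₀.X n) := fun n => by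
      by_cases hn : n = 0
      · subst hn
        exact Projective.of_iso (singleObjXSelf (ComplexShape.up ℤ) 0 (ModuleCat.of R R)).symm inferInstance
      · exact Projective.of_iso (isZero_single_obj_X (ComplexShape.up ℤ) 0 (ModuleCat.of R R) n hn).isoZero.symm inferInstance
    haveI : A₀.IsStrictlyLE 0 := (CochainComplex.isStrictlyLE_iff _ _).2 fun i hi =>
      isZero_single_obj_X (ComplexShape.up ℤ) 0 (ModuleCat.of R R) i hi.ne'
    exact CochainComplex.isKProjective_of_projective A₀ 0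
  let q := HomotopyCategory.quotient (ModuleCat.{u} R) (ComplexShape.up ℤ)
  let w := DerivedCategory.quotientCompQhIso (ModuleCat.{u} R)
  obtain ⟨f', hf'⟩ := (CochainComplex.IsKProjective.Qh_map_bijective A₀ (q.obj P')).2
    (w.hom.app A₀ ≫ h ≫ w.inv.app P')
  obtain ⟨f₀, rfl⟩ := q.map_surjective f'
  have hf0 : f₀ = 0 := HomologicalComplex.from_single_hom_ext
    ((CochainComplex.isZero_of_isStrictlyLE P' (-1) 0 (by omega)).eq_of_tgt _ _)
  have hh0 : h = 0 := by
    rw [hf0, Functor.map_zero, Functor.map_zero] at hf'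
    rw [← cancel_mono (w.inv.app P'), ← cancel_epi (w.hom.app A₀), zero_comp, comp_zero]
    exact hf'.symm
  rw [hh0, Functor.map_zero] at hh
  rw [← cancel_mono E.inv, ← cancel_epi eO.hom, zero_comp, comp_zero]
  exact hh.symm

variable {X : Scheme.{u}} [CompactSpace X] [QuasiSeparatedSpace X]

/-- `Hom(O, L) = 0` for quasi-coherent `L` far below. -/
theorem exists_hom_unit_eq_zero : ∃ N : ℤ, ∀ L : DCoh.D X, DCoh.IsQCohD L → HighZero N L →
    ∀ g : qS X (oMod X) ⟶ L, g = 0 := by
  haveI := HigherDirect.hasInjectiveResolutions_modules X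
  let f := X.toSpecΓ
  obtain ⟨b, hb⟩ := DQCPush.exists_Bound f
  haveI := ModGroth.Stalk.hasLpull f
  haveI := DQCPush.hasRpush f
  obtain ⟨adj⟩ := DerAdj.nonempty_Lpull_adj_Rpush f
  refine ⟨-(b : ℤ) - 1, fun L hL hN g => ?_⟩
  haveI : (DCoh.Lpull f).Additive := additive_of_adj adj
  haveI : L.IsLE (-(b : ℤ) - 1) := by
    rw [DerivedCategory.isLE_iff]
    exact fun i hi => hN i hi
  let eO : (DCoh.Lpull f).obj (qS (Spec Γ(X, ⊤)) (oMod _)) ≅ qS X (oMod X) :=
    ModGroth.Stalk.lpullValueIso f (DQCPush.isKFlat_sO 0) ≪≫ DerivedCategory.Q.mapIso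
      ((HomologicalComplex.singleMapHomologicalComplex (Scheme.Modules.pullback f) (ComplexShape.up ℤ) 0).app _ ≪≫
        (single _ (ComplexShape.up ℤ) 0).mapIso (QCohLib.pullbackUnitIso f))
  have h0 := hom_unit_eq_zero_affine Γ(X, ⊤) (DQCPush.isQCohD_Rpush f L hL) (N := -1)
    (fun i hi => DQCPush.isZero_HD_Rpush_high f hb L hL (-(b : ℤ) - 1) i (by omega)) (by omega)
    (adj.homAddEquiv _ _ (eO.hom ≫ g))
  rw [AddEquiv.map_eq_zero_iff, Preadditive.IsIso.comp_left_eq_zero] at h0
  exact h0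

/-- Perfect objects see only finitely many degrees below among quasi-coherent objects. -/
theorem exists_hom_eq_zero_qc (K : DCoh.D X) (hK : DCoh.IsPerfect K) :
    ∃ N : ℤ, ∀ L : DCoh.D X, DCoh.IsQCohD L → HighZero N L → ∀ g : K ⟶ L, g = 0 := by
  obtain ⟨P, hP, -, ⟨eP⟩⟩ := ModGroth.Amp.exists_rep K
  haveI := ModGroth.hasLTensorCx P
  haveI := hasRSheafHom P
  haveI : (DCoh.LTensorCx P).Additive := additive_of_adj (DCoh.RSheafHomAdj P)
  have hKP : DCoh.IsPerfect (DCoh.toD X P) := DCohPerf.isPerfect_of_iso hK eP.symm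
  obtain ⟨c, hc⟩ := exists_homLE_of_isPerfect P hKP
  obtain ⟨N, hN⟩ := exists_hom_unit_eq_zero (X := X)
  refine ⟨N - c, fun L hq hL g => ?_⟩
  have h0 := hN _ ((homQC_of_isPerfect P hKP).qcoh L hq) (fun i hi => hc.le L _ hL i (by omega))
    ((DCoh.RSheafHomAdj P).homAddEquiv _ _ ((unitLTenIso P hP).hom ≫ eP.hom ≫ g))
  rw [AddEquiv.map_eq_zero_iff, Preadditive.IsIso.comp_left_eq_zero, Preadditive.IsIso.comp_left_eq_zero] at h0
  exact h0

section Sums

open CompactFac
open RlimLib (tge tgeπ isIso_homology_tgeπ isZero_homology_tge)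
open DQCPush (isGE_tge)

/-- Families with quasi-coherent cohomology. -/
theorem finFac_qc_of_isPerfect
    (K : DCoh.D X) (hK : DCoh.IsPerfect K) {I : Type u} {M : I → DCoh.D X} (hM : ∀ t, DCoh.IsQCohD (M t))
    {c : Cofan M} (hc : IsColimit c) (g : K ⟶ c.pt) : FinFac hc g := by
  classical
  obtain ⟨N, hN⟩ := exists_hom_eq_zero_qc K hK
  let M' : I → DCoh.D X := fun t => tge (N + 1) (M t)
  haveI := DQCPush.hasCoproduct_D M'
  haveI : HasCoproduct M := ⟨⟨c, hc⟩⟩
  let c' : Cofan M' := Cofan.mk (∐ M') (Sigma.ι M')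
  have hc' : IsColimit c' := coproductIsCoproduct M'
  let p : c.pt ⟶ ∐ M' := Cofan.IsColimit.desc hc fun t => tgeπ (N + 1) (M t) ≫ Sigma.ι M' t
  have hp : ∀ t, c.inj t ≫ p = tgeπ (N + 1) (M t) ≫ Sigma.ι M' t := fun t => Cofan.IsColimit.fac hc _ t
  obtain ⟨F, hF⟩ := facGE_of_isPerfect K hK I M' (N + 1) (fun t => isGE_tge (M t) (N + 1)) c' hc' (g ≫ p)
  have hcomm : e hc F ≫ p = p ≫ e hc' F := Cofan.IsColimit.hom_ext hc _ _ fun t => by
    rw [← Category.assoc, inj_e, ← Category.assoc, hp, Category.assoc,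
      show Sigma.ι M' t ≫ e hc' F = _ from inj_e hc' F t]
    split_ifs with ht
    · exact hp t
    · rw [zero_comp, comp_zero]
  obtain ⟨C, β, γ, hT⟩ := Pretriangulated.distinguished_cocone_triangle p
  let T := Triangle.mk p β γ
  obtain ⟨k, hk⟩ := Triangle.coyoneda_exact₂ T.invRotate (inv_rot_of_distTriang _ hT) (g - g ≫ e hc F)
    (show (g - g ≫ e hc F) ≫ p = 0 by rw [Preadditive.sub_comp, Category.assoc, hcomm, ← Category.assoc, hF, sub_self])
  refine ⟨F, (sub_eq_zero.1 (hk.trans ?_)).symm⟩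
  have hC : DCoh.IsQCohD C := DQCPush.isQCoh_obj₃ hT (DQCPush.isQCohD_of_isColimit_coproduct hc hM)
    (DQCPush.isQCohD_of_isColimit_coproduct hc' fun t => DQCPush.isQCohD_tge (M t) (hM t) (N + 1))
  refine (congrArg (· ≫ T.invRotate.mor₁) (hN T.invRotate.obj₁ (isQCohD_shift hC (-1)) ?_ k)).trans zero_comp
  have hiso : ∀ i, N + 1 ≤ i → IsIso ((DerivedCategory.homologyFunctor X.Modules i).map p) := fun i hi => by
    haveI := DQCPush.preservesColimit_HD M i
    haveI := DQCPush.preservesColimit_HD M' i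
    let c1 := isColimitCofanMkObjOfIsColimit (DerivedCategory.homologyFunctor X.Modules i) M c.inj hc
    let c2 := isColimitCofanMkObjOfIsColimit (DerivedCategory.homologyFunctor X.Modules i) M' c'.inj hc'
    let τ : ∀ t, (DerivedCategory.homologyFunctor X.Modules i).obj (M t) ≅ (DerivedCategory.homologyFunctor X.Modules i).obj (M' t) := fun t =>
      haveI := isIso_homology_tgeπ (M t) hi
      asIso ((DerivedCategory.homologyFunctor X.Modules i).map (tgeπ (N + 1) (M t)))
    let e' := c1.coconePointsIsoOfNatIso c2 (Discrete.natIso fun t => τ t.as)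
    have he : (DerivedCategory.homologyFunctor X.Modules i).map p = e'.hom := Cofan.IsColimit.hom_ext c1 _ _ fun t => by
      refine Eq.trans ?_ (c1.comp_coconePointsIsoOfNatIso_hom c2 (Discrete.natIso fun t => τ t.as) ⟨t⟩).symm
      exact ((DerivedCategory.homologyFunctor X.Modules i).map_comp _ _).symm.trans
        ((congrArg (DerivedCategory.homologyFunctor X.Modules i).map (hp t)).trans ((DerivedCategory.homologyFunctor X.Modules i).map_comp _ _))
    rw [he]
    infer_instance
  have hlow : ∀ i, i ≤ N → IsZero ((DerivedCategory.homologyFunctor X.Modules i).obj (∐ M')) := fun i hi => by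
    haveI := DQCPush.preservesColimit_HD M' i
    exact (IsZero.iff_id_eq_zero _).2 (Cofan.IsColimit.hom_ext
      (isColimitCofanMkObjOfIsColimit (DerivedCategory.homologyFunctor X.Modules i) M' c'.inj hc') _ _
      fun t => (isZero_homology_tge (M t) (by omega : i < N + 1)).eq_of_src _ _)
  intro i hi
  refine IsZero.of_iso ?_ (((DerivedCategory.homologyFunctor X.Modules 0).shiftIso (-1) i (i - 1) (by omega)).app C)
  have z : ∀ {S : ShortComplex X.Modules} (_ : S.Exact), S.f ≫ S.g = 0 := fun {S} _ => S.zero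
  have hex := DerivedCategory.HomologySequence.exact₃ T hT (i - 1) i (by omega)
  refine hex.isZero_X₂ ?_ ?_
  · by_cases hi' : i - 1 ≤ N
    · exact (hlow (i - 1) hi').eq_of_src _ _
    · haveI : IsIso ((DerivedCategory.homologyFunctor X.Modules (i - 1)).map T.mor₁) := hiso (i - 1) (by omega)
      rw [← cancel_epi ((DerivedCategory.homologyFunctor X.Modules (i - 1)).map T.mor₁), comp_zero]
      exact z (DerivedCategory.HomologySequence.exact₂ T hT (i - 1))
  · haveI : IsIso ((DerivedCategory.homologyFunctor X.Modules i).map T.mor₁) := hiso i (by omega)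
    rw [← cancel_mono ((DerivedCategory.homologyFunctor X.Modules i).map T.mor₁), zero_comp]
    exact z (DerivedCategory.HomologySequence.exact₁ T hT (i - 1) i (by omega))

end Sums

end Groth.Agent.DQC
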