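import Groth.Agent.ModGroth.PullStalk
import Groth.Agent.ModGroth.AmpDescent
import Groth.Agent.QCohLib.Pullback
import Groth.Agent.TensorQCoh.Basic
import Groth.Agent.DQCPush.CohBound
import Groth.Agent.ProperOver.Basic

/-!
# `Lf^*(-) ⊗ᴸ K` for `K` flat over the target of `f`
-/

set_option autoImplicit false
set_option linter.style.haveILetI false

universe u

open CategoryTheory CategoryTheory.Limits AlgebraicGeometry HomologicalComplex MonoidalCategory TensorProduct

attribute [local instance] HasDerivedCategory.standard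

namespace Groth.Agent.DQC.FMCoherent

open ModGroth

/-- Base change followed by a tensor product with a module flat over the base is exact. -/
lemma exact_extend_tensor {A B : Type u} [CommRing A] [CommRing B] (φ : A →+* B) (K : ModuleCat.{u} B)
    (hK : Module.Flat A ((ModuleCat.restrictScalars φ).obj K)) (S : ShortComplex (ModuleCat.{u} A)) (hS : S.Exact) :
    (S.map (ModuleCat.extendScalars.{u, u, u} φ ⋙ tensorRight K)).Exact := by
  letI := φ.toAlgebra
  letI : Module A K := Module.compHom K φ
  haveI : IsScalarTower A B K := IsScalarTower.of_algebraMap_smul fun _ _ => rfl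
  haveI : Module.Flat A K := hK
  rw [CategoryTheory.ShortComplex.ShortExact.moduleCat_exact_iff_function_exact] at hS ⊢
  let e : ∀ N : ModuleCat.{u} A, ((B ⊗[A] N) ⊗[B] K) ≃+ (K ⊗[A] N) := fun N =>
    ((TensorProduct.comm B (B ⊗[A] N) K).trans (AlgebraTensorModule.cancelBaseChange A B B K N)).toAddEquiv
  have hsq : ∀ {N N' : ModuleCat.{u} A} (f : N ⟶ N') (z : (B ⊗[A] N) ⊗[B] K),
      e N' (LinearMap.rTensor K (LinearMap.baseChange B f.hom) z) = LinearMap.lTensor K f.hom (e N z) := by
    intro N N' f z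
    induction z using TensorProduct.induction_on with
    | zero => simp
    | add a b ha hb => simp only [map_add, ha, hb]
    | tmul a k =>
      induction a using TensorProduct.induction_on with
      | zero => simp
      | add a b ha hb => simp only [add_tmul, map_add, ha, hb]
      | tmul b n => simp [e]
  have h := Module.Flat.lTensor_exact (R := A) K hS
  exact (Function.Exact.iff_of_ladder_addEquiv (e₁ := e S.X₁) (e₂ := e S.X₂) (e₃ := e S.X₃)
    (f₁₂ := ((S.map (ModuleCat.extendScalars.{u, u, u} φ ⋙ tensorRight K)).f.hom).toAddMonoidHom)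
    (f₂₃ := ((S.map (ModuleCat.extendScalars.{u, u, u} φ ⋙ tensorRight K)).g.hom).toAddMonoidHom)
    (g₁₂ := (LinearMap.lTensor K S.f.hom).toAddMonoidHom) (g₂₃ := (LinearMap.lTensor K S.g.hom).toAddMonoidHom)
    (AddMonoidHom.ext fun z => (hsq S.f z).symm) (AddMonoidHom.ext fun z => (hsq S.g z).symm)).1 h

variable {X Z : Scheme.{u}} (p : Z ⟶ X) (K : Z.Modules)

/-- `N ↦ p^*N ⊗ K`. -/
noncomputable abbrev phi : X.Modules ⥤ Z.Modules := Scheme.Modules.pullback p ⋙ DCoh.tensorRightMod K

lemma flat_restrict (z : Z) (h : FlatMod.IsFlatOverAt p K z) :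
    Module.Flat (X.presheaf.stalk (p.base z))
      ((ModuleCat.restrictScalars (p.stalkMap z).hom).obj ((DerSch.stalkFunctor Z z).obj K)) := h

theorem map_exact (h : FlatMod.IsFlatOver p K) (S : ShortComplex X.Modules) (hS : S.Exact) : (S.map (phi p K)).Exact := by
  rw [ShortComplex.exact_iff_isZero_homology]
  refine Stalk.isZero_of_stalks fun z => ?_
  refine IsZero.of_iso ?_ ((S.map (phi p K)).mapHomologyIso (DerSch.stalkFunctor Z z)).symm
  rw [← ShortComplex.exact_iff_isZero_homology]
  let i : phi p K ⋙ DerSch.stalkFunctor Z z ≅ DerSch.stalkFunctor X (p.base z) ⋙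
      ModuleCat.extendScalars.{u, u, u} (p.stalkMap z).hom ⋙ tensorRight ((DerSch.stalkFunctor Z z).obj K) :=
    Functor.associator _ _ _ ≪≫ Functor.isoWhiskerLeft _ (Stalk.tensorRightStalkIso z K) ≪≫
      (Functor.associator _ _ _).symm ≪≫ Functor.isoWhiskerRight (Stalk.pullStalkIso p z) _ ≪≫ Functor.associator _ _ _
  have hz : Module.Flat (X.presheaf.stalk (p.base z))
      ((ModuleCat.restrictScalars (p.stalkMap z).hom).obj ((DerSch.stalkFunctor Z z).obj K)) := flat_restrict p K z (h z)
  have h1 := ShortComplex.Exact.map hS (DerSch.stalkFunctor X (p.base z))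
  have h2 := exact_extend_tensor (p.stalkMap z).hom ((DerSch.stalkFunctor Z z).obj K) hz _ h1
  exact (ShortComplex.exact_iff_of_iso (S.mapNatIso i)).2 h2

theorem preservesHomology (h : FlatMod.IsFlatOver p K) : (phi p K).PreservesHomology :=
  (phi p K).preservesHomology_of_map_exact (map_exact p K h)

theorem nonempty_HD_iso (h : FlatMod.IsFlatOver p K) [DCoh.HasLpull p] [DCoh.HasLTensorMod K] (M : DCoh.D X) (i : ℤ) :
    Nonempty (DCoh.HD ((DCoh.LTensorMod K).obj ((DCoh.Lpull p).obj M)) i ≅ (phi p K).obj (DCoh.HD M i)) := by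
  obtain ⟨P, hP, -, ⟨e⟩⟩ := Amp.exists_rep M
  haveI := preservesHomology p K h
  let Φ := (phi p K).mapHomologicalComplex (ComplexShape.up ℤ)
  let e' : DCoh.toD Z (Φ.obj P) ≅ (DCoh.LTensorMod K).obj ((DCoh.Lpull p).obj M) :=
    (ltensorValueIso K (Stalk.isKFlat_pullback p P hP)).symm ≪≫
      (DCoh.LTensorMod K).mapIso ((Stalk.lpullValueIso p hP).symm ≪≫ (DCoh.Lpull p).mapIso e)
  exact ⟨(DerivedCategory.homologyFunctor Z.Modules i).mapIso e'.symm ≪≫
    (DerivedCategory.homologyFunctorFactors Z.Modules i).app _ ≪≫ (P.sc i).mapHomologyIso (phi p K) ≪≫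
    (phi p K).mapIso (((DerivedCategory.homologyFunctorFactors X.Modules i).app P).symm ≪≫
      (DerivedCategory.homologyFunctor X.Modules i).mapIso e)⟩

/-- Boundedness, coherence and supports. -/
theorem main [IsLocallyNoetherian Z] (h : FlatMod.IsFlatOver p K) (hK : Coh.IsCoh K) [DCoh.HasLpull p]
    [DCoh.HasLTensorMod K] (M : DCoh.D X) (hM : DCoh.IsCohD M) (m n : ℤ) [M.IsGE m] [M.IsLE n] :
    DCoh.IsCohD ((DCoh.LTensorMod K).obj ((DCoh.Lpull p).obj M)) ∧
      ((DCoh.LTensorMod K).obj ((DCoh.Lpull p).obj M)).IsGE m ∧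
      ((DCoh.LTensorMod K).obj ((DCoh.Lpull p).obj M)).IsLE n ∧
      ∀ i, CohB1.support (DCoh.HD ((DCoh.LTensorMod K).obj ((DCoh.Lpull p).obj M)) i) ⊆ CohB1.support K := by
  haveI := preservesHomology p K h
  have e := fun i => (nonempty_HD_iso p K h M i).some
  refine ⟨fun i => QCohLib.isCoh_of_iso (e i).symm ?_, (DerivedCategory.isGE_iff _ _).2 fun i hi => ?_,
    (DerivedCategory.isLE_iff _ _).2 fun i hi => ?_, fun i z hz hK0 => hz ?_⟩
  · have hp := QCohLib.isCoh_pullback p _ (hM i)
    haveI := hp.1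
    haveI := hK.1
    exact ⟨TensorQCoh.isQuasicoherent_tensorMod _ K, TensorQCoh.isFiniteType_tensorMod _ K hp.2 hK.2⟩
  · exact ((phi p K).map_isZero (DerivedCategory.isZero_of_isGE M m i hi)).of_iso (e i)
  · exact ((phi p K).map_isZero (DerivedCategory.isZero_of_isLE M n i hi)).of_iso (e i)
  · haveI : Subsingleton ((DerSch.stalkFunctor Z z).obj K) := hK0
    haveI : Subsingleton ((DerSch.stalkFunctor Z z).obj ((phi p K).obj (DCoh.HD M i))) :=
      (((Stalk.tensorRightStalkIso z K).app ((Scheme.Modules.pullback p).obj (DCoh.HD M i))).toLinearEquiv).subsingleton_congr.2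
        ⟨fun a b => by
          have : ∀ t : ((DerSch.stalkFunctor Z z).obj ((Scheme.Modules.pullback p).obj (DCoh.HD M i))) ⊗[Z.presheaf.stalk z]
              ((DerSch.stalkFunctor Z z).obj K), t = 0 := fun t => by
            induction t using TensorProduct.induction_on with
            | zero => rfl
            | tmul q g => rw [Subsingleton.elim g 0, TensorProduct.tmul_zero]
            | add c d hc hd => rw [hc, hd, add_zero]
          exact (this a).trans (this b).symm⟩
    exact (((DerSch.stalkFunctor Z z).mapIso (e i)).toLinearEquiv).subsingleton_congr.2 this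

end Groth.Agent.DQC.FMCoherent
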