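import Groth.Agent.DQC.PerfTensorCoh
import Groth.Agent.DQC.RHomBound

/-!
# `P ⊗ᴸ L` has coherent cohomology for `P` pseudo-coherent and `L` bounded above coherent
-/

set_option autoImplicit false
set_option linter.style.haveILetI false

universe u

open CategoryTheory CategoryTheory.Limits CategoryTheory.Pretriangulated AlgebraicGeometry TopologicalSpace
  HomologicalComplex

attribute [local instance] HasDerivedCategory.standard

namespace Groth.Agent.DQC.PCTensorCoh

open DCohPerf (rF rC RD RQ)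

variable {X : Scheme.{u}}

/-- Dévissage of bounded complexes with free terms. -/
theorem prop_of_free_terms (R : CochainComplex X.Modules ℤ → Prop)
    (hiso : ∀ {E E'}, (E ≅ E') → R E → R E') (hzero : ∀ E, IsZero E → R E)
    (hshift : ∀ {E}, R E → ∀ n : ℤ, R (E⟦n⟧))
    (hmid : ∀ T : ShortComplex (CochainComplex X.Modules ℤ),
      (∀ n, (T.map (eval X.Modules (ComplexShape.up ℤ) n)).Splitting) → R T.X₁ → R T.X₃ → R T.X₂)
    (hunit : R ((single X.Modules (ComplexShape.up ℤ) 0).obj (Coh.structureModule X)))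
    {E : CochainComplex X.Modules ℤ} (a b : ℤ) (hz : ∀ i, i < a ∨ b < i → IsZero (E.X i))
    (hl : ∀ i, ∃ r : ℕ, Nonempty (E.X i ≅ FlatMod.freeMod X r)) : R E := by
  have hfree : ∀ r : ℕ, R ((single X.Modules (ComplexShape.up ℤ) 0).obj (FlatMod.freeMod X r)) := fun r => by
    induction r with
    | zero => exact hzero _ ((single X.Modules (ComplexShape.up ℤ) 0).map_isZero
        ((IsZero.iff_id_eq_zero _).2 (Sigma.hom_ext _ _ fun i => i.elim0)))
    | succ k ih =>
      refine hmid ((freeSeq X k).map (single X.Modules (ComplexShape.up ℤ) 0)) (fun n => ?_) ih hunit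
      exact (freeSeqSplitting X k).map (single X.Modules (ComplexShape.up ℤ) 0 ⋙ eval X.Modules (ComplexShape.up ℤ) n)
  obtain ⟨k, hk⟩ : ∃ k : ℕ, b - a < k := ⟨(b - a + 1).toNat, by omega⟩
  induction k generalizing E b with
  | zero => exact hzero E ((IsZero.iff_id_eq_zero _).2
      (HomologicalComplex.hom_ext _ _ fun i => (hz i (by omega)).eq_of_src _ _))
  | succ k ih =>
    obtain ⟨T, hT, h1, h2, h3, h3'⟩ := PCohLib.exists_ses_top E b (hz (b + 1) (Or.inr (by omega)))
    have hz3 : ∀ i, i < a ∨ b - 1 < i → IsZero (T.X₃.X i) := fun i hi => by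
      by_cases hib : i = b
      · exact hib ▸ h3
      · exact (hz i (by omega)).of_iso (h3' i hib).some.symm
    have hl3 : ∀ i, ∃ r : ℕ, Nonempty (T.X₃.X i ≅ FlatMod.freeMod X r) := fun i => by
      by_cases hib : i = b
      · exact ⟨0, ⟨(hib ▸ h3).iso ((IsZero.iff_id_eq_zero _).2 (Sigma.hom_ext _ _ fun i => i.elim0))⟩⟩
      · obtain ⟨r, ⟨e⟩⟩ := hl i
        exact ⟨r, ⟨(h3' i hib).some.symm ≪≫ e⟩⟩
    have σ : ∀ n, (T.map (eval X.Modules (ComplexShape.up ℤ) n)).Splitting := fun n => by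
      refine splittingOfEither (hT.map_of_exact _) ?_
      by_cases hnb : n = b
      · exact Or.inr (hnb ▸ h3)
      · left
        change IsZero (T.X₁.X n)
        rw [h1]
        exact isZero_single_obj_X _ _ _ _ hnb
    rw [← h2]
    refine hmid T σ ?_ (ih (b - 1) hz3 hl3 (by omega))
    rw [h1]
    obtain ⟨r, ⟨e⟩⟩ := hl b
    exact hiso (((CochainComplex.singleFunctors X.Modules).shiftIso (-b) b 0 (by omega)).app (E.X b))
      (hshift (hiso ((single X.Modules (ComplexShape.up ℤ) 0).mapIso e.symm) (hfree r)) (-b))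

variable [IsLocallyNoetherian X]

/-- `L ⊗ E` has coherent homology when `L` has and `E` is bounded with free terms. -/
theorem isCoh_homology_tensor_free (L : CochainComplex X.Modules ℤ) (hL : ∀ i, Coh.IsCoh (L.homology i))
    {E : CochainComplex X.Modules ℤ} (a b : ℤ) (hz : ∀ i, i < a ∨ b < i → IsZero (E.X i))
    (hl : ∀ i, ∃ r : ℕ, Nonempty (E.X i ≅ FlatMod.freeMod X r)) (i : ℤ) :
    Coh.IsCoh (((DCoh.tensorCx.obj L).obj E).homology i) := by
  refine prop_of_free_terms (fun E => ∀ i, Coh.IsCoh (((DCoh.tensorCx.obj L).obj E).homology i))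
    (fun e h i => QCohLib.isCoh_of_iso
      ((homologyFunctor X.Modules (ComplexShape.up ℤ) i).mapIso ((DCoh.tensorCx.obj L).mapIso e)) (h i))
    (fun E hE i => QCohLib.isCoh_of_isZero ((homologyFunctor X.Modules (ComplexShape.up ℤ) i).map_isZero
      ((KFlat.tensR (DCoh.tensorBi (X := X)) L).map_isZero hE)))
    (fun {E} h n i => QCohLib.isCoh_of_iso
      (((((homologyFunctor X.Modules (ComplexShape.up ℤ) 0).shiftIso n i (n + i) rfl).app
          ((DCoh.tensorCx.obj L).obj E)).symm) ≪≫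
        (homologyFunctor X.Modules (ComplexShape.up ℤ) i).mapIso ((tensEShift E n).app L).symm) (h (n + i)))
    (fun T σ h₁ h₃ i => ?_)
    (fun i => QCohLib.isCoh_of_iso
      ((homologyFunctor X.Modules (ComplexShape.up ℤ) i).mapIso (tensEUnit.app L).symm) (hL i))
    a b hz hl i
  have hS := KFlat.shortExact_tensR (DCoh.tensorBi (X := X)) T σ L
  exact DQCPush.isCoh_mid (hS.δ (i - 1) i (by simp))
    (homologyMap _ i) (homologyMap _ i) (hS.δ i (i + 1) (by simp)) (hS.δ_comp _ _ _)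
    ((homologyMap_comp _ _ _).symm.trans ((congrArg (fun t => homologyMap t i) (T.map (KFlat.tensR (DCoh.tensorBi (X := X)) L)).zero).trans (homologyMap_zero _ _ _)))
    (hS.comp_δ _ _ _) (hS.homology_exact₁ _ _ _) (hS.homology_exact₂ i) (hS.homology_exact₃ _ _ _)
    (h₃ _) (h₁ _) (h₃ _) (h₁ _)

omit [IsLocallyNoetherian X] in
/-- Bounds add up. -/
lemma isZero_homology_tensor_of_le (C L : CochainComplex X.Modules ℤ) (hC : DCoh.IsKFlat C) (c b : ℤ)
    [(DCoh.toD X C).IsLE c] [L.IsStrictlyLE b] (i : ℤ) (hi : c + b < i) :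
    IsZero (((DCoh.tensorCx.obj C).obj L).homology i) := by
  obtain ⟨P, hP, hPk, ⟨e⟩⟩ := exists_flat_rep_isLE (DCoh.toD X C) c
  haveI := ModGroth.hasLTensorCx L
  have hz : IsZero (((DCoh.tensorCx.obj P).obj L).X i) := (IsZero.iff_id_eq_zero _).2
    (mapBifunctor.hom_ext fun p q h => by
      have h' : p + q = i := h
      refine IsZero.eq_of_src ?_ _ _
      by_cases hp : c < p
      · exact ((DCoh.tensorBi (X := X)).map_isZero (CochainComplex.isZero_of_isStrictlyLE P c p hp)).obj _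
      · exact Functor.map_isZero _ (CochainComplex.isZero_of_isStrictlyLE L b q (by omega)))
  have hex : ((DCoh.tensorCx.obj P).obj L).ExactAt i := ShortComplex.exact_of_isZero_X₂ _ hz
  exact ((exactAt_iff_isZero_homology _ _).1 hex).of_iso
    (((DerivedCategory.homologyFunctorFactors X.Modules i).app _).symm ≪≫
      (DerivedCategory.homologyFunctor X.Modules i).mapIso ((ModGroth.ltenValueIso L hC).symm ≪≫
        (DCoh.LTensorCx L).mapIso e.symm ≪≫ ModGroth.ltenValueIso L hPk) ≪≫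
      (DerivedCategory.homologyFunctorFactors X.Modules i).app _)

/-- In high degrees the tensor product only sees an approximation. -/
theorem isCoh_of_approx (L : CochainComplex X.Modules ℤ) (b : ℤ) [L.IsStrictlyLE b] [DCoh.HasLTensorCx L]
    (hL : ∀ i, Coh.IsCoh (L.homology i)) {E : CochainComplex X.Modules ℤ} (a' b' : ℤ)
    (hz : ∀ i, i < a' ∨ b' < i → IsZero (E.X i))
    (hl : ∀ i, ∃ r : ℕ, Nonempty (E.X i ≅ FlatMod.freeMod X r))
    (R : CochainComplex X.Modules ℤ) (hR : DCoh.IsKFlat R) (m : ℤ) (α : DCoh.toD X E ⟶ DCoh.toD X R)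
    (hα : DCohPerf.NQ m α) (i : ℤ) (hi : m + b < i) :
    Coh.IsCoh (((DCoh.tensorCx.obj R).obj L).homology i) := by
  have hEl : ∀ i, FlatMod.IsFinLocFree (E.X i) := fun i => by
    obtain ⟨r, ⟨e⟩⟩ := hl i
    exact isFinLocFree_congr e.symm (DCohPerf.isFinLocFree_free r)
  have hEk : DCoh.IsKFlat E := ModGroth.Perf.isKFlat_of_isStrictlyPerfect ⟨⟨a', b', hz⟩, hEl⟩
  obtain ⟨E₁, s, hs, g, hg⟩ := DerivedCategory.right_fac α
  obtain ⟨E₂, q, hE₂, -, hq, -⟩ := ModGroth.scheme_exists_resolution E₁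
  let Q' : CochainComplex X.Modules ℤ ⥤ DCoh.D X := DerivedCategory.Q
  haveI hs' : IsIso (Q'.map s) := hs
  haveI hq' : IsIso (Q'.map q) := ModGroth.Amp.isIso_Q_map q hq
  let φ : E₂ ⟶ R := q ≫ g
  have hφ : DCohPerf.NQ m (Q'.map φ) := by
    have : Q'.map φ = Q'.map q ≫ Q'.map s ≫ α := by
      rw [hg, Q'.map_comp]
      exact congrArg (_ ≫ ·) (IsIso.hom_inv_id_assoc (Q'.map s) (Q'.map g)).symm
    rw [this]
    exact (DCohPerf.nq_of_isIso m _).comp ((DCohPerf.nq_of_isIso m _).comp hα)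
  let C := CochainComplex.mappingCone φ
  have hC : DCoh.IsKFlat C := KFlat.FlatR.mappingCone (DCoh.tensorBi (X := X)) φ hE₂ hR
  haveI : (DCoh.toD X C).IsLE (m - 1) := (DerivedCategory.isLE_iff _ _).2 fun j hj =>
    (DCohPerf.nq_iff (DerivedCategory.mappingCone_triangle_distinguished φ) m).1 hφ j (by omega)
  let S := CochainComplex.mappingCone.triangleRotateShortComplex φ
  have hS := KFlat.shortExact_tensL (DCoh.tensorBi (X := X)) S
    (CochainComplex.mappingCone.triangleRotateShortComplexSplitting φ) L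
  have hzero : ∀ j, m - 1 + b < j → IsZero (((DCoh.tensorCx.obj C).obj L).homology j) :=
    fun j hj => isZero_homology_tensor_of_le C L hC (m - 1) b j hj
  refine QCohLib.isCoh_of_iso (hS.δIso (i - 1) i (by simp) (hzero _ (by omega)) (hzero _ (by omega))) ?_
  change Coh.IsCoh (((DCoh.tensorCx.obj (E₂⟦(1 : ℤ)⟧)).obj L).homology (i - 1))
  haveI := ModGroth.hasLTensorCx L
  have e₁ : DCoh.toD X ((DCoh.tensorCx.obj (E₂⟦(1 : ℤ)⟧)).obj L) ≅
      DCoh.toD X ((DCoh.tensorCx.obj (E⟦(1 : ℤ)⟧)).obj L) :=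
    (ModGroth.ltenValueIso L (isKFlat_shift hE₂ 1)).symm ≪≫
      (DCoh.LTensorCx L).mapIso ((Q'.commShiftIso (1 : ℤ)).app E₂ ≪≫
        (shiftFunctor (DCoh.D X) (1 : ℤ)).mapIso (asIso (Q'.map q) ≪≫ asIso (Q'.map s)) ≪≫
        ((Q'.commShiftIso (1 : ℤ)).app E).symm) ≪≫
      ModGroth.ltenValueIso L (isKFlat_shift hEk 1)
  refine QCohLib.isCoh_of_iso (((DerivedCategory.homologyFunctorFactors X.Modules (i - 1)).app _).symm ≪≫
    (DerivedCategory.homologyFunctor X.Modules (i - 1)).mapIso e₁ ≪≫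
    (DerivedCategory.homologyFunctorFactors X.Modules (i - 1)).app _).symm ?_
  refine QCohLib.isCoh_of_iso ((homologyFunctor X.Modules (ComplexShape.up ℤ) (i - 1)).mapIso
    (ModGroth.cxSymm (DCoh.tensorBi (X := X)) ModGroth.tensorFlipIso L (E⟦(1 : ℤ)⟧)))
    (isCoh_homology_tensor_free L hL (a' - 1) (b' - 1) (fun j hj => hz (j + 1) (by omega)) (fun j => hl (j + 1)) _)

/-- Coherence of `P ⊗ᴸ L`. -/
theorem main (L : CochainComplex X.Modules ℤ) (b : ℤ) [L.IsStrictlyLE b] [DCoh.HasLTensorCx L]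
    (hL : ∀ i, Coh.IsCoh (L.homology i)) (P : DCoh.D X) (hP : ∀ m, DCoh.IsPseudoCoherentD m P) :
    DCoh.IsCohD ((DCoh.LTensorCx L).obj P) := by
  intro i
  obtain ⟨R, hR, -, ⟨eR⟩⟩ := ModGroth.Amp.exists_rep P
  let A := (DCoh.LTensorCx L).obj P
  have key : ∀ x : X, ∃ (W : Scheme.{u}) (j : W ⟶ X) (_ : IsOpenImmersion j),
      x ∈ j.opensRange ∧ Coh.IsCoh ((DCoh.HD A i).restrict j) := fun x => by
    obtain ⟨W₀, j₀, _, w, hw, E₀, α₀, hE₀, hα₀⟩ := (DCohPerf.isPC_iff _ P).1 (hP (i - b - 1)) x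
    obtain ⟨⟨a', b', hv⟩, hl⟩ := id hE₀
    obtain ⟨V, hwV, hV⟩ := RelAmp.exists_free_nhd hl w (Finset.Icc a' b')
    let j := V.ι ≫ j₀
    let E := (rC V.ι).obj E₀
    have hEv : ∀ k, k < a' ∨ b' < k → IsZero (E.X k) := fun k hk => (rF V.ι).map_isZero (hv k hk)
    have hEf : ∀ k, ∃ r : ℕ, Nonempty (E.X k ≅ FlatMod.freeMod (V : Scheme.{u}) r) := fun k => by
      by_cases hk : k ∈ Finset.Icc a' b'
      · exact hV k hk
      · rw [Finset.mem_Icc] at hk
        exact ⟨0, ⟨(hEv k (by omega)).iso ((IsZero.iff_id_eq_zero _).2 (Sigma.hom_ext _ _ fun i => i.elim0))⟩⟩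
    haveI : IsLocallyNoetherian (V : Scheme.{u}) := isLocallyNoetherian_of_isOpenImmersion j
    let L' := (rC j).obj L
    let R' := (rC j).obj R
    have hR' : DCoh.IsKFlat R' :=
      KFlat.FlatR.of_iso (DCoh.tensorBi (X := (V : Scheme.{u})))
        ((NatIso.mapHomologicalComplex (Scheme.Modules.restrictFunctorIsoPullback j) (ComplexShape.up ℤ)).app R).symm
        (ModGroth.Stalk.isKFlat_pullback j R hR)
    haveI : L'.IsStrictlyLE b := (CochainComplex.isStrictlyLE_iff _ _).2 fun k hk =>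
      (rF j).map_isZero (CochainComplex.isZero_of_isStrictlyLE L b k hk)
    haveI := ModGroth.hasLTensorCx L'
    let α : DCoh.toD (V : Scheme.{u}) E ⟶ DCoh.toD (V : Scheme.{u}) R' :=
      (RQ V.ι E₀).inv ≫ (RD V.ι).map α₀ ≫ ((DCohPerf.RDComp V.ι j₀).app P).inv ≫
        (RD j).map eR.inv ≫ (RQ j R).hom
    have hα : DCohPerf.NQ (i - b - 1) α :=
      (DCohPerf.nq_of_isIso _ _).comp ((hα₀.restrict V.ι).comp ((DCohPerf.nq_of_isIso _ _).comp
        ((DCohPerf.nq_of_isIso _ _).comp (DCohPerf.nq_of_isIso _ _))))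
    have hL' : ∀ k, Coh.IsCoh (L'.homology k) := fun k =>
      QCohLib.isCoh_of_iso ((L.sc k).mapHomologyIso (rF j)).symm (HigherDirect.isCoh_restrict j (hL k))
    refine ⟨_, j, inferInstance, ⟨⟨w, hwV⟩, hw⟩, QCohLib.isCoh_of_iso ?_
      (isCoh_of_approx L' b hL' a' b' hEv hEf R' hR' (i - b - 1) α hα i (by omega))⟩
    exact ((DerivedCategory.homologyFunctorFactors _ i).app _).symm ≪≫
      (DerivedCategory.homologyFunctor _ i).mapIso (DerivedCategory.Q.mapIso (PerfTensorCoh.restrTot j R L).symm ≪≫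
        (RQ j _).symm ≪≫ (RD j).mapIso ((ModGroth.ltenValueIso L hR).symm ≪≫ (DCoh.LTensorCx L).mapIso eR)) ≪≫
      (DCohPerf.homology_restrict j A i).some
  choose W j hj hx h using key
  haveI := hj
  exact QCohLib.isCoh_of_cover j (fun x => ⟨x, hx x⟩) h

end Groth.Agent.DQC.PCTensorCoh
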