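import Groth.Prelude.Def_HTor
import Groth.Agent.DQC.PCTensorCoh
import Groth.Agent.DQC.FMCoherent
import Groth.Agent.S1039

/-!
# Coherence of local hypertor sheaves
-/

set_option autoImplicit false
set_option linter.style.haveILetI false

universe u

open CategoryTheory CategoryTheory.Limits AlgebraicGeometry HomologicalComplex

attribute [local instance] HasDerivedCategory.standard

namespace Groth.Agent.DQC.HTorCoh

variable {X Y : Scheme.{u}}

/-- Pullback along a flat morphism is exact. -/
theorem preservesHomology_pullback (f : X ⟶ Y) [Flat f] : (Scheme.Modules.pullback f).PreservesHomology := by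
  refine (Scheme.Modules.pullback f).preservesHomology_of_map_exact fun S hS => ?_
  rw [ShortComplex.exact_iff_isZero_homology]
  refine ModGroth.Stalk.isZero_of_stalks fun z => ?_
  refine IsZero.of_iso ?_ ((S.map _).mapHomologyIso (DerSch.stalkFunctor X z)).symm
  rw [← ShortComplex.exact_iff_isZero_homology]
  have h1 := ShortComplex.Exact.map hS (DerSch.stalkFunctor Y (f.base z))
  refine (ShortComplex.exact_iff_of_iso (S.mapNatIso (ModGroth.Stalk.pullStalkIso f z))).2 ?_
  have h2 : ∀ (T : ShortComplex (ModuleCat.{u} (Y.presheaf.stalk (f.base z)))), T.Exact →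
      (T.map (ModuleCat.extendScalars.{u, u, u} (f.stalkMap z).hom)).Exact := fun T hT => by
    algebraize [(f.stalkMap z).hom]
    haveI : Module.Flat (Y.presheaf.stalk (f.base z)) (X.presheaf.stalk z) := Flat.stalkMap f z
    rw [ShortComplex.ShortExact.moduleCat_exact_iff_function_exact] at hT ⊢
    exact Module.Flat.lTensor_exact (R := Y.presheaf.stalk (f.base z)) (X.presheaf.stalk z) hT
  exact h2 _ h1

variable {S : Scheme.{u}}

/-- Coherence of hypertor sheaves. -/
theorem main (f : X ⟶ S) (g : Y ⟶ S) [Flat f] [IsLocallyNoetherian X] [IsLocallyNoetherian (pullback f g)]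
    (P : DCoh.D X) (a : ℤ) [P.IsLE a] (hP : DCoh.IsCohD P) (Q : CochainComplex Y.Modules ℤ) (b : ℤ)
    (hb : ∀ i, b < i → IsZero (Q.X i)) (hQ : ∀ i, Coh.IsCoh (Q.homology i))
    [DCoh.HasLpull (pullback.fst f g)] [DCoh.HasLTensorCx ((HTor.pullCx (pullback.snd f g)).obj Q)] :
    DCoh.IsCohD ((DCoh.LTensorCx ((HTor.pullCx (pullback.snd f g)).obj Q)).obj
      ((DCoh.Lpull (pullback.fst f g)).obj P)) := by
  haveI := preservesHomology_pullback (pullback.snd f g)
  haveI : CochainComplex.IsStrictlyLE ((HTor.pullCx (pullback.snd f g)).obj Q) b :=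
    (CochainComplex.isStrictlyLE_iff _ _).2 fun i hi =>
      (Scheme.Modules.pullback (pullback.snd f g)).map_isZero (hb i hi)
  exact PCTensorCoh.main _ b (fun i => QCohLib.isCoh_of_iso
      ((Q.sc i).mapHomologyIso (Scheme.Modules.pullback (pullback.snd f g))).symm
      (QCohLib.isCoh_pullback _ _ (hQ i))) _
    fun m => ModGroth.Perf.isPseudoCoherentD_lpull _ m P (S1039.isPC_of_coh (b := a) fun i _ => hP i)

end Groth.Agent.DQC.HTorCoh
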