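import Groth.Agent.DQC.Affine
import Groth.Agent.ModGroth.PerfLocal
import Groth.Agent.ModGroth.TildeStalk
import Groth.Agent.ModGroth.TildeAmp
import Groth.Agent.DRingPC.LTensorValue
import Groth.Agent.QCohLib.Pullback

/-!
# Locality of `D_QCoh` and K-flat models with quasi-coherent terms on affine opens
-/

set_option autoImplicit false
set_option linter.style.haveILetI false

universe u

open CategoryTheory CategoryTheory.Limits AlgebraicGeometry

attribute [local instance] HasDerivedCategory.standard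

namespace Groth.Agent.DQC

variable {X Y : Scheme.{u}}

lemma isQCoh_restrict (j : Y ⟶ X) [IsOpenImmersion j] {M : X.Modules} (h : Coh.IsQCoh M) :
    Coh.IsQCoh ((Scheme.Modules.restrictFunctor j).obj M) :=
  haveI := h
  haveI : ((Scheme.Modules.pullback j).obj M).IsQuasicoherent := QCohLib.isQuasicoherent_pullback j M
  QCohLib.isQuasicoherent_of_iso (M := (Scheme.Modules.pullback j).obj M)
    ((Scheme.Modules.restrictFunctorIsoPullback j).app M).symm

/-- Restriction along an open immersion on derived categories. -/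
noncomputable abbrev rDj (j : Y ⟶ X) [IsOpenImmersion j] : DCoh.D X ⥤ DCoh.D Y :=
  (Scheme.Modules.restrictFunctor j).mapDerivedCategory

/-- Termwise computation. -/
noncomputable def rDjIso (j : Y ⟶ X) [IsOpenImmersion j] (F : CochainComplex X.Modules ℤ) :
    (rDj j).obj (DCoh.toD X F) ≅
      DCoh.toD Y (((Scheme.Modules.restrictFunctor j).mapHomologicalComplex (ComplexShape.up ℤ)).obj F) :=
  (Scheme.Modules.restrictFunctor j).mapDerivedCategoryFactors.app F

theorem isQCohD_restrict (j : Y ⟶ X) [IsOpenImmersion j] {K : DCoh.D X} (h : DCoh.IsQCohD K) :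
    DCoh.IsQCohD ((rDj j).obj K) := fun i =>
  (qc Y).prop_of_iso (DerAdj.homology_mapDerivedCategory (Scheme.Modules.restrictFunctor j) K i).some.symm
    (isQCoh_restrict j (h i))

theorem isQCohD_rD (V : X.Opens) {K : DCoh.D X} (h : DCoh.IsQCohD K) :
    DCoh.IsQCohD ((ModGroth.Perf.rD V).obj K) := isQCohD_restrict V.ι h

/-- `D_QCoh` is local. -/
theorem isQCohD_of_cover {K : DCoh.D X}
    (h : ∀ x : X, ∃ V : X.Opens, x ∈ V ∧ DCoh.IsQCohD ((ModGroth.Perf.rD V).obj K)) : DCoh.IsQCohD K := by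
  choose V hx hV using h
  intro i
  refine QCohLib.isQuasicoherent_of_cover (ι := X) (fun x => (V x).ι) (fun x => ⟨x, ⟨⟨x, hx x⟩, rfl⟩⟩) fun x => ?_
  exact (qc _).prop_of_iso (DerAdj.homology_mapDerivedCategory (Scheme.Modules.restrictFunctor (V x).ι) K i).some (hV x i)

theorem isQCohD_of_iso {K L : DCoh.D X} (e : K ≅ L) (h : DCoh.IsQCohD K) : DCoh.IsQCohD L := fun i =>
  (qc X).prop_of_iso ((DerivedCategory.homologyFunctor _ i).mapIso e) (h i)

/-- Complexes with quasi-coherent terms have quasi-coherent cohomology. -/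
theorem isQCohD_toD (P : CochainComplex X.Modules ℤ) (h : ∀ n, Coh.IsQCoh (P.X n)) :
    DCoh.IsQCohD (DCoh.toD X P) := fun i => by
  refine (qc X).prop_of_iso ((DerivedCategory.homologyFunctorFactors X.Modules i).app P).symm ?_
  let d := (P.sc i).leftHomologyData
  have hK : qc X d.K := (qc X).prop_of_isLimit_kernelFork d.hi (h _) (h _)
  exact (qc X).prop_of_iso d.homologyIso.symm ((qc X).prop_of_isColimit_cokernelCofork d.hπ (h _) hK)

/-- A K-flat complex with flat quasi-coherent terms. -/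
structure IsGoodCx (P : CochainComplex X.Modules ℤ) : Prop where
  kFlat : DCoh.IsKFlat P
  flat : ∀ n, FlatMod.IsFlat (P.X n)
  qcoh : ∀ n, Coh.IsQCoh (P.X n)

/-- On `Spec R` every object of `D_QCoh` has a good representative. -/
theorem exists_good_spec (R : CommRingCat.{u}) {L : DCoh.D (Spec R)} (h : DCoh.IsQCohD L) :
    ∃ P : CochainComplex (Spec R).Modules ℤ, IsGoodCx P ∧ Nonempty (DCoh.toD (Spec R) P ≅ L) := by
  obtain ⟨M, ⟨e⟩⟩ := (isQCohD_iff R L).1 h
  obtain ⟨N, hN, hfl, ⟨eN⟩⟩ := DRingPC.exists_kFlat_rep M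
  refine ⟨(ModGroth.Stalk.tcxS R).obj N, ⟨ModGroth.Stalk.isKFlat_tilde hN,
    fun n => ModGroth.Stalk.isFlat_tilde (hfl n), fun n => QCohLib.isQuasicoherent_tilde_obj (N.X n)⟩, ⟨?_⟩⟩
  exact ((tilde.functor R).mapDerivedCategoryFactors.app N).symm ≪≫ (DCoh.tildeD R).mapIso eN ≪≫ e

/-- Restriction along an isomorphism and back. -/
noncomputable def restrictInvIso (e : Y ≅ X) :
    Scheme.Modules.restrictFunctor e.inv ⋙ Scheme.Modules.restrictFunctor e.hom ≅ 𝟭 Y.Modules :=
  (Scheme.Modules.restrictFunctorComp e.hom e.inv).symm ≪≫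
    Scheme.Modules.restrictFunctorCongr e.hom_inv_id ≪≫ Scheme.Modules.restrictFunctorId

/-- Transport along isomorphisms. -/
theorem exists_good_of_iso (e : Y ≅ X)
    (hX : ∀ {L : DCoh.D X}, DCoh.IsQCohD L →
      ∃ P : CochainComplex X.Modules ℤ, IsGoodCx P ∧ Nonempty (DCoh.toD X P ≅ L))
    {K : DCoh.D Y} (h : DCoh.IsQCohD K) :
    ∃ P : CochainComplex Y.Modules ℤ, IsGoodCx P ∧ Nonempty (DCoh.toD Y P ≅ K) := by
  let F := DerivedCategory.Q.objPreimage K
  let eF : DCoh.toD Y F ≅ K := DerivedCategory.Q.objObjPreimageIso K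
  obtain ⟨P, hP, ⟨eP⟩⟩ := hX (isQCohD_restrict e.inv h)
  refine ⟨(ModGroth.Stalk.pcx e.hom).obj P, ⟨ModGroth.Stalk.isKFlat_pullback e.hom P hP.kFlat, fun n => ?_,
    fun n => ?_⟩, ⟨?_⟩⟩
  · exact ModGroth.Stalk.isFlat_pullback e.hom (hP.flat n)
  · haveI := hP.qcoh n
    exact QCohLib.isQuasicoherent_pullback _ _
  · refine DerivedCategory.Q.mapIso ((NatIso.mapHomologicalComplex
        (Scheme.Modules.restrictFunctorIsoPullback e.hom) (ComplexShape.up ℤ)).app P).symm ≪≫
      (rDjIso e.hom P).symm ≪≫ (rDj e.hom).mapIso (eP ≪≫ (rDj e.inv).mapIso eF.symm ≪≫ rDjIso e.inv F) ≪≫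
      rDjIso e.hom _ ≪≫ DerivedCategory.Q.mapIso ?_ ≪≫ eF
    exact HomologicalComplex.Hom.isoOfComponents (fun n => (restrictInvIso e).app (F.X n))
      (fun i j _ => ((restrictInvIso e).hom.naturality (F.d i j)).symm)

/-- On affine opens every object of `D_QCoh` has a good representative. -/
theorem exists_good (V : X.Opens) (hV : IsAffineOpen V) {K : DCoh.D X} (h : DCoh.IsQCohD K) :
    ∃ P : CochainComplex (V : Scheme.{u}).Modules ℤ, IsGoodCx P ∧
      Nonempty (DCoh.toD (V : Scheme.{u}) P ≅ (ModGroth.Perf.rD V).obj K) :=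
  exists_good_of_iso hV.isoSpec (fun h' => exists_good_spec _ h') (isQCohD_rD V h)

end Groth.Agent.DQC
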