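import Mathlib.CategoryTheory.Adjunction.Basic

/-!
# Two identities between base change maps
-/

set_option autoImplicit false

namespace Groth.Agent.DQC.Mates

open CategoryTheory

variable {X Y X' Y' : Type*} [Category X] [Category Y] [Category X'] [Category Y']
  {F : X ⥤ Y} {a : Y ⥤ X} {F' : X' ⥤ Y'} {a' : Y' ⥤ X'} {G : Y' ⥤ Y} {P : Y ⥤ Y'} {G' : X' ⥤ X} {P' : X ⥤ X'}
  (adj : F ⊣ a) (adj' : F' ⊣ a') (adjg : P ⊣ G) (adjg' : P' ⊣ G') (e : G' ⋙ F ≅ F' ⋙ G)

/-- `ξ`. -/
def xi (M : Y') : G'.obj (a'.obj M) ⟶ a.obj (G.obj M) :=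
  (adj.homEquiv _ _) (e.hom.app (a'.obj M) ≫ G.map (adj'.counit.app M))

lemma xi_counit (M : Y') :
    F.map (xi adj adj' e M) ≫ adj.counit.app (G.obj M) = e.hom.app (a'.obj M) ≫ G.map (adj'.counit.app M) :=
  (adj.homEquiv_counit _ _ (xi adj adj' e M)).symm.trans (Equiv.symm_apply_apply _ _)

/-- The transpose of `P'(y) ≫ ε`. -/
lemma transpose_eq {A : X} {B : X'} (y : A ⟶ G'.obj B) :
    (adjg'.homEquiv A B) (P'.map y ≫ adjg'.counit.app B) = y :=
  (congrArg _ (adjg'.homEquiv_counit _ _ y).symm).trans (Equiv.apply_symm_apply _ _)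

lemma xi_natural {M M' : Y'} (φ : M ⟶ M') :
    G'.map (a'.map φ) ≫ xi adj adj' e M' = xi adj adj' e M ≫ a.map (G.map φ) := by
  rw [xi, xi, ← adj.homEquiv_naturality_left, ← adj.homEquiv_naturality_right]
  refine congrArg _ ?_
  have h := e.hom.naturality (a'.map φ)
  simp only [Functor.comp_map] at h
  rw [reassoc_of% h, Category.assoc, ← G.map_comp, ← G.map_comp]
  exact congrArg (e.hom.app _ ≫ G.map ·) (adj'.counit.naturality φ)

theorem counit_eq (K : Y) (x : a.obj (G.obj (P.obj K)) ⟶ G'.obj (a'.obj (P.obj K)))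
    (hx : x ≫ xi adj adj' e (P.obj K) = 𝟙 _) :
    (adjg.homEquiv _ _).symm (F.map (adjg'.unit.app (a.obj K)) ≫ e.hom.app (P'.obj (a.obj K))) ≫
      F'.map (P'.map (a.map (adjg.unit.app K)) ≫ P'.map x ≫ adjg'.counit.app (a'.obj (P.obj K))) ≫
        adj'.counit.app (P.obj K) = P.map (adj.counit.app K) := by
  set b := P'.map (a.map (adjg.unit.app K)) ≫ P'.map x ≫ adjg'.counit.app (a'.obj (P.obj K))
  apply (adjg.homEquiv _ _).injective
  rw [adjg.homEquiv_naturality_right, Equiv.apply_symm_apply, Adjunction.homEquiv_unit]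
  have h := e.hom.naturality b
  simp only [Functor.comp_map] at h
  rw [G.map_comp, Category.assoc, ← reassoc_of% h, ← F.map_comp_assoc]
  have hb : adjg'.unit.app (a.obj K) ≫ G'.map b = a.map (adjg.unit.app K) ≫ x :=
    (adjg'.homEquiv_unit _ _ b).symm.trans ((congrArg _ (show b = P'.map (a.map (adjg.unit.app K) ≫ x) ≫ _ from
      ((congrArg (· ≫ _) (P'.map_comp _ _)).trans (Category.assoc _ _ _)).symm)).trans
      (transpose_eq adjg' (B := a'.obj (P.obj K)) (a.map (adjg.unit.app K) ≫ x)))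
  rw [hb, F.map_comp, Category.assoc, ← xi_counit adj adj' e, ← F.map_comp_assoc x, hx, F.map_id, Category.id_comp]
  exact (adj.counit.naturality (adjg.unit.app K)).trans (adjg.unit.naturality (adj.counit.app K))

theorem unit_eq (M : X) (x : a.obj (G.obj (P.obj (F.obj M))) ⟶ G'.obj (a'.obj (P.obj (F.obj M))))
    (hx : x ≫ xi adj adj' e (P.obj (F.obj M)) = 𝟙 _) [Mono (xi adj adj' e (F'.obj (P'.obj M)))] :
    adj'.unit.app (P'.obj M) = P'.map (adj.unit.app M) ≫
      (P'.map (a.map (adjg.unit.app (F.obj M))) ≫ P'.map x ≫ adjg'.counit.app (a'.obj (P.obj (F.obj M)))) ≫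
        a'.map ((adjg.homEquiv (F.obj M) (F'.obj (P'.obj M))).symm (F.map (adjg'.unit.app M) ≫ e.hom.app (P'.obj M))) := by
  set c := (adjg.homEquiv (F.obj M) (F'.obj (P'.obj M))).symm (F.map (adjg'.unit.app M) ≫ e.hom.app (P'.obj M)) with hc
  apply (adjg'.homEquiv _ _).injective
  rw [adjg'.homEquiv_naturality_left, adjg'.homEquiv_naturality_right]
  have hb : (adjg'.homEquiv _ _) (P'.map (a.map (adjg.unit.app (F.obj M))) ≫ P'.map x ≫
      adjg'.counit.app (a'.obj (P.obj (F.obj M)))) = a.map (adjg.unit.app (F.obj M)) ≫ x :=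
    (congrArg _ ((congrArg (· ≫ _) (P'.map_comp _ _)).trans (Category.assoc _ _ _)).symm).trans
      (transpose_eq adjg' (B := a'.obj (P.obj (F.obj M))) (a.map (adjg.unit.app (F.obj M)) ≫ x))
  refine Eq.trans ?_ (congrArg (fun t => adj.unit.app M ≫ t ≫ G'.map (a'.map c)) hb).symm
  refine (cancel_mono (xi adj adj' e (F'.obj (P'.obj M)))).1 ?_
  rw [Adjunction.homEquiv_unit]
  simp only [Category.assoc]
  rw [xi_natural, reassoc_of% hx, ← a.map_comp]
  have h1 : G'.map (adj'.unit.app (P'.obj M)) ≫ xi adj adj' e (F'.obj (P'.obj M)) =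
      adj.unit.app (G'.obj (P'.obj M)) ≫ a.map (e.hom.app (P'.obj M)) := by
    rw [xi]
    refine (adj.homEquiv_naturality_left _ _).symm.trans (Eq.trans ?_ (adj.homEquiv_unit _ _ _))
    refine congrArg _ ?_
    have h := e.hom.naturality (adj'.unit.app (P'.obj M))
    simp only [Functor.comp_map] at h
    rw [reassoc_of% h, ← G.map_comp, adj'.left_triangle_components]
    simp
  rw [h1, (show adjg.unit.app (F.obj M) ≫ G.map c = F.map (adjg'.unit.app M) ≫ e.hom.app (P'.obj M) from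
    (adjg.homEquiv_unit _ _ c).symm.trans (Equiv.apply_symm_apply _ _))]
  refine Eq.trans ?_ (congrArg (adj.unit.app M ≫ ·) (a.map_comp _ _)).symm
  exact (adj.unit.naturality (adjg'.unit.app M)) =≫ _ |>.trans (Category.assoc _ _ _) |> (Category.assoc _ _ _).symm.trans

end Groth.Agent.DQC.Mates
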