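import Groth.Agent.DQC.Local
import Groth.Agent.ModGroth.LTensorCx
import Groth.Agent.ModGroth.PerfTensor
import Groth.Agent.TensorQCoh.Basic
import Groth.Agent.QCOverAlg.Basic

/-!
# `Lf^*` and `⊗ᴸ` preserve quasi-coherent cohomology
-/

set_option autoImplicit false
set_option linter.style.haveILetI false

universe u

open CategoryTheory CategoryTheory.Limits AlgebraicGeometry HomologicalComplex

attribute [local instance] HasDerivedCategory.standard

namespace Groth.Agent.DQC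

variable {X Y : Scheme.{u}}

open ModGroth in
/-- Derived pullback preserves `D_QCoh`. -/
theorem isQCohD_lpull (f : Y ⟶ X) [DCoh.HasLpull f] {K : DCoh.D X} (hK : DCoh.IsQCohD K) :
    DCoh.IsQCohD ((DCoh.Lpull f).obj K) := by
  refine isQCohD_of_cover fun y => ?_
  obtain ⟨V, hV, hy, -⟩ := exists_isAffineOpen_mem_and_subset (U := ⊤) (TopologicalSpace.Opens.mem_top (f.base y))
  obtain ⟨P, hP, -, ⟨eP⟩⟩ := Amp.exists_rep K
  obtain ⟨G, hG, ⟨eG⟩⟩ := exists_good V hV hK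
  haveI := Stalk.hasLpull (f ∣_ V)
  refine ⟨f ⁻¹ᵁ V, hy, isQCohD_of_iso ?_ (isQCohD_toD ((Stalk.pcx (f ∣_ V)).obj G) fun n => ?_)⟩
  · exact (Stalk.lpullValueIso (f ∣_ V) hG.kFlat).symm ≪≫
      (DCoh.Lpull (f ∣_ V)).mapIso (eG ≪≫ (Perf.rDIso V eP).symm) ≪≫
      Stalk.lpullValueIso (f ∣_ V) (Perf.isKFlat_restrictCx V hP) ≪≫ Perf.lpullRestrictIso f V hP eP
  · haveI := hG.qcoh n
    exact QCohLib.isQuasicoherent_pullback _ _

/-- Small direct sums of quasi-coherent modules are quasi-coherent. -/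
lemma isQCoh_sigma {ι : Type} (M : ι → X.Modules) [HasCoproduct M] (h : ∀ i, Coh.IsQCoh (M i)) :
    Coh.IsQCoh (∐ M) := by
  refine (qc X).prop_of_iso ?_ (QCOverAlg.isQuasicoherent_sigma (fun i : ULift.{u} ι => M i.down) fun i => h i.down)
  exact Sigma.reindex (Equiv.ulift.{u, 0} (α := ι)) M

/-- Tensor products of complexes with quasi-coherent terms have quasi-coherent terms. -/
lemma isQCoh_tensorCx (K L : CochainComplex X.Modules ℤ) (hK : ∀ n, Coh.IsQCoh (K.X n))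
    (hL : ∀ n, Coh.IsQCoh (L.X n)) (n : ℤ) : Coh.IsQCoh (((DCoh.tensorCx.obj K).obj L).X n) := by
  refine isQCoh_sigma _ fun i => ?_
  haveI := hK i.1.1
  haveI := hL i.1.2
  exact TensorQCoh.isQuasicoherent_tensorMod (K.X i.1.1) (L.X i.1.2)

/-- A K-flat first factor sees only the class of the second. -/
lemma nonempty_tensor_congr_left {K : CochainComplex X.Modules ℤ} (hK : DCoh.IsKFlat K)
    {L L' : CochainComplex X.Modules ℤ} (e : DCoh.toD X L ≅ DCoh.toD X L') :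
    Nonempty (DCoh.toD X ((DCoh.tensorCx.obj K).obj L) ≅ DCoh.toD X ((DCoh.tensorCx.obj K).obj L')) := by
  obtain ⟨E, s, hs, a, ha⟩ := DerivedCategory.right_fac e.hom
  let Q' : CochainComplex X.Modules ℤ ⥤ DCoh.D X := DerivedCategory.Q
  have hs' : IsIso (Q'.map s) := hs
  have ha' : IsIso (Q'.map a) := by
    rw [show Q'.map a = Q'.map s ≫ e.hom by rw [ha]; exact (IsIso.hom_inv_id_assoc _ _).symm]
    infer_instance
  have hK' := ModGroth.flatL_site (O := X.sheaf) hK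
  exact ⟨(@asIso _ _ _ _ _ (ModGroth.Amp.isIso_Q_map (((DCoh.tensorCx (X := X)).obj K).map s)
      (KFlat.FlatL.quasiIso _ hK' s ((DerivedCategory.isIso_Q_map_iff_quasiIso (C := X.Modules) s).1 hs')))).symm ≪≫
    @asIso _ _ _ _ _ (ModGroth.Amp.isIso_Q_map (((DCoh.tensorCx (X := X)).obj K).map a)
      (KFlat.FlatL.quasiIso _ hK' a ((DerivedCategory.isIso_Q_map_iff_quasiIso (C := X.Modules) a).1 ha')))⟩

open ModGroth in
/-- The derived tensor product preserves `D_QCoh`. -/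
theorem isQCohD_ltensorCx (F : CochainComplex X.Modules ℤ) (hF : DCoh.IsQCohD (DCoh.toD X F))
    [DCoh.HasLTensorCx F] {E : DCoh.D X} (hE : DCoh.IsQCohD E) : DCoh.IsQCohD ((DCoh.LTensorCx F).obj E) := by
  refine isQCohD_of_cover fun x => ?_
  obtain ⟨V, hV, hx, -⟩ := exists_isAffineOpen_mem_and_subset (U := ⊤) (TopologicalSpace.Opens.mem_top x)
  obtain ⟨P, hP, -, ⟨eP⟩⟩ := Amp.exists_rep E
  obtain ⟨G, hG, ⟨eG⟩⟩ := exists_good V hV hE
  obtain ⟨H, hH, ⟨eH⟩⟩ := exists_good V hV hF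
  haveI := hasLTensorCx ((DCoh.restrictCx V).obj F)
  obtain ⟨e₃⟩ := nonempty_tensor_congr_left hG.kFlat (eH ≪≫ (Perf.rDIso V (Iso.refl (DCoh.toD X F))).symm)
  refine ⟨V, hx, isQCohD_of_iso ?_ (isQCohD_toD _ (isQCoh_tensorCx G H hG.qcoh hH.qcoh))⟩
  exact e₃ ≪≫ (ltenValueIso _ hG.kFlat).symm ≪≫
    (DCoh.LTensorCx ((DCoh.restrictCx V).obj F)).mapIso (eG ≪≫ (Perf.rDIso V eP).symm) ≪≫
    ltenValueIso _ (Perf.isKFlat_restrictCx V hP) ≪≫
    DerivedCategory.Q.mapIso (Perf.restrTotIso V P F).symm ≪≫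
    Perf.rDIso V ((ltenValueIso F hP).symm ≪≫ (DCoh.LTensorCx F).mapIso eP)

end Groth.Agent.DQC
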