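import Groth.Agent.DQC.RHomBound
import Groth.Agent.QCohLib.Coherent
import Groth.Agent.QCohLib.CohLocal
import Groth.Agent.DCohPerf.CohPC
import Groth.Agent.DCohPerf.Coherent
import Groth.Agent.DCohPerf.Summand
import Groth.Agent.HigherDirect.Coherent

/-!
# `RHom(K, -)` and coherent cohomology on locally Noetherian schemes
-/

set_option autoImplicit false
set_option linter.style.haveILetI false
set_option linter.unusedSectionVars false

universe u

open CategoryTheory CategoryTheory.Limits CategoryTheory.Pretriangulated AlgebraicGeometry HomologicalComplex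
open scoped ZeroObject

attribute [local instance] HasDerivedCategory.standard

namespace Groth.Agent.DQC

variable {X : Scheme.{u}} [IsLocallyNoetherian X]

instance isLocallyNoetherian_opens (V : X.Opens) : IsLocallyNoetherian (V : Scheme.{u}) :=
  isLocallyNoetherian_of_isOpenImmersion V.ι

/-- Coherence as a property of objects. -/
abbrev coh (X : Scheme.{u}) : ObjectProperty X.Modules := fun M => Coh.IsCoh M

instance isClosedUnderKernels_coh : (coh X).IsClosedUnderKernels where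
  kernels_le := by
    intro Z h
    cases h with
    | of_isLimit f k hk hf =>
      exact QCohLib.isCoh_of_iso (limit.isoLimitCone ⟨k, hk⟩) (QCohLib.isCoh_kernel f hf.1 hf.2.1)

instance isClosedUnderCokernels_coh : (coh X).IsClosedUnderCokernels where
  cokernels_le := by
    intro Z h
    cases h with
    | of_isColimit f k hk hf =>
      exact QCohLib.isCoh_of_iso (colimit.isoColimitCocone ⟨k, hk⟩) (QCohLib.isCoh_cokernel f hf.1.1 hf.2)

instance isClosedUnderExtensions_coh : (coh X).IsClosedUnderExtensions where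
  prop_X₂_of_shortExact {S} hS h₁ h₃ := QCohLib.isCoh_of_extension S hS h₁ h₃

instance isWeakSerre_coh : WSerre.IsWeakSerre (coh X) where
  exists_zero := by
    haveI : IsLocallyNoetherian X := inferInstance
    exact ⟨FlatMod.freeMod X 0, (IsZero.iff_id_eq_zero _).2 (Sigma.hom_ext _ _ fun i => i.elim0),
      DCohPerf.isCoh_finLocFree (DCohPerf.isFinLocFree_free 0)⟩

theorem isCohD_shift {K : DCoh.D X} (h : DCoh.IsCohD K) (n : ℤ) :
    DCoh.IsCohD ((shiftFunctor (DCoh.D X) n).obj K) := fun i =>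
  (coh X).prop_of_iso (((DerivedCategory.homologyFunctor X.Modules 0).shiftIso n i (n + i) rfl).app K).symm (h (n + i))

theorem isCohD_rD (V : X.Opens) {K : DCoh.D X} (h : DCoh.IsCohD K) :
    DCoh.IsCohD ((ModGroth.Perf.rD V).obj K) := fun i =>
  QCohLib.isCoh_of_iso (DerAdj.homology_mapDerivedCategory (Scheme.Modules.restrictFunctor V.ι) K i).some.symm
    (HigherDirect.isCoh_restrict V.ι (h i))

theorem isCohD_of_cover {K : DCoh.D X}
    (h : ∀ x : X, ∃ V : X.Opens, x ∈ V ∧ DCoh.IsCohD ((ModGroth.Perf.rD V).obj K)) : DCoh.IsCohD K := by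
  choose V hx hV using h
  intro i
  refine QCohLib.isCoh_of_cover (ι := X) (fun x => (V x).ι) (fun x => ⟨x, ⟨⟨x, hx x⟩, rfl⟩⟩) fun x => ?_
  exact QCohLib.isCoh_of_iso (DerAdj.homology_mapDerivedCategory (Scheme.Modules.restrictFunctor (V x).ι) K i).some (hV x i)

theorem isCohD_of_iso {K L : DCoh.D X} (e : K ≅ L) (h : DCoh.IsCohD K) : DCoh.IsCohD L := fun i =>
  QCohLib.isCoh_of_iso ((DerivedCategory.homologyFunctor _ i).mapIso e) (h i)

/-- `RHom(E, -)` preserves coherent cohomology. -/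
structure HomCoh (E : CochainComplex X.Modules ℤ) : Prop where
  qcoh : ∀ [DCoh.HasLTensorCx E] [DCoh.HasRSheafHom E] (Y : DCoh.D X),
    DCoh.IsCohD Y → DCoh.IsCohD ((DCoh.RSheafHom E).obj Y)


/-- Transport along a description of `- ⊗ᴸ E` as a left adjoint. -/
theorem homCoh_of_natIso (E : CochainComplex X.Modules ℤ)
    (h : ∀ [DCoh.HasLTensorCx E], ∃ (L R : DCoh.D X ⥤ DCoh.D X) (_ : L ⊣ R), Nonempty (DCoh.LTensorCx E ≅ L) ∧
      ∀ Y, DCoh.IsCohD Y → DCoh.IsCohD (R.obj Y)) : HomCoh E := by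
  refine ⟨fun {_ _} Y hY => ?_⟩
  obtain ⟨L, R, adj, ⟨e⟩, hR⟩ := h
  exact isCohD_of_iso (((adj.ofNatIsoLeft e.symm).rightAdjointUniq (DCoh.RSheafHomAdj E)).app Y) (hR Y hY)

theorem homCoh_of_quasiIso {E E' : CochainComplex X.Modules ℤ} (f : E ⟶ E') (hf : QuasiIso f) (h : HomCoh E) :
    HomCoh E' := by
  refine homCoh_of_natIso E' fun {_} => ?_
  haveI := ModGroth.hasLTensorCx E
  haveI := hasRSheafHom E
  haveI := isIso_tauNT f hf
  exact ⟨_, _, DCoh.RSheafHomAdj E, ⟨(asIso (tauNT f)).symm⟩, fun Y hY => h.qcoh Y hY⟩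

theorem homCoh_of_quasiIso' {E E' : CochainComplex X.Modules ℤ} (f : E ⟶ E') (hf : QuasiIso f) (h : HomCoh E') :
    HomCoh E := by
  refine homCoh_of_natIso E fun {_} => ?_
  haveI := ModGroth.hasLTensorCx E'
  haveI := hasRSheafHom E'
  haveI := isIso_tauNT f hf
  exact ⟨_, _, DCoh.RSheafHomAdj E', ⟨asIso (tauNT f)⟩, fun Y hY => h.qcoh Y hY⟩

theorem homCoh_of_iso {E E' : CochainComplex X.Modules ℤ} (e : E ≅ E') (h : HomCoh E) : HomCoh E' :=
  homCoh_of_quasiIso e.hom inferInstance h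

/-- `RHom(E, -)` depends only on the class of `E`. -/
theorem homCoh_of_isoD {E E' : CochainComplex X.Modules ℤ} (e : DCoh.toD X E ≅ DCoh.toD X E') (h : HomCoh E) :
    HomCoh E' := by
  obtain ⟨F, s, hs, a, ha⟩ := DerivedCategory.right_fac e.hom
  let Q' : CochainComplex X.Modules ℤ ⥤ DCoh.D X := DerivedCategory.Q
  have hs' : IsIso (Q'.map s) := hs
  have ha' : IsIso (Q'.map a) := by
    rw [show Q'.map a = Q'.map s ≫ e.hom by rw [ha]; exact (IsIso.hom_inv_id_assoc _ _).symm]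
    infer_instance
  exact homCoh_of_quasiIso a ((DerivedCategory.isIso_Q_map_iff_quasiIso (C := X.Modules) a).1 ha')
    (homCoh_of_quasiIso' s ((DerivedCategory.isIso_Q_map_iff_quasiIso (C := X.Modules) s).1 hs') h)


theorem homCoh_shift {E : CochainComplex X.Modules ℤ} (hE : DCoh.IsKFlat E) (h : HomCoh E) (n : ℤ) :
    HomCoh (E⟦n⟧) := by
  refine homCoh_of_natIso _ fun {_} => ?_
  haveI := ModGroth.hasLTensorCx E
  haveI := hasRSheafHom E
  refine ⟨_, _, (DCoh.RSheafHomAdj E).comp (shiftEquiv (DCoh.D X) n).toAdjunction,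
    ⟨ltenIsoOfTensor _ (isKFlat_shift hE n) _ ?_⟩, fun Y hY => h.qcoh _ (isCohD_shift hY _)⟩
  exact Functor.isoWhiskerRight (tensEShift E n) _ ≪≫ Functor.associator _ _ _ ≪≫
    Functor.isoWhiskerLeft _ ((DerivedCategory.Q (C := X.Modules)).commShiftIso n) ≪≫
    (Functor.associator _ _ _).symm ≪≫ Functor.isoWhiskerRight (cIso E hE).symm _ ≪≫ Functor.associator _ _ _


/-- Degree zero determines the other degrees. -/
theorem homCoh_single {M : X.Modules} (hM : FlatMod.IsFinLocFree M)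
    (h : HomCoh ((single X.Modules (ComplexShape.up ℤ) 0).obj M)) (n : ℤ) :
    HomCoh ((single X.Modules (ComplexShape.up ℤ) n).obj M) :=
  homCoh_of_iso (((CochainComplex.singleFunctors X.Modules).shiftIso (-n) n 0 (by omega)).app M)
    (homCoh_shift (ModGroth.Perf.isKFlat_of_isStrictlyPerfect (isStrictlyPerfect_single hM 0)) h (-n))


theorem homCoh_unit : HomCoh ((single X.Modules (ComplexShape.up ℤ) 0).obj (Coh.structureModule X)) := by
  refine homCoh_of_natIso _ fun {_} => ⟨_, _, Adjunction.id, ⟨ltenIsoOfTensor _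
    (ModGroth.Perf.isKFlat_of_isStrictlyPerfect (isStrictlyPerfect_single isFinLocFree_structureModule 0)) _ ?_⟩,
    fun Y hY => hY⟩
  exact Functor.isoWhiskerRight tensEUnit _ ≪≫ Functor.leftUnitor _ ≪≫ (Functor.rightUnitor _).symm


/-- `HomCoh` passes to the middle term of a degreewise split sequence of K-flat complexes. -/
theorem homCoh_middle (S : ShortComplex (CochainComplex X.Modules ℤ))
    (σ : ∀ n, (S.map (eval X.Modules (ComplexShape.up ℤ) n)).Splitting)
    (h₁ : DCoh.IsKFlat S.X₁) (h₂ : DCoh.IsKFlat S.X₂) (h₃ : DCoh.IsKFlat S.X₃)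
    (q₁ : HomCoh S.X₁) (q₃ : HomCoh S.X₃) : HomCoh S.X₂ := by
  refine ⟨fun {_ _} Y hY m => ?_⟩
  haveI := ModGroth.hasLTensorCx S.X₁
  haveI := ModGroth.hasLTensorCx S.X₃
  haveI := hasRSheafHom S.X₁
  haveI := hasRSheafHom S.X₃
  exact qc_middle (coh X) S σ h₁ h₂ h₃ Y m (q₁.qcoh _ (isCohD_shift hY _) m) (q₃.qcoh _ hY m) (q₁.qcoh _ hY m)
    (q₃.qcoh _ (isCohD_shift hY _) m)


theorem homCoh_of_cover (K : CochainComplex X.Modules ℤ) (hK : DCoh.IsKFlat K)
    (h : ∀ x : X, ∃ V : X.Opens, x ∈ V ∧ HomCoh ((DCoh.restrictCx V).obj K)) : HomCoh K := by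
  refine ⟨fun {_ _} Y hY => isCohD_of_cover fun x => ?_⟩
  obtain ⟨V, hx, hV⟩ := h x
  haveI := ModGroth.hasLTensorCx ((DCoh.restrictCx V).obj K)
  haveI := hasRSheafHom ((DCoh.restrictCx V).obj K)
  exact ⟨V, hx, isCohD_of_iso ((rhomRestrIso V K hK).app Y).symm (hV.qcoh _ (isCohD_rD V hY))⟩

theorem homCoh_of_isZero (E : CochainComplex X.Modules ℤ) (h : IsZero E) : HomCoh E := by
  refine ⟨fun {_ _} Y _ i => ?_⟩
  have hk : DCoh.IsKFlat E := KFlat.FlatR.of_iso (DCoh.tensorBi (X := X))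
    (isZero_zero _ |>.iso h) (fun M _ i => by
      exact Functor.map_isZero (HomologicalComplex.homologyFunctor X.Modules (ComplexShape.up ℤ) i)
        ((KFlat.tensR (DCoh.tensorBi (X := X)) M).map_isZero (isZero_zero _)))
  have hz : ∀ A, IsZero ((DCoh.LTensorCx E).obj A) := fun A =>
    ((DerivedCategory.Q : CochainComplex X.Modules ℤ ⥤ DCoh.D X).map_isZero
      ((KFlat.tensR (DCoh.tensorBi (X := X)) (DerivedCategory.Q.objPreimage A)).map_isZero h)).of_iso
      ((DCoh.LTensorCx E).mapIso (DerivedCategory.Q.objObjPreimageIso A).symm ≪≫ (cIso E hk).app _)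
  have hR : IsZero ((DCoh.RSheafHom E).obj Y) := (IsZero.iff_id_eq_zero _).2
    (((DCoh.RSheafHomAdj E).homEquiv _ Y).symm.injective ((hz _).eq_of_src _ _))
  exact (coh X).prop_of_isZero (Functor.map_isZero (DerivedCategory.homologyFunctor X.Modules i) hR)


theorem homCoh_free : ∀ r : ℕ, HomCoh ((single X.Modules (ComplexShape.up ℤ) 0).obj (FlatMod.freeMod X r))
  | 0 => homCoh_of_isZero _ ((single X.Modules (ComplexShape.up ℤ) 0).map_isZero
      ((IsZero.iff_id_eq_zero _).2 (Sigma.hom_ext _ _ fun i => i.elim0)))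
  | r + 1 => by
    have hk : ∀ M, FlatMod.IsFinLocFree M → DCoh.IsKFlat ((single X.Modules (ComplexShape.up ℤ) 0).obj M) :=
      fun M hM => ModGroth.Perf.isKFlat_of_isStrictlyPerfect (isStrictlyPerfect_single hM 0)
    exact homCoh_middle ((freeSeq X r).map (single X.Modules (ComplexShape.up ℤ) 0))
      (fun n => (freeSeqSplitting X r).map (single X.Modules (ComplexShape.up ℤ) 0 ⋙ eval X.Modules (ComplexShape.up ℤ) n))
      (hk _ (DCohPerf.isFinLocFree_free r)) (hk _ (DCohPerf.isFinLocFree_free (r + 1)))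
      (hk _ isFinLocFree_structureModule) (homCoh_free r) homCoh_unit

theorem homCoh_finLocFree {M : X.Modules} (hM : FlatMod.IsFinLocFree M) (n : ℤ) :
    HomCoh ((single X.Modules (ComplexShape.up ℤ) n).obj M) := by
  refine homCoh_single hM (homCoh_of_cover _
    (ModGroth.Perf.isKFlat_of_isStrictlyPerfect (isStrictlyPerfect_single hM 0)) fun x => ?_) n
  obtain ⟨U, r, hx, ⟨i⟩⟩ := hM x
  refine ⟨U, hx, homCoh_of_iso ?_ (homCoh_free r)⟩
  exact (single _ (ComplexShape.up ℤ) 0).mapIso i.symm ≪≫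
    ((HomologicalComplex.singleMapHomologicalComplex (Scheme.Modules.restrictFunctor U.ι) (ComplexShape.up ℤ) 0).app M).symm


theorem homCoh_of_isStrictlyPerfect {E : CochainComplex X.Modules ℤ} (hE : DCoh.IsStrictlyPerfect E) : HomCoh E := by
  obtain ⟨⟨a, b, hz⟩, hl⟩ := hE
  obtain ⟨k, hk⟩ : ∃ k : ℕ, b - a < k := ⟨(b - a + 1).toNat, by omega⟩
  induction k generalizing E b with
  | zero => exact homCoh_of_isZero E ((IsZero.iff_id_eq_zero _).2 (HomologicalComplex.hom_ext _ _ fun i => (hz i (by omega)).eq_of_src _ _))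
  | succ k ih =>
    obtain ⟨S, hS, h1, h2, h3, h3'⟩ := PCohLib.exists_ses_top E b (hz (b + 1) (Or.inr (by omega)))
    have hz3 : ∀ i, i < a ∨ b - 1 < i → IsZero (S.X₃.X i) := fun i hi => by
      by_cases hib : i = b
      · exact hib ▸ h3
      · exact (hz i (by omega)).of_iso (h3' i hib).some.symm
    have hl3 : ∀ i, FlatMod.IsFinLocFree (S.X₃.X i) := fun i => by
      by_cases hib : i = b
      · exact ModGroth.Perf.isFinLocFree_of_isZero (hib ▸ h3)
      · exact isFinLocFree_congr (h3' i hib).some (hl i)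
    have sp3 : DCoh.IsStrictlyPerfect S.X₃ := ⟨⟨a, b - 1, hz3⟩, hl3⟩
    have σ : ∀ n, (S.map (eval X.Modules (ComplexShape.up ℤ) n)).Splitting := fun n => by
      refine splittingOfEither (hS.map_of_exact _) ?_
      by_cases hnb : n = b
      · exact Or.inr (hnb ▸ h3)
      · left
        change IsZero (S.X₁.X n)
        rw [h1]
        exact isZero_single_obj_X _ _ _ _ hnb
    rw [← h2]
    refine homCoh_middle S σ ?_ (h2 ▸ ModGroth.Perf.isKFlat_of_isStrictlyPerfect ⟨⟨a, b, hz⟩, hl⟩)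
      (ModGroth.Perf.isKFlat_of_isStrictlyPerfect sp3) ?_ (ih hl3 (b - 1) hz3 (by omega))
    · rw [h1]
      exact ModGroth.Perf.isKFlat_of_isStrictlyPerfect (isStrictlyPerfect_single (hl b) b)
    · rw [h1]
      exact homCoh_finLocFree (hl b) b


theorem coh_HD_of_isGE {K : DCoh.D X} (r j : ℤ) [K.IsGE r] (h : j < r) : Coh.IsCoh (DCoh.HD K j) :=
  (coh X).prop_of_isZero (K.isZero_of_isGE r j h)

/-- The range in which `RHom(K, -)` of an `n`-pseudo-coherent `K` stays coherent. -/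
theorem isCoh_HD_rsheafHom_of_pc (K : CochainComplex X.Modules ℤ) (n : ℤ)
    (hK : DCoh.IsPseudoCoherentD n (DCoh.toD X K)) [DCoh.HasLTensorCx K] [DCoh.HasRSheafHom K]
    (Y : DCoh.D X) (hY : DCoh.IsCohD Y) (r : ℤ) [Y.IsGE r] (j : ℤ) (hj : j < r - n) :
    Coh.IsCoh (DCoh.HD ((DCoh.RSheafHom K).obj Y) j) := by
  obtain ⟨P, q, hP, -, hq, -⟩ := ModGroth.scheme_exists_resolution K
  haveI := ModGroth.hasLTensorCx P
  haveI := hasRSheafHom P
  haveI := isIso_tauNT q hq
  haveI := ModGroth.Amp.isIso_Q_map q hq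
  refine (coh X).prop_of_iso ((DerivedCategory.homologyFunctor X.Modules j).mapIso
    ((((DCoh.RSheafHomAdj P).ofNatIsoLeft (asIso (tauNT q))).rightAdjointUniq (DCoh.RSheafHomAdj K)).app Y)) ?_
  refine QCohLib.isCoh_of_cover (ι := X)
    (fun x => ((ModGroth.Perf.isPseudoCoherentD_iff _ _).1 hK x).choose.ι)
    (fun x => ⟨x, ⟨⟨x, ((ModGroth.Perf.isPseudoCoherentD_iff _ _).1 hK x).choose_spec.1⟩, rfl⟩⟩) fun x => ?_
  obtain ⟨E, α, hE, hα⟩ := ((ModGroth.Perf.isPseudoCoherentD_iff _ _).1 hK x).choose_spec.2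
  generalize ((ModGroth.Perf.isPseudoCoherentD_iff _ _).1 hK x).choose = V at E α hE hα ⊢
  haveI := ModGroth.hasLTensorCx ((DCoh.restrictCx V).obj P)
  haveI := hasRSheafHom ((DCoh.restrictCx V).obj P)
  refine (coh _).prop_of_iso ((DerivedCategory.homologyFunctor _ j).mapIso ((rhomRestrIso V P hP).app Y).symm ≪≫
    (DerAdj.homology_mapDerivedCategory (Scheme.Modules.restrictFunctor V.ι) _ j).some) ?_
  -- on `V`
  let K' := DCoh.toD (V : Scheme.{u}) ((DCoh.restrictCx V).obj P)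
  let eK : K' ≅ (ModGroth.Perf.rD V).obj (DCoh.toD X K) :=
    ModGroth.Perf.rDIso V (asIso ((DerivedCategory.Q : _ ⥤ DCoh.D X).map q))
  obtain ⟨C, g, δ, hT⟩ := distinguished_cocone_triangle (α ≫ eK.inv)
  have hα' : ModGroth.Perf.HCond n (α ≫ eK.inv) := by
    have h := hα.comp_iso (𝟙 _) eK.inv
    rwa [Category.id_comp] at h
  haveI : C.IsLE (n - 1) := (DerivedCategory.isLE_iff _ _).2 fun i hi =>
    ((ModGroth.Perf.cond_iff hT n).1 hα') i (by omega)
  haveI : ((shiftFunctor (DCoh.D (V : Scheme.{u})) (-1 : ℤ)).obj C).IsLE n :=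
    DerivedCategory.TStructure.t.isLE_shift C (n - 1) (-1) n (by omega)
  obtain ⟨R, hR, hRk, ⟨eR⟩⟩ := exists_flat_rep_isLE ((shiftFunctor (DCoh.D (V : Scheme.{u})) (-1 : ℤ)).obj C) n
  have hT' := inv_rot_of_distTriang _ hT
  obtain ⟨P₂, s, hs, a, ha⟩ := DerivedCategory.right_fac (eR.hom ≫ (Triangle.mk (α ≫ eK.inv) g δ).invRotate.mor₁)
  obtain ⟨P₃, q₃, hP₃, -, hq₃, -⟩ := ModGroth.scheme_exists_resolution P₂
  let Q' : CochainComplex (V : Scheme.{u}).Modules ℤ ⥤ DCoh.D (V : Scheme.{u}) := DerivedCategory.Q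
  have hs' : IsIso (Q'.map s) := hs
  have hq₃' : IsIso (Q'.map q₃) := ModGroth.Amp.isIso_Q_map q₃ hq₃
  let φ : P₃ ⟶ E := q₃ ≫ a
  have hEk := ModGroth.Perf.isKFlat_of_isStrictlyPerfect hE
  let Mc := CochainComplex.mappingCone φ
  have hMk : DCoh.IsKFlat Mc := KFlat.FlatR.mappingCone (DCoh.tensorBi (X := (V : Scheme.{u}))) φ hP₃ hEk
  let e₃ := isoTriangleOfIso₁₂ _ _ (DerivedCategory.mappingCone_triangle_distinguished φ) hT'
    (@asIso _ _ _ _ (Q'.map q₃) hq₃' ≪≫ @asIso _ _ _ _ (Q'.map s) hs' ≪≫ eR) (Iso.refl _) (by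
      change Q'.map φ ≫ 𝟙 _ = _
      rw [Category.comp_id, Q'.map_comp]
      simp only [Iso.trans_hom, asIso_hom, Category.assoc]
      refine congrArg (_ ≫ ·) ?_
      exact ((congrArg (Q'.map s ≫ ·) ha).trans (IsIso.hom_inv_id_assoc (Q'.map s) (Q'.map a))).symm)
  let eM : Q'.obj Mc ≅ K' := Triangle.π₃.mapIso e₃
  -- compare `RHom(P|V, -)` with `RHom(Mc, -)`
  obtain ⟨P₄, s₄, hs₄, a₄, ha₄⟩ := DerivedCategory.right_fac eM.hom
  haveI : IsIso (Q'.map s₄) := hs₄
  haveI : IsIso (Q'.map a₄) := by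
    rw [show Q'.map a₄ = Q'.map s₄ ≫ eM.hom by rw [ha₄]; exact (IsIso.hom_inv_id_assoc _ _).symm]
    infer_instance
  haveI := ModGroth.hasLTensorCx P₄
  haveI := hasRSheafHom P₄
  haveI := ModGroth.hasLTensorCx Mc
  haveI := hasRSheafHom Mc
  haveI := isIso_tauNT s₄ ((DerivedCategory.isIso_Q_map_iff_quasiIso (C := (V : Scheme.{u}).Modules) s₄).1 hs₄)
  haveI := isIso_tauNT a₄ ((DerivedCategory.isIso_Q_map_iff_quasiIso (C := (V : Scheme.{u}).Modules) a₄).1
    (inferInstanceAs (IsIso (Q'.map a₄))))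
  let YV := (ModGroth.Perf.rD V).obj Y
  have hYV : DCoh.IsCohD YV := isCohD_rD V hY
  haveI : YV.IsGE r := DerAdj.isGE_mapDerivedCategory (Scheme.Modules.restrictFunctor V.ι) Y r
  refine (coh _).prop_of_iso ((DerivedCategory.homologyFunctor _ j).mapIso
    ((((DCoh.RSheafHomAdj P₄).ofNatIsoLeft (asIso (tauNT s₄))).rightAdjointUniq (DCoh.RSheafHomAdj Mc)).app YV).symm ≪≫
    (DerivedCategory.homologyFunctor _ j).mapIso (((Adjunction.rightAdjointUniq (DCoh.RSheafHomAdj P₄)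
        ((DCoh.RSheafHomAdj _).ofNatIsoLeft (asIso (tauNT a₄)).symm))).app YV)) ?_
  -- the five term sequence
  let S := CochainComplex.mappingCone.triangleRotateShortComplex φ
  haveI := ModGroth.hasLTensorCx S.X₁
  haveI := hasRSheafHom S.X₁
  haveI := ModGroth.hasLTensorCx S.X₃
  haveI := hasRSheafHom S.X₃
  haveI : DCoh.HasLTensorCx S.X₂ := ModGroth.hasLTensorCx Mc
  haveI : DCoh.HasRSheafHom S.X₂ := hasRSheafHom Mc
  have qE : HomCoh S.X₁ := homCoh_of_isStrictlyPerfect hE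
  have h₃k : DCoh.IsKFlat S.X₃ := isKFlat_shift hP₃ 1
  haveI := ModGroth.hasLTensorCx (R⟦(1 : ℤ)⟧)
  haveI := hasRSheafHom (R⟦(1 : ℤ)⟧)
  haveI : (R⟦(1 : ℤ)⟧).IsStrictlyLE (n - 1) := R.isStrictlyLE_shift n 1 (n - 1) (by omega)
  have hqs : QuasiIso (q₃ ≫ s) :=
    haveI := hq₃
    haveI : QuasiIso s := (DerivedCategory.isIso_Q_map_iff_quasiIso (C := (V : Scheme.{u}).Modules) s).1 hs
    inferInstance
  have hqs' : QuasiIso ((shiftFunctor (CochainComplex (V : Scheme.{u}).Modules ℤ) (1 : ℤ)).map (q₃ ≫ s)) :=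
    haveI := hqs
    inferInstance
  haveI := isIso_tauNT (E := S.X₃) (E' := R⟦(1 : ℤ)⟧) ((shiftFunctor _ (1 : ℤ)).map (q₃ ≫ s)) hqs'
  let e₅ : DCoh.RSheafHom S.X₃ ≅ DCoh.RSheafHom (R⟦(1 : ℤ)⟧) :=
    ((DCoh.RSheafHomAdj S.X₃).ofNatIsoLeft (asIso (tauNT (E := S.X₃) (E' := R⟦(1 : ℤ)⟧)
      ((shiftFunctor _ (1 : ℤ)).map (q₃ ≫ s))))).rightAdjointUniq (DCoh.RSheafHomAdj _)
  have hvan : ∀ (Z : DCoh.D (V : Scheme.{u})) (r' : ℤ), Z.IsGE r' → j < r' - (n - 1) →
      Coh.IsCoh (DCoh.HD ((DCoh.RSheafHom S.X₃).obj Z) j) := fun Z r' _ hj' => by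
    haveI := isGE_rsheafHom (R⟦(1 : ℤ)⟧) (n - 1) (isKFlat_shift hRk 1) Z r'
    exact (coh _).prop_of_iso ((DerivedCategory.homologyFunctor _ j).mapIso (e₅.app Z)).symm
      (coh_HD_of_isGE (K := (DCoh.RSheafHom (R⟦(1 : ℤ)⟧)).obj Z) (r' - (n - 1)) j hj')
  exact qc_middle (coh _) S (CochainComplex.mappingCone.triangleRotateShortComplexSplitting φ) hEk hMk h₃k YV j
    (qE.qcoh _ (isCohD_shift hYV _) j) (hvan YV r inferInstance (by omega)) (qE.qcoh _ hYV j)
    (hvan _ (r - 1) (DerivedCategory.TStructure.t.isGE_shift YV r 1 (r - 1) (by omega)) (by omega))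


/-- Bounded above objects with coherent cohomology are pseudo-coherent. -/
theorem isPC_of_coh {K : DCoh.D X} (b : ℤ) [K.IsLE b] (hK : DCoh.IsCohD K) (m : ℤ) :
    DCoh.IsPseudoCoherentD m K := by
  let t : Triangulated.TStructure (DCoh.D X) := DerivedCategory.TStructure.t
  have hm : m - 1 + 1 = m := by omega
  have hT := t.triangleLEGE_distinguished (m - 1) m hm K
  haveI hle : (((t.triangleLEGE (m - 1) m hm).obj K).obj₁).IsLE (m - 1) := t.isLE_truncLE_obj _ _ _
  haveI hge : (((t.triangleLEGE (m - 1) m hm).obj K).obj₃).IsGE m := by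
    change t.IsGE ((t.truncGE m).obj K) m
    infer_instance
  have h₁ : ∀ i, m ≤ i → IsZero (DCoh.HD ((t.triangleLEGE (m - 1) m hm).obj K).obj₁ i) := fun i hi =>
    (((t.triangleLEGE (m - 1) m hm).obj K).obj₁).isZero_of_isLE (m - 1) i (by omega)
  have hiso : ∀ i, m ≤ i → IsIso ((DerivedCategory.homologyFunctor X.Modules i).map
      ((t.triangleLEGE (m - 1) m hm).obj K).mor₂) := fun i hi => by
    haveI : Mono ((DerivedCategory.homologyFunctor X.Modules i).map
        ((t.triangleLEGE (m - 1) m hm).obj K).mor₂) :=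
      (DerivedCategory.HomologySequence.exact₂ _ hT i).mono_g ((h₁ i hi).eq_of_src _ _)
    haveI : Epi ((DerivedCategory.homologyFunctor X.Modules i).map
        ((t.triangleLEGE (m - 1) m hm).obj K).mor₂) :=
      (DerivedCategory.HomologySequence.exact₃ _ hT i (i + 1) rfl).epi_f ((h₁ (i + 1) (by omega)).eq_of_tgt _ _)
    exact isIso_of_mono_of_epi _
  refine DCohPerf.isPC_triangle₂ m hT (DCohPerf.isPC_of_isZero m h₁) (DCohPerf.isPC_of_dbCoh ⟨fun i => ?_, ?_⟩ m)
  · by_cases hi : m ≤ i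
    · haveI := hiso i hi
      exact QCohLib.isCoh_of_iso (asIso ((DerivedCategory.homologyFunctor X.Modules i).map
        ((t.triangleLEGE (m - 1) m hm).obj K).mor₂)) (hK i)
    · exact (coh X).prop_of_isZero ((((t.triangleLEGE (m - 1) m hm).obj K).obj₃).isZero_of_isGE m i (by omega))
  · refine ⟨m, max b m, hge, (DerivedCategory.isLE_iff _ _).2 fun i hi => ?_⟩
    haveI := hiso i (by omega)
    exact IsZero.of_iso (K.isZero_of_isLE b i (by omega)) (asIso ((DerivedCategory.homologyFunctor X.Modules i).map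
      ((t.triangleLEGE (m - 1) m hm).obj K).mor₂)).symm

/-- Coherence and boundedness of `RHom(K, L)`. -/
theorem isCohD_rsheafHom (K : CochainComplex X.Modules ℤ) (b : ℤ) [(DCoh.toD X K).IsLE b]
    (hK : DCoh.IsCohD (DCoh.toD X K)) [DCoh.HasLTensorCx K] [DCoh.HasRSheafHom K] (L : DCoh.D X) (a : ℤ) [L.IsGE a]
    (hL : DCoh.IsCohD L) :
    DCoh.IsCohD ((DCoh.RSheafHom K).obj L) ∧ ((DCoh.RSheafHom K).obj L).IsGE (a - b) := by
  refine ⟨fun j => isCoh_HD_rsheafHom_of_pc K (a - j - 1) (isPC_of_coh b hK _) L hL a j (by omega), ?_⟩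
  obtain ⟨R, hR, hRk, ⟨e⟩⟩ := exists_flat_rep_isLE (DCoh.toD X K) b
  obtain ⟨P, s, hs, f, hf⟩ := DerivedCategory.right_fac e.hom
  let Q' : CochainComplex X.Modules ℤ ⥤ DCoh.D X := DerivedCategory.Q
  haveI : IsIso (Q'.map s) := hs
  haveI : IsIso (Q'.map f) := by
    rw [show Q'.map f = Q'.map s ≫ e.hom by rw [hf]; exact (IsIso.hom_inv_id_assoc _ _).symm]
    infer_instance
  haveI := ModGroth.hasLTensorCx R
  haveI := hasRSheafHom R
  haveI := ModGroth.hasLTensorCx P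
  haveI := hasRSheafHom P
  haveI := isIso_tauNT s ((DerivedCategory.isIso_Q_map_iff_quasiIso (C := X.Modules) s).1 hs)
  haveI := isIso_tauNT f ((DerivedCategory.isIso_Q_map_iff_quasiIso (C := X.Modules) f).1
    (inferInstanceAs (IsIso (Q'.map f))))
  haveI := isGE_rsheafHom R b hRk L a
  exact DerivedCategory.TStructure.t.isGE_of_iso (X := (DCoh.RSheafHom R).obj L)
    (((((DCoh.RSheafHomAdj P).ofNatIsoLeft (asIso (tauNT s))).rightAdjointUniq (DCoh.RSheafHomAdj R)).app L).symm ≪≫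
      (((DCoh.RSheafHomAdj P).ofNatIsoLeft (asIso (tauNT f))).rightAdjointUniq (DCoh.RSheafHomAdj K)).app L) _

end Groth.Agent.DQC
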