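import Groth.Agent.DQC.RelAmpHom
import Groth.Agent.DQC.RHomCoh
import Groth.Agent.DQCPush.QCohD

/-!
# `P ⊗ᴸ K` is bounded coherent for `P` perfect and `K` bounded coherent
-/

set_option autoImplicit false
set_option linter.style.haveILetI false

universe u

open CategoryTheory CategoryTheory.Limits CategoryTheory.Pretriangulated AlgebraicGeometry TopologicalSpace
  HomologicalComplex

attribute [local instance] HasDerivedCategory.standard

namespace Groth.Agent.DQC.PerfTensorCoh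

open DCohPerf (rF rC RD RQ)

variable {X : Scheme.{u}}

/-- Bounded coherent homology supported in `Z`. -/
def Nice (Z : Set X) (C : CochainComplex X.Modules ℤ) : Prop :=
  ∃ A B : ℤ, ∀ i, Coh.IsCoh (C.homology i) ∧ ((i < A ∨ B < i) → IsZero (C.homology i)) ∧
    ∀ z : X, z ∉ Z → Subsingleton ((C.homology i).presheaf.stalk z)

variable {Z : Set X}

lemma subsingleton_of_iso {M N : X.Modules} (e : M ≅ N) (z : X) (h : Subsingleton (N.presheaf.stalk z)) :
    Subsingleton (M.presheaf.stalk z) := by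
  haveI := h
  exact ((QCohLib.isIso_iff_stalk_bijective e.hom).mp inferInstance z).1.subsingleton

lemma Nice.of_iso {C C' : CochainComplex X.Modules ℤ} (e : ∀ i, C.homology i ≅ C'.homology i) (h : Nice Z C) :
    Nice Z C' := by
  obtain ⟨A, B, hC⟩ := h
  exact ⟨A, B, fun i => ⟨QCohLib.isCoh_of_iso (e i) (hC i).1, fun hi => ((hC i).2.1 hi).of_iso (e i).symm,
    fun z hz => subsingleton_of_iso (e i).symm z ((hC i).2.2 z hz)⟩⟩

lemma nice_of_isZero [IsLocallyNoetherian X] {C : CochainComplex X.Modules ℤ} (h : IsZero C) : Nice Z C :=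
  ⟨0, 0, fun i =>
    have hz : IsZero (C.homology i) := (homologyFunctor X.Modules (ComplexShape.up ℤ) i).map_isZero h
    ⟨QCohLib.isCoh_of_isZero hz, fun _ => hz, fun z _ => QCohLib.subsingleton_stalk_of_isZero hz z⟩⟩

lemma nice_shift {C : CochainComplex X.Modules ℤ} (h : Nice Z C) (n : ℤ) : Nice Z (C⟦n⟧) := by
  obtain ⟨A, B, hC⟩ := h
  refine ⟨A - n, B - n, fun i => ?_⟩
  let e : (C⟦n⟧).homology i ≅ C.homology (n + i) :=
    (((homologyFunctor X.Modules (ComplexShape.up ℤ) 0).shiftIso n i (n + i) rfl).app C)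
  exact ⟨QCohLib.isCoh_of_iso e.symm (hC _).1, fun hi => ((hC _).2.1 (by omega)).of_iso e,
    fun z hz => subsingleton_of_iso e z ((hC _).2.2 z hz)⟩

lemma nice_middle [IsLocallyNoetherian X] {S : ShortComplex (CochainComplex X.Modules ℤ)} (hS : S.ShortExact)
    (h₁ : Nice Z S.X₁) (h₃ : Nice Z S.X₃) : Nice Z S.X₂ := by
  obtain ⟨A₁, B₁, h₁⟩ := h₁
  obtain ⟨A₃, B₃, h₃⟩ := h₃
  refine ⟨min A₁ A₃, max B₁ B₃, fun i => ⟨?_, fun hi => ?_, fun z hz => ?_⟩⟩
  · exact DQCPush.isCoh_mid (hS.δ (i - 1) i (by simp)) (homologyMap S.f i) (homologyMap S.g i)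
      (hS.δ i (i + 1) (by simp)) (hS.δ_comp _ _ _) (by rw [← homologyMap_comp, S.zero, homologyMap_zero])
      (hS.comp_δ _ _ _) (hS.homology_exact₁ _ _ _) (hS.homology_exact₂ i) (hS.homology_exact₃ _ _ _)
      (h₃ _).1 (h₁ _).1 (h₃ _).1 (h₁ _).1
  · exact (hS.homology_exact₂ i).isZero_X₂ (((h₁ i).2.1 (by omega)).eq_of_src _ _)
      (((h₃ i).2.1 (by omega)).eq_of_tgt _ _)
  · have hst : ∀ {M : X.Modules}, Subsingleton (M.presheaf.stalk z) → IsZero ((DerSch.stalkFunctor X z).obj M) :=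
      fun {M} h => by
        haveI : Subsingleton ((DerSch.stalkFunctor X z).obj M) := h
        exact ModuleCat.isZero_of_subsingleton _
    exact ModuleCat.subsingleton_of_isZero (ShortComplex.Exact.isZero_X₂
      ((hS.homology_exact₂ i).map (DerSch.stalkFunctor X z))
      ((hst ((h₁ i).2.2 z hz)).eq_of_src _ _) ((hst ((h₃ i).2.2 z hz)).eq_of_tgt _ _))

variable [IsLocallyNoetherian X] (L : CochainComplex X.Modules ℤ)

/-- `L ⊗ E` is nice. -/
def NT (Z : Set X) (E : CochainComplex X.Modules ℤ) : Prop := Nice Z ((DCoh.tensorCx.obj L).obj E)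

variable {L}

lemma NT.of_iso {E E' : CochainComplex X.Modules ℤ} (e : E ≅ E') (h : NT L Z E) : NT L Z E' :=
  Nice.of_iso (fun i => (homologyFunctor X.Modules (ComplexShape.up ℤ) i).mapIso ((DCoh.tensorCx.obj L).mapIso e)) h

lemma nt_unit (hL : Nice Z L) :
    NT L Z ((single X.Modules (ComplexShape.up ℤ) 0).obj (Coh.structureModule X)) :=
  Nice.of_iso (fun i => (homologyFunctor X.Modules (ComplexShape.up ℤ) i).mapIso (tensEUnit.app L).symm) hL

lemma nt_shift {E : CochainComplex X.Modules ℤ} (h : NT L Z E) (n : ℤ) : NT L Z (E⟦n⟧) :=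
  Nice.of_iso (fun i => (homologyFunctor X.Modules (ComplexShape.up ℤ) i).mapIso ((tensEShift E n).app L).symm)
    (nice_shift h n)

lemma nt_middle (T : ShortComplex (CochainComplex X.Modules ℤ))
    (σ : ∀ n, (T.map (eval X.Modules (ComplexShape.up ℤ) n)).Splitting) (h₁ : NT L Z T.X₁) (h₃ : NT L Z T.X₃) :
    NT L Z T.X₂ :=
  nice_middle (KFlat.shortExact_tensR (DCoh.tensorBi (X := X)) T σ L) h₁ h₃

lemma nt_of_isZero (E : CochainComplex X.Modules ℤ) (h : IsZero E) : NT L Z E :=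
  nice_of_isZero ((KFlat.tensR (DCoh.tensorBi (X := X)) L).map_isZero h)

lemma nt_free (hL : Nice Z L) :
    ∀ r : ℕ, NT L Z ((single X.Modules (ComplexShape.up ℤ) 0).obj (FlatMod.freeMod X r))
  | 0 => nt_of_isZero _ ((single X.Modules (ComplexShape.up ℤ) 0).map_isZero
      ((IsZero.iff_id_eq_zero _).2 (Sigma.hom_ext _ _ fun i => i.elim0)))
  | r + 1 => nt_middle ((freeSeq X r).map (single X.Modules (ComplexShape.up ℤ) 0))
      (fun n => (freeSeqSplitting X r).map (single X.Modules (ComplexShape.up ℤ) 0 ⋙ eval X.Modules (ComplexShape.up ℤ) n))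
      (nt_free hL r) (nt_unit hL)

theorem nt_of_free_terms (hL : Nice Z L) {E : CochainComplex X.Modules ℤ} (a b : ℤ)
    (hz : ∀ i, i < a ∨ b < i → IsZero (E.X i))
    (hl : ∀ i, ∃ r : ℕ, Nonempty (E.X i ≅ FlatMod.freeMod X r)) : NT L Z E := by
  obtain ⟨k, hk⟩ : ∃ k : ℕ, b - a < k := ⟨(b - a + 1).toNat, by omega⟩
  induction k generalizing E b with
  | zero => exact nt_of_isZero E ((IsZero.iff_id_eq_zero _).2
      (HomologicalComplex.hom_ext _ _ fun i => (hz i (by omega)).eq_of_src _ _))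
  | succ k ih =>
    obtain ⟨T, hT, h1, h2, h3, h3'⟩ := PCohLib.exists_ses_top E b (hz (b + 1) (Or.inr (by omega)))
    have hz3 : ∀ i, i < a ∨ b - 1 < i → IsZero (T.X₃.X i) := fun i hi => by
      by_cases hib : i = b
      · exact hib ▸ h3
      · exact (hz i (by omega)).of_iso (h3' i hib).some.symm
    have hl3 : ∀ i, ∃ r : ℕ, Nonempty (T.X₃.X i ≅ FlatMod.freeMod X r) := fun i => by
      by_cases hib : i = b
      · exact ⟨0, ⟨(hib ▸ h3).iso ((IsZero.iff_id_eq_zero _).2 (Sigma.hom_ext _ _ fun i => i.elim0))⟩⟩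
      · obtain ⟨r, ⟨e⟩⟩ := hl i
        exact ⟨r, ⟨(h3' i hib).some.symm ≪≫ e⟩⟩
    have σ : ∀ n, (T.map (eval X.Modules (ComplexShape.up ℤ) n)).Splitting := fun n => by
      refine splittingOfEither (hT.map_of_exact _) ?_
      by_cases hnb : n = b
      · exact Or.inr (hnb ▸ h3)
      · left
        change IsZero (T.X₁.X n)
        rw [h1]
        exact isZero_single_obj_X _ _ _ _ hnb
    rw [← h2]
    refine nt_middle T σ ?_ (ih (b - 1) hz3 hl3 (by omega))
    rw [h1]
    obtain ⟨r, ⟨e⟩⟩ := hl b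
    exact NT.of_iso (((CochainComplex.singleFunctors X.Modules).shiftIso (-b) b 0 (by omega)).app (E.X b))
      (nt_shift (NT.of_iso ((single X.Modules (ComplexShape.up ℤ) 0).mapIso e.symm) (nt_free hL r)) (-b))

omit [IsLocallyNoetherian X] in
/-- Restriction along an open immersion commutes with tensor products of complexes. -/
noncomputable def restrTot {Y : Scheme.{u}} (j : Y ⟶ X) [IsOpenImmersion j] (K L : CochainComplex X.Modules ℤ) :
    (rC j).obj ((DCoh.tensorCx.obj K).obj L) ≅ (DCoh.tensorCx.obj ((rC j).obj K)).obj ((rC j).obj L) :=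
  let e := NatIso.mapHomologicalComplex (Scheme.Modules.restrictFunctorIsoPullback j) (ComplexShape.up ℤ)
  e.app _ ≪≫ ModGroth.Stalk.pullTotIso j K L ≪≫
    ((DCoh.tensorCx (X := Y)).mapIso (e.app K).symm).app _ ≪≫
    ((DCoh.tensorCx (X := Y)).obj _).mapIso (e.app L).symm

/-- Coherence, boundedness and support of `P ⊗ᴸ K`. -/
theorem main [CompactSpace X] (K : CochainComplex X.Modules ℤ) [DCoh.HasLTensorCx K]
    (hK : DCoh.IsCohD (DCoh.toD X K)) (kl ku : ℤ) [(DCoh.toD X K).IsGE kl] [(DCoh.toD X K).IsLE ku]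
    (Z : Set X) (hZ : ∀ i, CohB1.support (DCoh.HD (DCoh.toD X K) i) ⊆ Z)
    (P : DCoh.D X) (hP : DCoh.IsPerfect P) :
    DCoh.IsCohD ((DCoh.LTensorCx K).obj P) ∧ ∃ a b : ℤ, ((DCoh.LTensorCx K).obj P).IsGE a ∧
      ((DCoh.LTensorCx K).obj P).IsLE b ∧
      ∀ i, CohB1.support (DCoh.HD ((DCoh.LTensorCx K).obj P) i) ⊆ Z := by
  classical
  let A := (DCoh.LTensorCx K).obj P
  obtain ⟨R, hR, -, ⟨eR⟩⟩ := ModGroth.Amp.exists_rep P
  have key : ∀ x : X, ∃ (W : Scheme.{u}) (j : W ⟶ X) (_ : IsOpenImmersion j) (C : CochainComplex W.Modules ℤ),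
      x ∈ j.opensRange ∧ Nice (j ⁻¹' Z) C ∧ Nonempty ((RD j).obj A ≅ DCoh.toD W C) := fun x => by
    obtain ⟨W₀, j₀, _, w, hw, E₀, hE₀, ⟨eE₀⟩⟩ := (DCohPerf.isPerfect_iff P).1 hP x
    obtain ⟨⟨a, b, hv⟩, hl⟩ := id hE₀
    obtain ⟨V, hwV, hV⟩ := RelAmp.exists_free_nhd hl w (Finset.Icc a b)
    let j := V.ι ≫ j₀
    let E := (rC V.ι).obj E₀
    have hEv : ∀ i, i < a ∨ b < i → IsZero (E.X i) := fun i hi => (rF V.ι).map_isZero (hv i hi)
    have hEf : ∀ i, ∃ r : ℕ, Nonempty (E.X i ≅ FlatMod.freeMod (V : Scheme.{u}) r) := fun i => by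
      by_cases hi : i ∈ Finset.Icc a b
      · exact hV i hi
      · rw [Finset.mem_Icc] at hi
        exact ⟨0, ⟨(hEv i (by omega)).iso ((IsZero.iff_id_eq_zero _).2 (Sigma.hom_ext _ _ fun i => i.elim0))⟩⟩
    have hE : DCoh.IsStrictlyPerfect E := DCohPerf.sp_restrict hE₀ V.ι
    haveI : IsLocallyNoetherian (V : Scheme.{u}) := isLocallyNoetherian_of_isOpenImmersion j
    let K' := (rC j).obj K
    let R' := (rC j).obj R
    have hR' : DCoh.IsKFlat R' :=
      KFlat.FlatR.of_iso (DCoh.tensorBi (X := (V : Scheme.{u})))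
        ((NatIso.mapHomologicalComplex (Scheme.Modules.restrictFunctorIsoPullback j) (ComplexShape.up ℤ)).app R).symm
        (ModGroth.Stalk.isKFlat_pullback j R hR)
    let eE : DCoh.toD (V : Scheme.{u}) E ≅ DCoh.toD (V : Scheme.{u}) R' :=
      (RQ V.ι E₀).symm ≪≫ (RD V.ι).mapIso eE₀ ≪≫ ((DCohPerf.RDComp V.ι j₀).app P).symm ≪≫
        (RD j).mapIso eR.symm ≪≫ RQ j R
    haveI := ModGroth.hasLTensorCx K'
    refine ⟨_, j, inferInstance, (DCoh.tensorCx.obj E).obj K', ⟨⟨w, hwV⟩, hw⟩, ?_, ⟨?_⟩⟩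
    · have hK' : Nice (j ⁻¹' Z) K' := by
        have e : ∀ i, K'.homology i ≅ (rF j).obj (DCoh.HD (DCoh.toD X K) i) := fun i =>
          (K.sc i).mapHomologyIso (rF j) ≪≫
            (rF j).mapIso ((DerivedCategory.homologyFunctorFactors X.Modules i).app K).symm
        refine ⟨kl, ku, fun i => ⟨QCohLib.isCoh_of_iso (e i).symm (HigherDirect.isCoh_restrict j (hK i)),
          fun hi => ?_, fun z hz => ?_⟩⟩
        · refine ((rF j).map_isZero ?_).of_iso (e i)
          rcases hi with hi | hi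
          · exact DerivedCategory.isZero_of_isGE (DCoh.toD X K) kl i hi
          · exact DerivedCategory.isZero_of_isLE (DCoh.toD X K) ku i hi
        · have h0 : Subsingleton ((DCoh.HD (DCoh.toD X K) i).presheaf.stalk (j z)) := by
            by_contra h
            exact hz (hZ i h)
          exact subsingleton_of_iso (e i) z ((QCohLib.subsingleton_restrict_stalk_iff j _ z).2 h0)
      exact Nice.of_iso (fun i => (homologyFunctor _ (ComplexShape.up ℤ) i).mapIso
        (ModGroth.cxSymm (DCoh.tensorBi (X := (V : Scheme.{u}))) ModGroth.tensorFlipIso K' E))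
        (nt_of_free_terms hK' a b hEv hEf)
    · exact (RD j).mapIso ((DCoh.LTensorCx K).mapIso eR.symm ≪≫ ModGroth.ltenValueIso K hR) ≪≫ RQ j _ ≪≫
        DerivedCategory.Q.mapIso (restrTot j R K) ≪≫ (ModGroth.ltenValueIso K' hR').symm ≪≫
        (DCoh.LTensorCx K').mapIso eE.symm ≪≫
        ModGroth.ltenValueIso K' (ModGroth.Perf.isKFlat_of_isStrictlyPerfect hE)
  choose W j hj C hxW hnice eC using key
  haveI := hj
  choose a b hC using hnice
  have hHD : ∀ x i, Nonempty ((C x).homology i ≅ (DCoh.HD A i).restrict (j x)) := fun x i =>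
    ⟨((DerivedCategory.homologyFunctorFactors _ i).app (C x)).symm ≪≫
      (DerivedCategory.homologyFunctor _ i).mapIso (eC x).some.symm ≪≫ (DCohPerf.homology_restrict (j x) A i).some⟩
  have hA : DCoh.IsCohD A := fun i => QCohLib.isCoh_of_cover j (fun x => ⟨x, hxW x⟩)
    fun x => QCohLib.isCoh_of_iso (hHD x i).some (hC x i).1
  have hsub : ∀ x i (z : W x), Subsingleton (((C x).homology i).presheaf.stalk z) →
      Subsingleton ((DCoh.HD A i).presheaf.stalk (j x z)) := fun x i z h =>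
    (QCohLib.subsingleton_restrict_stalk_iff (j x) _ z).1
      (subsingleton_of_iso (hHD x i).some.symm z h)
  obtain ⟨t, ht⟩ := isCompact_univ.elim_finite_subcover (fun x => ((j x).opensRange : Set X))
    (fun x => (j x).opensRange.2) fun x _ => Set.mem_iUnion.2 ⟨x, hxW x⟩
  obtain ⟨B, hB⟩ : ∃ B, ∀ x ∈ t, b x ≤ B :=
    (t.image b).bddAbove.imp fun B hB x hx => hB (Finset.mem_image_of_mem b hx)
  obtain ⟨A₀, hA₀⟩ : ∃ A₀, ∀ x ∈ t, A₀ ≤ a x :=
    (t.image a).bddBelow.imp fun B hB x hx => hB (Finset.mem_image_of_mem a hx)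
  have hzero : ∀ i, (i < A₀ ∨ B < i) → IsZero (DCoh.HD A i) := fun i hi =>
    QCohLib.isZero_of_subsingleton_stalk fun x => by
      obtain ⟨y, hy, z, hz⟩ := Set.mem_iUnion₂.1 (ht (Set.mem_univ x))
      rw [← hz]
      exact hsub y i z (QCohLib.subsingleton_stalk_of_isZero
        ((hC y i).2.1 (by have := hB y hy; have := hA₀ y hy; omega)) z)
  refine ⟨hA, A₀, B, (DerivedCategory.isGE_iff A A₀).2 fun i hi => hzero i (Or.inl hi),
    (DerivedCategory.isLE_iff A B).2 fun i hi => hzero i (Or.inr hi), fun i x hx => ?_⟩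
  by_contra hxZ
  obtain ⟨z, hz⟩ := hxW x
  exact hx (hz ▸ hsub x i z ((hC x i).2.2 z fun h => hxZ (hz ▸ h)))

end Groth.Agent.DQC.PerfTensorCoh
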