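import Groth.Agent.DQC.CompactQC
import Groth.Agent.DQCPush.Trunc
import Groth.Agent.DCohPerf.Coherent

/-!
# Maps out of perfect objects only see a bounded range of degrees
-/

set_option autoImplicit false
set_option linter.style.haveILetI false

universe u

open CategoryTheory CategoryTheory.Limits CategoryTheory.Pretriangulated CategoryTheory.Triangulated AlgebraicGeometry

attribute [local instance] HasDerivedCategory.standard

namespace Groth.Agent.DQC

variable {X : Scheme.{u}}

/-- Homology of `τ≥a` in degrees `≥ a`. -/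
lemma isIso_homology_truncGEπ (L : DCoh.D X) (a i : ℤ) (hi : a ≤ i) :
    IsIso ((DerivedCategory.homologyFunctor X.Modules i).map
      ((DerivedCategory.TStructure.t.truncGEπ a).app L)) := by
  let t : TStructure (DCoh.D X) := DerivedCategory.TStructure.t
  have hT := t.triangleLEGE_distinguished (a - 1) a (by omega) L
  let T := (t.triangleLEGE (a - 1) a (by omega)).obj L
  haveI : T.obj₁.IsLE (a - 1) := inferInstanceAs (t.IsLE ((t.truncLE (a - 1)).obj L) (a - 1))
  have hz : ∀ j, a ≤ j → IsZero (DCoh.HD T.obj₁ j) := fun j hj =>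
    DerivedCategory.isZero_of_isLE T.obj₁ (a - 1) j (by omega)
  have h1 : Mono ((DerivedCategory.homologyFunctor X.Modules i).map T.mor₂) :=
    (DerivedCategory.HomologySequence.mono_homologyMap_mor₂_iff T hT i).2 ((hz i hi).eq_of_src _ _)
  have h2 : Epi ((DerivedCategory.homologyFunctor X.Modules i).map T.mor₂) :=
    (DerivedCategory.HomologySequence.epi_homologyMap_mor₂_iff T hT i (i + 1) rfl).2
      ((hz (i + 1) (by omega)).eq_of_tgt _ _)
  exact (isIso_of_mono_of_epi ((DerivedCategory.homologyFunctor X.Modules i).map T.mor₂) :)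

variable [CompactSpace X] [QuasiSeparatedSpace X]

/-- The range of degrees seen by a perfect object. -/
theorem exists_range (K : DCoh.D X) (hK : DCoh.IsPerfect K) :
    ∃ A B : ℤ, A ≤ B ∧ (∀ L : DCoh.D X, DCoh.IsQCohD L → L.IsLE (A - 1) → ∀ φ : K ⟶ L, φ = 0) ∧
      ∀ L : DCoh.D X, L.IsGE (B + 1) → ∀ φ : K ⟶ L, φ = 0 := by
  obtain ⟨N, hN⟩ := exists_hom_eq_zero_qc K hK
  obtain ⟨a, b, ha, hb⟩ := DCohPerf.exists_bounds_of_isPerfect hK
  refine ⟨min (N + 1) b, b, by omega, fun L hL hLe φ => hN L hL (fun i hi => ?_) φ, fun L hL φ => ?_⟩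
  · exact DerivedCategory.isZero_of_isLE L (min (N + 1) b - 1) i (by omega)
  · let t : TStructure (DCoh.D X) := DerivedCategory.TStructure.t
    haveI : t.IsLE K b := hb
    haveI : t.IsGE L (b + 1) := hL
    exact t.zero φ b (b + 1) (by omega)

/-- Maps vanish when the cohomology of the target vanishes in the range. -/
theorem eq_zero_of_isZero_range {K : DCoh.D X} {A B : ℤ}
    (hlo : ∀ L : DCoh.D X, DCoh.IsQCohD L → L.IsLE (A - 1) → ∀ φ : K ⟶ L, φ = 0)
    (hhi : ∀ L : DCoh.D X, L.IsGE (B + 1) → ∀ φ : K ⟶ L, φ = 0)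
    (L : DCoh.D X) (hL : DCoh.IsQCohD L) (hz : ∀ i : ℤ, A ≤ i → i ≤ B → IsZero (DCoh.HD L i))
    (φ : K ⟶ L) : φ = 0 := by
  let t : TStructure (DCoh.D X) := DerivedCategory.TStructure.t
  have hT := t.triangleLEGE_distinguished (A - 1) A (by omega) L
  have hge : ((t.truncGE A).obj L).IsGE (B + 1) := (DerivedCategory.isGE_iff _ _).2 fun i hi => by
    by_cases h : A ≤ i
    · haveI := isIso_homology_truncGEπ L A i h
      exact (hz i h (by omega)).of_iso
        (asIso ((DerivedCategory.homologyFunctor X.Modules i).map ((t.truncGEπ A).app L))).symm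
    · haveI : ((t.truncGE A).obj L).IsGE A := inferInstanceAs (t.IsGE ((t.truncGE A).obj L) A)
      exact DerivedCategory.isZero_of_isGE ((t.truncGE A).obj L) A i (by omega)
  obtain ⟨ψ, hψ⟩ := Triangle.coyoneda_exact₂ _ hT φ (hhi _ hge _)
  rw [hψ, hlo _ (DQCPush.isQCohD_truncLE L hL (A - 1))
    (inferInstanceAs (t.IsLE ((t.truncLE (A - 1)).obj L) (A - 1))) ψ]
  exact zero_comp

end Groth.Agent.DQC
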