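import Groth.Agent.ModGroth.TotMixed
import Groth.Agent.DerAdj.Basic
import Mathlib.Algebra.Homology.BifunctorShift

/-!
# The projection formula for complexes, naturally in the left factor, and its descent to derived categories
-/

set_option autoImplicit false
set_option linter.style.haveILetI false

universe w w' v v' u u'

open CategoryTheory CategoryTheory.Limits HomologicalComplex

namespace Groth.Agent.DQC.ProjGen

variable {C : Type u} [Category.{v} C] [Abelian C] {D : Type u'} [Category.{v'} D] [Abelian D]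
  {F₁ : C ⥤ C ⥤ C} [F₁.Additive] [∀ X, (F₁.obj X).Additive]
  [∀ K L : CochainComplex C ℤ, HasMapBifunctor K L F₁ (ComplexShape.up ℤ)]
  {F₂ : D ⥤ D ⥤ D} [F₂.Additive] [∀ X, (F₂.obj X).Additive]
  [∀ K L : CochainComplex D ℤ, HasMapBifunctor K L F₂ (ComplexShape.up ℤ)]
  {Φ : C ⥤ D} [Φ.Additive] {Ψ : D ⥤ C} [Ψ.Additive] (μ : ModGroth.Mixed.ProjCompat F₁ F₂ Φ Ψ)
  [∀ n : ℤ, PreservesColimitsOfShape (Discrete (ModGroth.DegIdx n)) Φ]

/-- `Φ(K) ⊗ L ≅ Φ(K ⊗ Ψ L)`, natural in `K`. -/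
noncomputable def complexesIso (L : CochainComplex D ℤ) :
    Φ.mapHomologicalComplex (ComplexShape.up ℤ) ⋙ F₂.map₂CochainComplex.flip.obj L ≅
      F₁.map₂CochainComplex.flip.obj ((Ψ.mapHomologicalComplex (ComplexShape.up ℤ)).obj L) ⋙
        Φ.mapHomologicalComplex (ComplexShape.up ℤ) :=
  NatIso.ofComponents (fun K => ModGroth.Mixed.totCompareIso μ K L) fun {K K'} f => by
    refine HomologicalComplex.hom_ext _ _ fun n => mapBifunctor.hom_ext fun p q h => ?_
    refine ((ι_mapBifunctorMap_assoc ((Φ.mapHomologicalComplex _).map f) (𝟙 L) F₂ (ComplexShape.up ℤ) p q n h _).trans ?_).trans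
      ((reassoc_of% (ModGroth.Mixed.ι_totCompareX μ K L p q n h)) _).symm
    erw [ModGroth.Mixed.ι_totCompareX]
    refine Eq.trans ?_ (congrArg (ModGroth.Mixed.muX μ K L p q ≫ ·)
      ((congrArg Φ.map (ι_mapBifunctorMap f (𝟙 _) F₁ (ComplexShape.up ℤ) p q n h)).symm.trans (Φ.map_comp _ _)))
    simp only [HomologicalComplex.id_f, CategoryTheory.Functor.map_id, Category.id_comp, Functor.map_comp]
    exact (reassoc_of% (μ.natL (f.f p) (L.X q))) _

variable [HasDerivedCategory.{w} C] [HasDerivedCategory.{w'} D] [PreservesFiniteLimits Φ] [PreservesFiniteColimits Φ]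

/-- The descended projection formula. -/
noncomputable def derivedIso (L : CochainComplex D ℤ)
    {LV : DerivedCategory C ⥤ DerivedCategory C} {LX : DerivedCategory D ⥤ DerivedCategory D}
    (cX : DerivedCategory.Q ⋙ LX ≅ F₂.map₂CochainComplex.flip.obj L ⋙ DerivedCategory.Q)
    (cV : DerivedCategory.Q ⋙ LV ≅
      F₁.map₂CochainComplex.flip.obj ((Ψ.mapHomologicalComplex (ComplexShape.up ℤ)).obj L) ⋙ DerivedCategory.Q) :
    Φ.mapDerivedCategory ⋙ LX ≅ LV ⋙ Φ.mapDerivedCategory :=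
  letI : Localization.Lifting DerivedCategory.Q (HomologicalComplex.quasiIso C (ComplexShape.up ℤ))
      (DerivedCategory.Q ⋙ Φ.mapDerivedCategory ⋙ LX) (Φ.mapDerivedCategory ⋙ LX) := ⟨Iso.refl _⟩
  letI : Localization.Lifting DerivedCategory.Q (HomologicalComplex.quasiIso C (ComplexShape.up ℤ))
      (DerivedCategory.Q ⋙ LV ⋙ Φ.mapDerivedCategory) (LV ⋙ Φ.mapDerivedCategory) := ⟨Iso.refl _⟩
  Localization.liftNatIso DerivedCategory.Q (HomologicalComplex.quasiIso C (ComplexShape.up ℤ))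
    (DerivedCategory.Q ⋙ Φ.mapDerivedCategory ⋙ LX) (DerivedCategory.Q ⋙ LV ⋙ Φ.mapDerivedCategory) _ _
    ((Functor.associator _ _ _).symm ≪≫ Functor.isoWhiskerRight Φ.mapDerivedCategoryFactors LX ≪≫
      Functor.associator _ _ _ ≪≫ Functor.isoWhiskerLeft _ cX ≪≫ (Functor.associator _ _ _).symm ≪≫
      Functor.isoWhiskerRight (complexesIso μ L) _ ≪≫ Functor.associator _ _ _ ≪≫
      Functor.isoWhiskerLeft _ Φ.mapDerivedCategoryFactors.symm ≪≫ (Functor.associator _ _ _).symm ≪≫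
      Functor.isoWhiskerRight cV.symm _ ≪≫ Functor.associator _ _ _)

end Groth.Agent.DQC.ProjGen
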