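import Groth.Agent.DQC.Local
import Groth.Agent.DQCPush.Unit
import Groth.Agent.DQCPush.Restrict
import Groth.Agent.DCohPerf.TildePC
import Groth.Agent.DRingPC.Rel

/-!
# Direct images along affine morphisms, and pseudo-coherence
-/

set_option autoImplicit false
set_option linter.style.haveILetI false

universe u

open CategoryTheory CategoryTheory.Limits AlgebraicGeometry

attribute [local instance] HasDerivedCategory.standard

namespace Groth.Agent.DQC

variable {X Y : Scheme.{u}}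

/-- Direct image along an isomorphism as an adjunction. -/
noncomputable def pushInvAdj (e : X ≅ Y) :
    Scheme.Modules.pushforward e.inv ⊣ Scheme.Modules.pushforward e.hom :=
  (CategoryTheory.Equivalence.mk (Scheme.Modules.pushforward e.inv) (Scheme.Modules.pushforward e.hom)
    ((Scheme.Modules.pushforwardId _).symm ≪≫ Scheme.Modules.pushforwardCongr e.inv_hom_id.symm ≪≫
      (Scheme.Modules.pushforwardComp e.inv e.hom).symm)
    (Scheme.Modules.pushforwardComp e.hom e.inv ≪≫ Scheme.Modules.pushforwardCongr e.hom_inv_id ≪≫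
      Scheme.Modules.pushforwardId _)).toAdjunction

/-- Restriction along an isomorphism is direct image along its inverse. -/
noncomputable def restrictIsoPush (e : X ≅ Y) :
    Scheme.Modules.restrictFunctor e.hom ≅ Scheme.Modules.pushforward e.inv :=
  (Scheme.Modules.restrictAdjunction e.hom).leftAdjointUniq (pushInvAdj e)

variable {R S : CommRingCat.{u}} (φ : R ⟶ S)

/-- `(Spec φ)_* N~ ≅ (N restricted)~`, naturally. -/
noncomputable def pushTildeIso :
    tilde.functor S ⋙ Scheme.Modules.pushforward (Spec.map φ) ≅ ModuleCat.restrictScalars φ.hom ⋙ tilde.functor R :=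
  haveI : ∀ N : ModuleCat.{u} S, IsIso ((Functor.whiskerLeft (tilde.functor S ⋙ Scheme.Modules.pushforward (Spec.map φ))
      (tilde.adjunction (R := R)).counit).app N) := fun N => by
    haveI : ((tilde.functor S).obj N).IsQuasicoherent := inferInstance
    haveI : ((Scheme.Modules.pushforward (Spec.map φ)).obj ((tilde.functor S).obj N)).IsQuasicoherent :=
      QCohLib.isQuasicoherent_pushforward (Spec.map φ)
    exact @Scheme.Modules.isIso_fromTildeΓ_of_isQuasicoherent _ _ ‹((Scheme.Modules.pushforward (Spec.map φ)).obj ((tilde.functor S).obj N)).IsQuasicoherent›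
  haveI := NatIso.isIso_of_isIso_app (Functor.whiskerLeft (tilde.functor S ⋙ Scheme.Modules.pushforward (Spec.map φ))
    (tilde.adjunction (R := R)).counit)
  (Functor.rightUnitor _).symm ≪≫ (asIso (Functor.whiskerLeft (tilde.functor S ⋙ Scheme.Modules.pushforward (Spec.map φ))
      (tilde.adjunction (R := R)).counit)).symm ≪≫ Functor.associator _ _ _ ≪≫
    Functor.isoWhiskerLeft _ ((Functor.associator _ _ _).symm ≪≫
      Functor.isoWhiskerRight (QCohLib.pushforwardΓIso φ) (tilde.functor R) ≪≫ Functor.associator _ _ _) ≪≫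
    (Functor.associator _ _ _).symm ≪≫ Functor.isoWhiskerRight (tilde.toTildeΓNatIso (R := S)).symm _ ≪≫
    Functor.leftUnitor _

/-- A complex with quasi-coherent terms on `Spec S` is the tilde of a complex of modules. -/
noncomputable def tildeCxIso (G : CochainComplex (Spec S).Modules ℤ) (hG : ∀ n, Coh.IsQCoh (G.X n)) :
    (ModGroth.Stalk.tcxS S).obj ((moduleSpecΓFunctor (R := S)).mapHomologicalComplex (ComplexShape.up ℤ) |>.obj G) ≅ G :=
  HomologicalComplex.Hom.isoOfComponents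
    (fun n => @asIso _ _ _ _ ((tilde.adjunction (R := S)).counit.app (G.X n))
      (haveI : (G.X n).IsQuasicoherent := hG n; Scheme.Modules.isIso_fromTildeΓ_of_isQuasicoherent _))
    fun i j _ => ((tilde.adjunction (R := S)).counit.naturality (G.d i j)).symm

/-- The chart of a morphism over an affine open with affine preimage. -/
lemma exists_chart (f : X ⟶ Y) [IsAffineHom f] {V : Y.Opens} (hV : IsAffineOpen V) :
    ∃ (φ : Γ(Y, V) ⟶ Γ(X, f ⁻¹ᵁ V)),
      Spec.map φ = (hV.preimage f).isoSpec.inv ≫ (f ∣_ V) ≫ hV.isoSpec.hom :=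
  ⟨Spec.preimage _, Spec.map_preimage _⟩

/-- Direct image commutes with restriction to a chart. -/
theorem nonempty_chart_push (f : X ⟶ Y) [IsAffineHom f] {V : Y.Opens} (hV : IsAffineOpen V)
    (φ : Γ(Y, V) ⟶ Γ(X, f ⁻¹ᵁ V)) (hφ : Spec.map φ = (hV.preimage f).isoSpec.inv ≫ (f ∣_ V) ≫ hV.isoSpec.hom) :
    Nonempty (Scheme.Modules.pushforward (f ∣_ V) ⋙ Scheme.Modules.restrictFunctor hV.isoSpec.inv ≅
      Scheme.Modules.restrictFunctor (hV.preimage f).isoSpec.inv ⋙ Scheme.Modules.pushforward (Spec.map φ)) :=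
  ⟨Functor.isoWhiskerLeft _ (restrictIsoPush hV.isoSpec.symm) ≪≫ Scheme.Modules.pushforwardComp _ _ ≪≫
    Scheme.Modules.pushforwardCongr (by rw [hφ, Iso.symm_inv, Iso.hom_inv_id_assoc]) ≪≫
    (Scheme.Modules.pushforwardComp (hV.preimage f).isoSpec.hom (Spec.map φ)).symm ≪≫
    Functor.isoWhiskerRight (restrictIsoPush (hV.preimage f).isoSpec.symm).symm _⟩

/-- On a chart, `f_* O` is `B~`. -/
theorem nonempty_push_structure (f : X ⟶ Y) [IsAffineHom f] {V : Y.Opens} (hV : IsAffineOpen V)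
    (φ : Γ(Y, V) ⟶ Γ(X, f ⁻¹ᵁ V)) (hφ : Spec.map φ = (hV.preimage f).isoSpec.inv ≫ (f ∣_ V) ≫ hV.isoSpec.hom) :
    Nonempty ((Scheme.Modules.restrictFunctor (hV.isoSpec.inv ≫ V.ι)).obj
        ((Scheme.Modules.pushforward f).obj (Coh.structureModule X)) ≅
      (tilde.functor Γ(Y, V)).obj ((ModuleCat.restrictScalars φ.hom).obj (ModuleCat.of _ Γ(X, f ⁻¹ᵁ V)))) := by
  obtain ⟨e₁⟩ := HigherDirect.nonempty_push_restrict_iso f V
  obtain ⟨e₂⟩ := nonempty_chart_push f hV φ hφ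
  refine ⟨(Scheme.Modules.restrictFunctorComp _ _).app _ ≪≫
    (Scheme.Modules.restrictFunctor hV.isoSpec.inv).mapIso (e₁.app _) ≪≫ e₂.app _ ≪≫
    (Scheme.Modules.pushforward (Spec.map φ)).mapIso
      (((Scheme.Modules.restrictFunctorComp (hV.preimage f).isoSpec.inv (f ⁻¹ᵁ V).ι).app _).symm ≪≫
        (Scheme.Modules.restrictFunctorIsoPullback _).app _ ≪≫ QCohLib.pullbackUnitIso _ ≪≫
        (tildeSelf (R := Γ(X, f ⁻¹ᵁ V))).symm) ≪≫ (pushTildeIso φ).app _⟩

/-- `Rf_*` on a chart. -/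
theorem exists_Rpush_chart (f : X ⟶ Y) [IsAffineHom f] [DCoh.HasRpush f] {V : Y.Opens} (hV : IsAffineOpen V)
    [PreservesFiniteLimits (tilde.functor Γ(Y, V))] [PreservesFiniteLimits (tilde.functor Γ(X, f ⁻¹ᵁ V))]
    (φ : Γ(Y, V) ⟶ Γ(X, f ⁻¹ᵁ V)) (hφ : Spec.map φ = (hV.preimage f).isoSpec.inv ≫ (f ∣_ V) ≫ hV.isoSpec.hom)
    (E : DCoh.D X) (hE : DCoh.IsQCohD E) :
    ∃ M : Dual.D Γ(X, f ⁻¹ᵁ V),
      Nonempty ((DCohPerf.RD ((hV.preimage f).isoSpec.inv ≫ (f ⁻¹ᵁ V).ι)).obj E ≅ (DCoh.tildeD _).obj M) ∧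
      Nonempty ((DCohPerf.RD (hV.isoSpec.inv ≫ V.ι)).obj ((DCoh.Rpush f).obj E) ≅
        (DCoh.tildeD _).obj ((DRing.restrictD φ.hom).obj M)) := by
  let U := f ⁻¹ᵁ V
  let hU : IsAffineOpen U := hV.preimage f
  obtain ⟨G, hG, ⟨eG⟩⟩ := exists_good U hU hE
  haveI := DQCPush.hasRpush (f ∣_ V)
  haveI : IsAffine (V : Scheme.{u}) := hV
  haveI := HigherDirect.hasInjectiveResolutions_modules (U : Scheme.{u})
  haveI : PreservesFiniteLimits (Scheme.Modules.restrictFunctor V.ι) := CxOX.preservesFiniteLimits_restrictFunctor _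
  haveI : PreservesFiniteLimits (Scheme.Modules.restrictFunctor U.ι) := CxOX.preservesFiniteLimits_restrictFunctor _
  obtain ⟨e₁⟩ := DQCPush.nonempty_Rpush_restrict_iso f V
  haveI : IsAffine (U : Scheme.{u}) := hU
  haveI : IsAffineHom (f ∣_ V) := isAffineHom_of_isAffine _
  have hb := DQCPush.bound_zero_of_isAffineHom (f ∣_ V)
  haveI hu := DQCPush.isIso_unit_of_bound (f ∣_ V) hb G hG.qcoh
    fun n i hi => hb (G.X n) (hG.qcoh n) i (by omega)
  let rU := Scheme.Modules.restrictFunctor hU.isoSpec.inv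
  let G' : CochainComplex (Spec Γ(X, U)).Modules ℤ := (rU.mapHomologicalComplex (ComplexShape.up ℤ)).obj G
  have hG' : ∀ n, Coh.IsQCoh (G'.X n) := fun n => isQCoh_restrict hU.isoSpec.inv (hG.qcoh n)
  let N := ((moduleSpecΓFunctor (R := Γ(X, U))).mapHomologicalComplex (ComplexShape.up ℤ)).obj G'
  refine ⟨DRing.toD N, ⟨(DCohPerf.RDComp hU.isoSpec.inv U.ι).app E ≪≫ (DCohPerf.RD hU.isoSpec.inv).mapIso eG.symm ≪≫
    DCohPerf.RQ hU.isoSpec.inv G ≪≫ DerivedCategory.Q.mapIso (tildeCxIso G' hG').symm ≪≫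
    ((tilde.functor _).mapDerivedCategoryFactors.app N).symm⟩, ?_⟩
  obtain ⟨e₂⟩ := nonempty_chart_push f hV φ hφ
  let P := (Scheme.Modules.pushforward (f ∣_ V)).mapHomologicalComplex (ComplexShape.up ℤ)
  let eP : (DCoh.Rpush (f ∣_ V)).obj (DCoh.toD (U : Scheme.{u}) G) ≅ DCoh.toD (V : Scheme.{u}) (P.obj G) :=
    (DCoh.Rpush (f ∣_ V)).mapIso ((DerivedCategory.quotientCompQhIso _).app G).symm ≪≫
      (@asIso _ _ _ _ _ hu).symm ≪≫ (DerivedCategory.quotientCompQhIso _).app (P.obj G)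
  let ecx : ((Scheme.Modules.restrictFunctor hV.isoSpec.inv).mapHomologicalComplex (ComplexShape.up ℤ)).obj (P.obj G) ≅
      (ModGroth.Stalk.tcxS Γ(Y, V)).obj ((DRing.restrictCx φ.hom).obj N) :=
    (HomologicalComplex.Hom.isoOfComponents (fun n => e₂.app (G.X n)) (fun i j _ => (e₂.hom.naturality (G.d i j)).symm) :
      ((Scheme.Modules.restrictFunctor hV.isoSpec.inv).mapHomologicalComplex (ComplexShape.up ℤ)).obj (P.obj G) ≅
        ((Scheme.Modules.pushforward (Spec.map φ)).mapHomologicalComplex (ComplexShape.up ℤ)).obj G') ≪≫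
      ((Scheme.Modules.pushforward (Spec.map φ)).mapHomologicalComplex (ComplexShape.up ℤ)).mapIso (tildeCxIso G' hG').symm ≪≫
      HomologicalComplex.Hom.isoOfComponents (fun n => (pushTildeIso φ).app (N.X n))
        (fun i j _ => ((pushTildeIso φ).hom.naturality (N.d i j)).symm)
  exact ⟨(DCohPerf.RDComp hV.isoSpec.inv V.ι).app _ ≪≫
    (DCohPerf.RD hV.isoSpec.inv).mapIso (e₁.app E ≪≫ (DCoh.Rpush (f ∣_ V)).mapIso eG.symm ≪≫ eP) ≪≫
    DCohPerf.RQ hV.isoSpec.inv _ ≪≫ DerivedCategory.Q.mapIso ecx ≪≫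
    ((tilde.functor _).mapDerivedCategoryFactors.app _).symm ≪≫
    (DCoh.tildeD _).mapIso (DRingPC.restrictQ φ.hom N).symm⟩

/-- Finite direct image reflects and preserves pseudo-coherence. -/
theorem isPC_Rpush_iff (f : X ⟶ Y) [IsAffineHom f] [DCoh.HasRpush f]
    (hO : ∀ m : ℤ, DCoh.IsPseudoCoherentD m (DCoh.inD Y ((Scheme.Modules.pushforward f).obj (Coh.structureModule X))))
    (E : DCoh.D X) (hE : DCoh.IsQCohD E) (m : ℤ) :
    DCoh.IsPseudoCoherentD m E ↔ DCoh.IsPseudoCoherentD m ((DCoh.Rpush f).obj E) := by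
  have key : ∀ (V : Y.Opens) (hV : IsAffineOpen V),
      DCoh.IsPseudoCoherentD m ((DCohPerf.RD ((hV.preimage f).isoSpec.inv ≫ (f ⁻¹ᵁ V).ι)).obj E) ↔
        DCoh.IsPseudoCoherentD m ((DCohPerf.RD (hV.isoSpec.inv ≫ V.ι)).obj ((DCoh.Rpush f).obj E)) := by
    intro V hV
    haveI : PreservesFiniteLimits (tilde.functor Γ(Y, V)) := inferInstance
    obtain ⟨φ, hφ⟩ := exists_chart f hV
    obtain ⟨M, ⟨eE⟩, ⟨eR⟩⟩ := exists_Rpush_chart f hV φ hφ E hE
    obtain ⟨eO⟩ := nonempty_push_structure f hV φ hφ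
    have hB : DRingPC.PCHom φ.hom := by
      have h : ∀ n, DRing.IsPseudoCoherent Γ(Y, V) n ((DerivedCategory.singleFunctor _ 0).obj
          ((ModuleCat.restrictScalars φ.hom).obj (ModuleCat.of _ Γ(X, f ⁻¹ᵁ V)))) := fun n => by
        refine (DCohPerf.isPC_tildeD_iff _ n).1 (DCohPerf.isPC_of_iso
          (DCohPerf.isPC_restrict (hO n) (hV.isoSpec.inv ≫ V.ι)) ?_)
        exact ((Scheme.Modules.restrictFunctor _).mapDerivedCategorySingleFunctor 0).app _ ≪≫
          (DerivedCategory.singleFunctor _ 0).mapIso eO ≪≫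
          (((tilde.functor _).mapDerivedCategorySingleFunctor 0).app _).symm
      letI : Algebra Γ(Y, V) Γ(X, f ⁻¹ᵁ V) := φ.hom.toAlgebra
      exact DRingPC.PCHom.of_algebra.2 ((DRingPC.isPC'_iff_isPC _ _).2 h)
    have hAB := DRingPC.PCHom.iff hB m M
    simp only [← DRingPC.isPC_iff_NPC] at hAB
    refine ⟨fun h => DCohPerf.isPC_of_iso ((DCohPerf.isPC_tildeD_iff _ m).2 ?_) eR.symm,
      fun h => DCohPerf.isPC_of_iso ((DCohPerf.isPC_tildeD_iff _ m).2 ?_) eE.symm⟩
    · exact hAB.2 ((DCohPerf.isPC_tildeD_iff _ m).1 (DCohPerf.isPC_of_iso h eE))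
    · exact hAB.1 ((DCohPerf.isPC_tildeD_iff _ m).1 (DCohPerf.isPC_of_iso h eR))
  constructor
  · intro h
    refine DCohPerf.isPC_of_locally fun y => ?_
    obtain ⟨V, hV, hy, -⟩ := exists_isAffineOpen_mem_and_subset (U := ⊤) (TopologicalSpace.Opens.mem_top y)
    refine ⟨_, hV.isoSpec.inv ≫ V.ι, inferInstance, hV.isoSpec.hom.base ⟨y, hy⟩, ?_,
      (key V hV).1 (DCohPerf.isPC_restrict h _)⟩
    rw [← Scheme.Hom.comp_apply, Iso.hom_inv_id_assoc]
    rfl
  · intro h
    refine DCohPerf.isPC_of_locally fun x => ?_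
    obtain ⟨V, hV, hy, -⟩ := exists_isAffineOpen_mem_and_subset (U := ⊤) (TopologicalSpace.Opens.mem_top (f.base x))
    refine ⟨_, (hV.preimage f).isoSpec.inv ≫ (f ⁻¹ᵁ V).ι, inferInstance, (hV.preimage f).isoSpec.hom.base ⟨x, hy⟩, ?_,
      (key V hV).2 (DCohPerf.isPC_restrict h _)⟩
    rw [← Scheme.Hom.comp_apply, Iso.hom_inv_id_assoc]
    rfl

end Groth.Agent.DQC
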