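import Groth.Agent.DQC.RHomExist
import Groth.Agent.DQC.Basic
import Groth.Agent.RlimLib.SitePush
import Groth.Agent.PCohLib.Trunc
import Mathlib.CategoryTheory.Adjunction.Mates

/-!
# Functoriality and exactness of `E ↦ RHom(E, -)`
-/

set_option autoImplicit false
set_option linter.style.haveILetI false

universe u

open CategoryTheory CategoryTheory.Limits CategoryTheory.Pretriangulated AlgebraicGeometry HomologicalComplex Opposite

attribute [local instance] HasDerivedCategory.standard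

namespace Groth.Agent.DQC

variable {X : Scheme.{u}}

instance additive_tensE (E : CochainComplex X.Modules ℤ) : (tensE E).Additive :=
  inferInstanceAs (KFlat.tensL (DCoh.tensorBi (X := X)) E).Additive

section Tau

variable {E E' : CochainComplex X.Modules ℤ} [DCoh.HasLTensorCx E] [DCoh.HasLTensorCx E']

/-- `- ⊗ᴸ E ⟶ - ⊗ᴸ E'` induced by a map of complexes. -/
noncomputable def tauNT (f : E ⟶ E') : DCoh.LTensorCx E ⟶ DCoh.LTensorCx E' :=
  haveI := ModGroth.isLeftDerived_ltenCounit E'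
  Functor.leftDerivedNatTrans (DCoh.LTensorCx E) (DCoh.LTensorCx E') (ModGroth.ltenCounit E) (ModGroth.ltenCounit E')
    (HomologicalComplex.quasiIso X.Modules (ComplexShape.up ℤ))
    (Functor.whiskerRight ((DCoh.tensorCx (X := X)).flip.map f) DerivedCategory.Q)

lemma tauNT_app (f : E ⟶ E') (A : CochainComplex X.Modules ℤ) :
    (tauNT f).app (DCoh.toD X A) ≫ (ModGroth.ltenCounit E').app A =
      (ModGroth.ltenCounit E).app A ≫ DerivedCategory.Q.map (((DCoh.tensorCx (X := X)).flip.map f).app A) :=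
  haveI := ModGroth.isLeftDerived_ltenCounit E'
  Functor.leftDerivedNatTrans_app _ _ _ _ _ _ A

lemma isIso_tauNT (f : E ⟶ E') (hf : QuasiIso f) : IsIso (tauNT f) := by
  suffices h : ∀ A, IsIso ((tauNT f).app A) from NatIso.isIso_of_isIso_app _
  intro A
  obtain ⟨P, hP, -, ⟨eP⟩⟩ := ModGroth.Amp.exists_rep A
  suffices h : IsIso ((tauNT f).app (DCoh.toD X P)) from (NatTrans.isIso_app_iff_of_iso (tauNT f) eP).1 h
  haveI := ModGroth.isIso_ltenCounit E hP
  haveI := ModGroth.isIso_ltenCounit E' hP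
  haveI : IsIso ((DerivedCategory.Q : _ ⥤ DCoh.D X).map (((DCoh.tensorCx (X := X)).flip.map f).app P)) :=
    ModGroth.Amp.isIso_Q_map (((DCoh.tensorCx (X := X)).obj P).map f)
      (KFlat.FlatL.quasiIso _ (ModGroth.flatL_site (O := X.sheaf) hP) f hf)
  haveI : IsIso ((tauNT f).app (DCoh.toD X P) ≫ (ModGroth.ltenCounit E').app P) := by
    rw [tauNT_app]; infer_instance
  exact IsIso.of_isIso_comp_right _ ((ModGroth.ltenCounit E').app P)

end Tau

/-- `RHom(E, -)` exists for every complex. -/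
theorem hasRSheafHom (E : CochainComplex X.Modules ℤ) [DCoh.HasLTensorCx E] : DCoh.HasRSheafHom E := by
  obtain ⟨P, q, hP, -, hq, -⟩ := ModGroth.scheme_exists_resolution E
  haveI := ModGroth.hasLTensorCx P
  haveI := isIso_tauNT q hq
  haveI := isLeftAdjoint_of_isKFlat P hP
  exact ((Adjunction.ofIsLeftAdjoint (DCoh.LTensorCx P)).ofNatIsoLeft (asIso (tauNT q))).isLeftAdjoint

section Conj

variable {C D : Type*} [Category C] [Category D]

lemma homEquiv_conjugate {L₁ L₂ : C ⥤ D} {R₁ R₂ : D ⥤ C} (adj₁ : L₁ ⊣ R₁) (adj₂ : L₂ ⊣ R₂) (α : L₂ ⟶ L₁)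
    {A : C} {Y : D} (a : A ⟶ R₁.obj Y) :
    (adj₂.homEquiv A Y).symm (a ≫ (conjugateEquiv adj₁ adj₂ α).app Y) = α.app A ≫ (adj₁.homEquiv A Y).symm a := by
  rw [Adjunction.homEquiv_counit, Adjunction.homEquiv_counit, Functor.map_comp, Category.assoc,
    conjugateEquiv_counit, α.naturality_assoc]

variable [Preadditive C] [Preadditive D]

/-- A pair of natural transformations is `Hom`-exact. -/
def HomExact {L₁ L₂ L₃ : C ⥤ D} (α : L₁ ⟶ L₂) (β : L₂ ⟶ L₃) : Prop :=
  ∀ (A : C) (Y : D), α.app A ≫ β.app A = 0 ∧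
    ∀ c : L₂.obj A ⟶ Y, α.app A ≫ c = 0 → ∃ d, c = β.app A ≫ d

lemma HomExact.conj {L₁ L₂ L₃ : C ⥤ D} {R₁ R₂ R₃ : D ⥤ C} {adj₁ : L₁ ⊣ R₁} {adj₂ : L₂ ⊣ R₂} {adj₃ : L₃ ⊣ R₃}
    [L₁.Additive] {α : L₁ ⟶ L₂} {β : L₂ ⟶ L₃} (h : HomExact α β) (Y : D) :
    (conjugateEquiv adj₃ adj₂ β).app Y ≫ (conjugateEquiv adj₂ adj₁ α).app Y = 0 ∧
    ∀ (A : C) (a : A ⟶ R₂.obj Y), a ≫ (conjugateEquiv adj₂ adj₁ α).app Y = 0 →
      ∃ b, a = b ≫ (conjugateEquiv adj₃ adj₂ β).app Y := by
  haveI := adj₁.right_adjoint_additive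
  refine ⟨?_, fun A a ha => ?_⟩
  · refine (adj₁.homEquiv _ Y).symm.injective ?_
    rw [homEquiv_conjugate, show (adj₁.homEquiv _ Y).symm 0 = 0 by simp [Adjunction.homEquiv_counit]]
    have := homEquiv_conjugate adj₃ adj₂ β (A := R₃.obj Y) (Y := Y) (𝟙 _)
    rw [Category.id_comp] at this
    rw [this, ← Category.assoc, (h _ Y).1, zero_comp]
  · have h1 : α.app A ≫ (adj₂.homEquiv A Y).symm a = 0 := by
      rw [← homEquiv_conjugate adj₂ adj₁, ha]
      simp [Adjunction.homEquiv_counit]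
    obtain ⟨d, hd⟩ := (h A Y).2 _ h1
    refine ⟨adj₃.homEquiv A Y d, (adj₂.homEquiv A Y).symm.injective ?_⟩
    rw [homEquiv_conjugate, Equiv.symm_apply_apply, hd]

end Conj

/-- Exactness of cohomology from exactness on maps out of all objects. -/
theorem exact_homology_of_hom {R₁ R₂ R₃ : DCoh.D X} (a : R₁ ⟶ R₂) (b : R₂ ⟶ R₃) (w : a ≫ b = 0)
    (h : ∀ (A : DCoh.D X) (x : A ⟶ R₂), x ≫ b = 0 → ∃ y, x = y ≫ a) (m : ℤ) :
    (ShortComplex.mk ((DerivedCategory.homologyFunctor X.Modules m).map a)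
      ((DerivedCategory.homologyFunctor X.Modules m).map b)
      (by rw [← Functor.map_comp, w, Functor.map_zero])).Exact := by
  rw [ShortComplex.exact_iff_epi_kernel_lift]
  let G : RlimLib.Gen (Opens.grothendieckTopology X) X.Modules := gen X
  refine G.epi_of_lifts _ (fun _ => True)
    (fun U => ⟨⊤, (Opens.grothendieckTopology X).top_mem U,
      fun V f _ => ⟨U, f, 𝟙 U, trivial, Category.comp_id f⟩⟩) fun U _ t => ?_
  let ρ := RlimLib.LRep.self G
  let s := t ≫ kernel.ι ((DerivedCategory.homologyFunctor X.Modules m).map b)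
  refine ⟨_, ρ.liftSieve_mem b m s (by simp [s]), fun V f hf => ?_⟩
  obtain ⟨x, hx, hx0⟩ := hf
  have h0 : RlimLib.RFRep.unshift m x ≫ b = 0 := by
    rw [← RlimLib.RFRep.unshift_comp, show x ≫ (shiftFunctor _ m).map b = 0 from hx0]
    simp [RlimLib.RFRep.unshift]
  obtain ⟨y, hy⟩ := h _ _ h0
  obtain ⟨x', rfl⟩ := (RlimLib.RFRep.unshift_bijective m).2 y
  have hxx : x = x' ≫ (shiftFunctor _ m).map a := (RlimLib.RFRep.unshift_bijective m).1
    (by rw [RlimLib.RFRep.unshift_comp]; exact hy)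
  refine ⟨ρ.σ V R₁ m x', ?_⟩
  rw [← cancel_mono (kernel.ι _)]
  simp only [Category.assoc, kernel.lift_ι]
  refine ((ρ.σ_comp V m x' a).symm.trans ?_)
  rw [← hxx]
  exact hx

end Groth.Agent.DQC
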