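import Groth.Agent.DQC.RHomTri
import Groth.Agent.DQC.Local
import Groth.Agent.RlimLib.SitePushMem

/-!
# `RHom(E, -)` and degreewise split sequences in `E`
-/

set_option autoImplicit false
set_option linter.style.haveILetI false

universe u

open CategoryTheory CategoryTheory.Limits CategoryTheory.Pretriangulated AlgebraicGeometry HomologicalComplex

attribute [local instance] HasDerivedCategory.standard

namespace Groth.Agent.DQC

variable {X : Scheme.{u}}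

lemma additive_of_adj {C D : Type*} [Category C] [Category D] [Preadditive C] [Preadditive D] [HasBinaryBiproducts C]
    [HasZeroObject C] [HasZeroObject D] {L : C ⥤ D} {R : D ⥤ C} (adj : L ⊣ R) : L.Additive := by
  haveI : L.IsLeftAdjoint := ⟨R, ⟨adj⟩⟩
  haveI := preservesBinaryBiproducts_of_preservesBinaryCoproducts L
  exact Functor.additive_of_preservesBinaryBiproducts L

/-- `RHom(E, -)` preserves quasi-coherent cohomology. -/
structure HomQC (E : CochainComplex X.Modules ℤ) : Prop where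
  qcoh : ∀ [DCoh.HasLTensorCx E] [DCoh.HasRSheafHom E] (Y : DCoh.D X),
    DCoh.IsQCohD Y → DCoh.IsQCohD ((DCoh.RSheafHom E).obj Y)

theorem isQCohD_shift {K : DCoh.D X} (h : DCoh.IsQCohD K) (n : ℤ) :
    DCoh.IsQCohD ((shiftFunctor (DCoh.D X) n).obj K) := fun i =>
  (qc X).prop_of_iso (((DerivedCategory.homologyFunctor X.Modules 0).shiftIso n i (n + i) rfl).app K).symm (h (n + i))

/-- The sequence with one functor per term: exactness of the conjugate maps on cohomology. -/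
theorem exact_conj {L₁ L₂ L₃ R₁ R₂ R₃ : DCoh.D X ⥤ DCoh.D X} (adj₁ : L₁ ⊣ R₁) (adj₂ : L₂ ⊣ R₂) (adj₃ : L₃ ⊣ R₃)
    [L₁.Additive] {α : L₁ ⟶ L₂} {β : L₂ ⟶ L₃} (h : HomExact α β) (Y : DCoh.D X) (m : ℤ) :
    (ShortComplex.mk ((DerivedCategory.homologyFunctor X.Modules m).map ((conjugateEquiv adj₃ adj₂ β).app Y))
      ((DerivedCategory.homologyFunctor X.Modules m).map ((conjugateEquiv adj₂ adj₁ α).app Y))
      (by rw [← Functor.map_comp, (h.conj (adj₁ := adj₁) (adj₂ := adj₂) (adj₃ := adj₃) Y).1, Functor.map_zero])).Exact :=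
  exact_homology_of_hom _ _ (h.conj (adj₁ := adj₁) (adj₂ := adj₂) (adj₃ := adj₃) Y).1 (h.conj (adj₁ := adj₁) (adj₂ := adj₂) (adj₃ := adj₃) Y).2 m

/-- The five term sequence attached to a degreewise split sequence of K-flat complexes. -/
theorem qc_middle (Pr : ObjectProperty X.Modules) [WSerre.IsWeakSerre Pr] (S : ShortComplex (CochainComplex X.Modules ℤ))
    (σ : ∀ n, (S.map (eval X.Modules (ComplexShape.up ℤ) n)).Splitting)
    (h₁ : DCoh.IsKFlat S.X₁) (h₂ : DCoh.IsKFlat S.X₂) (h₃ : DCoh.IsKFlat S.X₃)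
    [DCoh.HasLTensorCx S.X₁] [DCoh.HasRSheafHom S.X₁] [DCoh.HasLTensorCx S.X₂] [DCoh.HasRSheafHom S.X₂]
    [DCoh.HasLTensorCx S.X₃] [DCoh.HasRSheafHom S.X₃] (Y : DCoh.D X) (m : ℤ)
    (a₁ : Pr (DCoh.HD ((DCoh.RSheafHom S.X₁).obj ((shiftFunctor _ (-1 : ℤ)).obj Y)) m))
    (a₂ : Pr (DCoh.HD ((DCoh.RSheafHom S.X₃).obj Y) m))
    (a₃ : Pr (DCoh.HD ((DCoh.RSheafHom S.X₁).obj Y) m))
    (a₄ : Pr (DCoh.HD ((DCoh.RSheafHom S.X₃).obj ((shiftFunctor _ (1 : ℤ)).obj Y)) m)) :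
    Pr (DCoh.HD ((DCoh.RSheafHom S.X₂).obj Y) m) := by
  let adj₁ := DCoh.RSheafHomAdj S.X₁
  let adj₂ := DCoh.RSheafHomAdj S.X₂
  let adj₃ := DCoh.RSheafHomAdj S.X₃
  haveI : (DCoh.LTensorCx S.X₁).Additive := additive_of_adj adj₁
  haveI : (DCoh.LTensorCx S.X₂).Additive := additive_of_adj adj₂
  haveI : (DCoh.LTensorCx S.X₃).Additive := additive_of_adj adj₃
  let a := tauNT S.f
  let b := tauNT S.g
  let d := delta S σ h₁ h₃
  let e : shiftFunctor (DCoh.D X) (1 : ℤ) ⋙ shiftFunctor (DCoh.D X) (-1 : ℤ) ≅ 𝟭 _ :=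
    shiftFunctorCompIsoId _ 1 (-1) (by omega)
  let d' : DCoh.LTensorCx S.X₃ ⋙ shiftFunctor (DCoh.D X) (-1 : ℤ) ⟶ DCoh.LTensorCx S.X₁ :=
    Functor.whiskerRight d _ ≫ (Functor.associator _ _ _).hom ≫ Functor.whiskerLeft _ e.hom ≫ (Functor.rightUnitor _).hom
  have hT := distinguished_triA S σ h₁ h₂ h₃
  have hd' : ∀ A, d'.app A = -(Triangle.mk (a.app A) (b.app A) (d.app A)).invRotate.mor₁ := fun A => by
    simp [d', e]
    exact (neg_neg _).symm
  have e₁ : HomExact b d := fun A Z =>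
    ⟨comp_distTriang_mor_zero₂₃ _ (hT A), fun c hc => Triangle.yoneda_exact₃ _ (hT A) c hc⟩
  have e₂ : HomExact a b := fun A Z =>
    ⟨comp_distTriang_mor_zero₁₂ _ (hT A), fun c hc => Triangle.yoneda_exact₂ _ (hT A) c hc⟩
  have e₃ : HomExact d' a := fun A Z => by
    have h := inv_rot_of_distTriang _ (hT A)
    refine ⟨?_, fun c hc => Triangle.yoneda_exact₂ _ h c ?_⟩
    · rw [hd']
      erw [Preadditive.neg_comp, comp_distTriang_mor_zero₁₂ _ h]
      exact neg_zero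
    · rw [hd'] at hc
      erw [Preadditive.neg_comp, neg_eq_zero] at hc
      exact hc
  let adj₃' := adj₃.comp (shiftEquiv (DCoh.D X) (1 : ℤ)).symm.toAdjunction
  haveI := additive_of_adj adj₃'
  refine RlimLib.prop_of_five Pr
    (exact_conj adj₂ adj₃ (adj₁.comp (shiftEquiv (DCoh.D X) (1 : ℤ)).toAdjunction) e₁ Y m)
    (exact_conj adj₁ adj₂ adj₃ e₂ Y m)
    (exact_conj adj₃' adj₁ adj₂ e₃ Y m)
    a₁ a₂ a₃ a₄

/-- `HomQC` passes to the middle term of a degreewise split sequence of K-flat complexes. -/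
theorem homQC_middle (S : ShortComplex (CochainComplex X.Modules ℤ))
    (σ : ∀ n, (S.map (eval X.Modules (ComplexShape.up ℤ) n)).Splitting)
    (h₁ : DCoh.IsKFlat S.X₁) (h₂ : DCoh.IsKFlat S.X₂) (h₃ : DCoh.IsKFlat S.X₃)
    (q₁ : HomQC S.X₁) (q₃ : HomQC S.X₃) : HomQC S.X₂ := by
  refine ⟨fun {_ _} Y hY m => ?_⟩
  haveI := ModGroth.hasLTensorCx S.X₁
  haveI := ModGroth.hasLTensorCx S.X₃
  haveI := hasRSheafHom S.X₁
  haveI := hasRSheafHom S.X₃
  exact qc_middle (qc X) S σ h₁ h₂ h₃ Y m (q₁.qcoh _ (isQCohD_shift hY _) m) (q₃.qcoh _ hY m) (q₁.qcoh _ hY m)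
    (q₃.qcoh _ (isQCohD_shift hY _) m)

end Groth.Agent.DQC
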