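import Groth.Agent.DQC.RHomTri
import Groth.Agent.DQC.RHomExact
import Mathlib.Algebra.Homology.DerivedCategory.ShortExact

/-!
# `RHom(-, Y)` turns degreewise split sequences into triangles
-/

set_option autoImplicit false
set_option linter.style.haveILetI false

universe u

open CategoryTheory CategoryTheory.Limits CategoryTheory.Pretriangulated AlgebraicGeometry HomologicalComplex
open CochainComplex

attribute [local instance] HasDerivedCategory.standard

namespace Groth.Agent.DQC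

variable {X : Scheme.{u}}

/-- A map of complexes through which all maps out of cones of identities factor is degreewise split epi. -/
lemma exists_section_of_cone_lift {K K' : CochainComplex X.Modules ℤ} (b : K ⟶ K')
    (h : ∀ (A : CochainComplex X.Modules ℤ) (φ : mappingCone (𝟙 A) ⟶ K'), ∃ ψ, ψ ≫ b = φ) (n : ℤ) :
    ∃ s : K'.X n ⟶ K.X n, s ≫ b.f n = 𝟙 _ := by
  let A : CochainComplex X.Modules ℤ := (single X.Modules (ComplexShape.up ℤ) (n + 1)).obj (K'.X n)
  let α : CochainComplex.HomComplex.Cochain A K' (-1) :=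
    CochainComplex.HomComplex.Cochain.fromSingleMk (𝟙 (K'.X n)) (by omega)
  let β : A ⟶ K' := mkHomFromSingle (K'.d n (n + 1)) (fun j _ => K'.d_comp_d _ _ _)
  let φ : mappingCone (𝟙 A) ⟶ K' := mappingCone.desc (𝟙 A) α β (by
    refine (CochainComplex.HomComplex.Cochain.δ_fromSingleMk (𝟙 (K'.X n)) (p := n + 1) (q := n) (n := -1) (by omega) 0 (n + 1) (by omega)).trans ?_
    apply (CochainComplex.HomComplex.Cochain.fromSingleEquiv (K := K') (show n + 1 + 0 = n + 1 by omega)).injective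
    refine (CochainComplex.HomComplex.Cochain.fromSingleEquiv_fromSingleMk _ _).trans ?_
    simp [CochainComplex.HomComplex.Cochain.fromSingleEquiv, β, A]
    erw [CochainComplex.HomComplex.Cochain.ofHom_v, mkHomFromSingle_f]
    simp)
  obtain ⟨ψ, hψ⟩ := h A φ
  refine ⟨(singleObjXSelf (ComplexShape.up ℤ) (n + 1) (K'.X n)).inv ≫
    (mappingCone.inl (𝟙 A)).v (n + 1) n (by omega) ≫ ψ.f n, ?_⟩
  have hn := congrArg (fun t => HomologicalComplex.Hom.f t n) hψ
  simp only [HomologicalComplex.comp_f] at hn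
  rw [Category.assoc, Category.assoc, hn]
  simp only [φ, mappingCone.inl_v_desc_f, α]
  erw [CochainComplex.HomComplex.Cochain.fromSingleMk_v]
  simp

variable {E E' : CochainComplex X.Modules ℤ}

/-- `Hom^•(f, I)`. -/
noncomputable def homCxMap (f : E ⟶ E') (I : CochainComplex X.Modules ℤ) : (homCx E').obj I ⟶ (homCx E).obj I :=
  (homCxAdj E).homEquiv ((homCx E').obj I) I
    (((DCoh.tensorCx (X := X)).obj ((homCx E').obj I)).map f ≫ (homCxAdj E').counit.app I)

lemma homCxMap_symm (f : E ⟶ E') {A I : CochainComplex X.Modules ℤ} (a : A ⟶ (homCx E').obj I) :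
    ((homCxAdj E).homEquiv A I).symm (a ≫ homCxMap f I) =
      ((DCoh.tensorCx (X := X)).obj A).map f ≫ ((homCxAdj E').homEquiv A I).symm a := by
  rw [homCxMap, Adjunction.homEquiv_naturality_left_symm, Equiv.symm_apply_apply]
  rw [Adjunction.homEquiv_counit]
  exact ((DCoh.tensorCx (X := X)).map a).naturality_assoc f _ |>.symm

variable (S : ShortComplex (CochainComplex X.Modules ℤ))
  (σ : ∀ n, (S.map (eval X.Modules (ComplexShape.up ℤ) n)).Splitting)

include σ in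
/-- `Hom^•(-, I)` of a degreewise split sequence. -/
theorem exists_shortExact_homCx (I : CochainComplex X.Modules ℤ) :
    ∃ T : ShortComplex (CochainComplex X.Modules ℤ), T.ShortExact ∧
      T.X₁ = (homCx S.X₃).obj I ∧ T.X₂ = (homCx S.X₂).obj I ∧ T.X₃ = (homCx S.X₁).obj I := by
  haveI : ∀ E : CochainComplex X.Modules ℤ, (homCx E).Additive := fun E => (homCxAdj E).right_adjoint_additive
  have hsymm0 : ∀ (E A : CochainComplex X.Modules ℤ), ((homCxAdj E).homEquiv A I).symm 0 = 0 := fun E A =>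
    ((homCxAdj E).homAddEquiv A I).symm.map_zero
  have hz : homCxMap S.g I ≫ homCxMap S.f I = 0 := by
    refine ((homCxAdj S.X₁).homEquiv _ _).symm.injective ?_
    rw [homCxMap_symm, ← Category.id_comp (homCxMap S.g I), homCxMap_symm, ← Category.assoc, tensor_map_zero,
      zero_comp, hsymm0]
  let T := ShortComplex.mk (homCxMap S.g I) (homCxMap S.f I) hz
  have hmono : Mono (homCxMap S.g I) := ⟨fun {A} a a' h => by
    haveI : Epi (((DCoh.tensorCx (X := X)).obj A).map S.g) := (shortExact_tensS S σ A).epi_g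
    apply ((homCxAdj S.X₃).homEquiv _ _).symm.injective
    rw [← cancel_epi (((DCoh.tensorCx (X := X)).obj A).map S.g), ← homCxMap_symm, ← homCxMap_symm, h]⟩
  have hlift : ∀ {A : CochainComplex X.Modules ℤ} (k : A ⟶ (homCx S.X₂).obj I),
      k ≫ homCxMap S.f I = 0 → ∃ l, l ≫ homCxMap S.g I = k := fun {A} k hk => by
    have hS := shortExact_tensS S σ A
    have h0 : ((DCoh.tensorCx (X := X)).obj A).map S.f ≫ ((homCxAdj S.X₂).homEquiv A I).symm k = 0 := by
      rw [← homCxMap_symm, hk, hsymm0]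
    haveI := hS.epi_g
    refine ⟨(homCxAdj S.X₃).homEquiv A I (hS.exact.desc (((homCxAdj S.X₂).homEquiv A I).symm k) h0), ?_⟩
    apply ((homCxAdj S.X₂).homEquiv _ _).symm.injective
    rw [homCxMap_symm, Equiv.symm_apply_apply]
    exact hS.exact.g_desc _ h0
  have hexact : T.Exact := by
    haveI : Mono T.f := hmono
    rw [ShortComplex.exact_iff_epi_kernel_lift]
    obtain ⟨l, hl⟩ := hlift (kernel.ι (homCxMap S.f I)) (kernel.condition _)
    haveI : IsSplitEpi (kernel.lift T.g T.f T.zero) := IsSplitEpi.mk' ⟨l, by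
      rw [← cancel_mono (kernel.ι T.g), Category.assoc, kernel.lift_ι, Category.id_comp]; exact hl⟩
    infer_instance
  refine ⟨T, HomologicalComplex.shortExact_of_degreewise_shortExact T fun n => ?_, rfl, rfl, rfl⟩
  obtain ⟨s, hs⟩ := exists_section_of_cone_lift (homCxMap S.f I) (fun A φ => by
    obtain ⟨H⟩ : Nonempty (Homotopy (((homCxAdj S.X₁).homEquiv _ _).symm φ) 0) := by
      let H := mapBifunctorMapHomotopy₁ (mappingCone.homotopyToZeroOfId A) (𝟙 S.X₁) (DCoh.tensorBi (X := X)) (ComplexShape.up ℤ)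
      have h0 : (tensE S.X₁).map (0 : mappingCone (𝟙 A) ⟶ mappingCone (𝟙 A)) = 0 := Functor.map_zero _ _ _
      exact ⟨(Homotopy.ofEq (by rw [CategoryTheory.Functor.map_id, Category.id_comp] : _ = (tensE S.X₁).map (𝟙 _) ≫ _)).trans ((H.compRight _).trans (Homotopy.ofEq ((congrArg (· ≫ _) h0).trans zero_comp)))⟩
    obtain ⟨g', hg'⟩ := exists_null_extension (((DCoh.tensorCx (X := X)).obj (mappingCone (𝟙 A))).map S.f)
      (fun m => (KFlat.splittingR (DCoh.tensorBi (X := X)) S σ _ m).r) (fun m => (KFlat.splittingR (DCoh.tensorBi (X := X)) S σ _ m).f_r) _ H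
    refine ⟨(homCxAdj S.X₂).homEquiv _ _ g', ((homCxAdj S.X₁).homEquiv _ _).symm.injective ?_⟩
    rw [homCxMap_symm, Equiv.symm_apply_apply, hg']) n
  exact { exact := hexact.map (eval X.Modules (ComplexShape.up ℤ) n)
          mono_f := inferInstanceAs (Mono ((eval X.Modules (ComplexShape.up ℤ) n).map (homCxMap S.g I)))
          epi_g := (IsSplitEpi.mk' ⟨s, hs⟩).epi }


section Derived

variable (E : CochainComplex X.Modules ℤ) [DCoh.HasLTensorCx E] [DCoh.HasRSheafHom E]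

/-- `RHom(E, I) ≅ Hom^•(E, I)` for K-flat `E` and K-injective `I`. -/
theorem nonempty_rsheafHom_value (hE : DCoh.IsKFlat E) (I : CochainComplex X.Modules ℤ) [I.IsKInjective] :
    Nonempty (DCoh.toD X ((homCx E).obj I) ≅ (DCoh.RSheafHom E).obj (DCoh.toD X I)) := by
  haveI := isKInjective_homCx hE I
  haveI : (DCoh.LTensorCx E).Additive := additive_of_adj (DCoh.RSheafHomAdj E)
  let c := fun A => ModGroth.ltenValueIso' E hE A
  have hc : ∀ {A B : CochainComplex X.Modules ℤ} (f : A ⟶ B),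
      (DCoh.LTensorCx E).map (DerivedCategory.Q.map f) ≫ (c B).hom =
        (c A).hom ≫ DerivedCategory.Q.map ((tensE E).map f) := fun f => (ModGroth.ltenCounit E).naturality f
  let H := DCoh.toD X ((homCx E).obj I)
  let φ : H ⟶ (DCoh.RSheafHom E).obj (DCoh.toD X I) := (DCoh.RSheafHomAdj E).homEquiv _ _
    ((c _).hom ≫ DerivedCategory.Q.map ((homCxAdj E).counit.app I))
  have key : ∀ {A : CochainComplex X.Modules ℤ} (f : A ⟶ (homCx E).obj I),
      DerivedCategory.Q.map f ≫ φ = (DCoh.RSheafHomAdj E).homEquiv _ _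
        ((c A).hom ≫ DerivedCategory.Q.map (((homCxAdj E).homEquiv A I).symm f)) := fun {A} f => by
    rw [← Adjunction.homEquiv_naturality_left, reassoc_of% (hc f), Adjunction.homEquiv_counit, Functor.map_comp]
  have hsurj : ∀ (A : CochainComplex X.Modules ℤ) (y : DCoh.toD X A ⟶ (DCoh.RSheafHom E).obj (DCoh.toD X I)),
      ∃ a, a ≫ φ = y := fun A y => by
    obtain ⟨g, hg⟩ := Q_map_surjective ((c A).inv ≫ ((DCoh.RSheafHomAdj E).homEquiv _ _).symm y)
    refine ⟨DerivedCategory.Q.map ((homCxAdj E).homEquiv A I g), ?_⟩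
    rw [key, Equiv.symm_apply_apply, hg, Iso.hom_inv_id_assoc, Equiv.apply_symm_apply]
  have hinj : ∀ (A : CochainComplex X.Modules ℤ) (a : DCoh.toD X A ⟶ H), a ≫ φ = 0 → a = 0 := fun A a ha => by
    obtain ⟨f, rfl⟩ := Q_map_surjective a
    have h0 : (c A).hom ≫ DerivedCategory.Q.map (((homCxAdj E).homEquiv A I).symm f) = 0 :=
      ((DCoh.RSheafHomAdj E).homAddEquiv _ _).map_eq_zero_iff.1 ((key f).symm.trans ha)
    rw [Preadditive.IsIso.comp_left_eq_zero] at h0
    obtain ⟨hh⟩ := homotopy_of_Q_map_eq_zero _ h0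
    obtain ⟨hh'⟩ := null_homEquiv E _ hh
    rw [Equiv.apply_symm_apply] at hh'
    exact (DerivedCategory.Q_map_eq_of_homotopy X.Modules hh').trans (DerivedCategory.Q.map_zero _ _)
  obtain ⟨A₀, ⟨i⟩⟩ : ∃ A₀, Nonempty (DCoh.toD X A₀ ≅ (DCoh.RSheafHom E).obj (DCoh.toD X I)) :=
    ⟨_, ⟨DerivedCategory.Q.objObjPreimageIso _⟩⟩
  obtain ⟨a, ha⟩ := hsurj A₀ i.hom
  haveI : IsSplitEpi φ := IsSplitEpi.mk' ⟨i.inv ≫ a, by rw [Category.assoc, ha, Iso.inv_hom_id]⟩
  haveI : Mono φ := Preadditive.mono_of_cancel_zero _ fun {A} g hg => by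
    let j := DerivedCategory.Q.objObjPreimageIso A
    have := hinj _ (j.hom ≫ g) (by rw [Category.assoc, hg, comp_zero])
    rwa [Preadditive.IsIso.comp_left_eq_zero] at this
  haveI := isIso_of_mono_of_isSplitEpi φ
  exact ⟨asIso φ⟩

end Derived

/-- A distinguished triangle transported along isomorphisms of its objects. -/
lemma exists_triangle_of_iso {D : Type*} [Category D] [HasZeroObject D] [HasShift D ℤ] [Preadditive D]
    [∀ n : ℤ, (CategoryTheory.shiftFunctor D n).Additive] [Pretriangulated D]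
    {T : Triangle D} (hT : T ∈ distTriang _) {A B C : D} (e₁ : A ≅ T.obj₁)
    (e₂ : B ≅ T.obj₂) (e₃ : C ≅ T.obj₃) : ∃ (a : A ⟶ B) (b : B ⟶ C) (d : C ⟶ A⟦(1 : ℤ)⟧),
      Triangle.mk a b d ∈ distTriang D :=
  ⟨e₁.hom ≫ T.mor₁ ≫ e₂.inv, e₂.hom ≫ T.mor₂ ≫ e₃.inv,
    e₃.hom ≫ T.mor₃ ≫ (CategoryTheory.shiftFunctor _ (1 : ℤ)).map e₁.inv,
    isomorphic_distinguished _ hT _ (Triangle.isoMk _ _ e₁ e₂ e₃ 
      (by dsimp only [Triangle.mk]; simp)
      (by dsimp only [Triangle.mk]; simp)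
      (by dsimp only [Triangle.mk]; simp [← Functor.map_comp]))⟩

include σ in
/-- `RHom(-, Y)` of a degreewise split sequence of K-flat complexes is part of a distinguished triangle. -/
theorem exists_rsheafHom_triangle (h₁ : DCoh.IsKFlat S.X₁) (h₂ : DCoh.IsKFlat S.X₂) (h₃ : DCoh.IsKFlat S.X₃)
    [DCoh.HasLTensorCx S.X₁] [DCoh.HasLTensorCx S.X₂] [DCoh.HasLTensorCx S.X₃]
    [DCoh.HasRSheafHom S.X₁] [DCoh.HasRSheafHom S.X₂] [DCoh.HasRSheafHom S.X₃] (Y : DCoh.D X) :
    ∃ (a : (DCoh.RSheafHom S.X₃).obj Y ⟶ (DCoh.RSheafHom S.X₂).obj Y)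
      (b : (DCoh.RSheafHom S.X₂).obj Y ⟶ (DCoh.RSheafHom S.X₁).obj Y)
      (d : (DCoh.RSheafHom S.X₁).obj Y ⟶ ((DCoh.RSheafHom S.X₃).obj Y)⟦(1 : ℤ)⟧),
      Triangle.mk a b d ∈ distTriang (DCoh.D X) := by
  obtain ⟨I, q, hI, hq⟩ := ModGroth.LSums.hKinj (DerivedCategory.Q.objPreimage Y)
  haveI := hI
  haveI := ModGroth.Amp.isIso_Q_map q hq
  let e : DCoh.toD X I ≅ Y := (asIso (DerivedCategory.Q.map q)).symm ≪≫ DerivedCategory.Q.objObjPreimageIso Y
  obtain ⟨v₁⟩ := nonempty_rsheafHom_value S.X₁ h₁ I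
  obtain ⟨v₂⟩ := nonempty_rsheafHom_value S.X₂ h₂ I
  obtain ⟨v₃⟩ := nonempty_rsheafHom_value S.X₃ h₃ I
  obtain ⟨T, hT, t₁, t₂, t₃⟩ := exists_shortExact_homCx S σ I
  let e₁ : (DCoh.RSheafHom S.X₃).obj Y ≅ DCoh.toD X T.X₁ :=
    (DCoh.RSheafHom S.X₃).mapIso e.symm ≪≫ v₃.symm ≪≫ DerivedCategory.Q.mapIso (eqToIso t₁.symm)
  let e₂ : (DCoh.RSheafHom S.X₂).obj Y ≅ DCoh.toD X T.X₂ :=
    (DCoh.RSheafHom S.X₂).mapIso e.symm ≪≫ v₂.symm ≪≫ DerivedCategory.Q.mapIso (eqToIso t₂.symm)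
  let e₃ : (DCoh.RSheafHom S.X₁).obj Y ≅ DCoh.toD X T.X₃ :=
    (DCoh.RSheafHom S.X₁).mapIso e.symm ≪≫ v₁.symm ≪≫ DerivedCategory.Q.mapIso (eqToIso t₃.symm)
  exact exists_triangle_of_iso (DerivedCategory.triangleOfSES_distinguished hT) e₁ e₂ e₃

end Groth.Agent.DQC
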