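import Groth.Agent.ModGroth.LTensorCx
import Groth.Agent.ModGroth.LSums
import Groth.Agent.ModGroth.Functors
import Groth.Prelude.Def_DCoh4
import Mathlib.Algebra.Homology.GrothendieckAbelian
import Mathlib.Algebra.Homology.HomotopyCategory.KInjective
import Mathlib.Algebra.Homology.DerivedCategory.KInjective

/-!
# Existence of the internal `RHom`

`- ⊗ E` on complexes has a right adjoint `Hom^•(E, -)`; for K-flat `E` it sends K-injective complexes to
K-injective complexes and computes the right adjoint of `- ⊗ᴸ E` on `D(O_X)`.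
-/

set_option autoImplicit false
set_option linter.style.haveILetI false

universe u

open CategoryTheory CategoryTheory.Limits AlgebraicGeometry HomologicalComplex Opposite

attribute [local instance] HasDerivedCategory.standard

namespace Groth.Agent.DQC

variable {X : Scheme.{u}}

/-- `- ⊗ E` on complexes. -/
noncomputable abbrev tensE (E : CochainComplex X.Modules ℤ) :
    CochainComplex X.Modules ℤ ⥤ CochainComplex X.Modules ℤ :=
  (DCoh.tensorCx (X := X)).flip.obj E

lemma isLeftAdjoint_tensE (E : CochainComplex X.Modules ℤ) : (tensE E).IsLeftAdjoint := by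
  haveI : IsGrothendieckAbelian.{u} X.Modules := ModGroth.sheaf_isGrothendieckAbelian (ModSite.ringSh X.sheaf)
  haveI : ∀ M : X.Modules, PreservesColimitsOfSize.{u, u} ((DCoh.tensorBi (X := X)).flip.obj M) := fun M =>
    ModGroth.tensor_flip_preservesColimits (O := X.sheaf) M
  haveI : PreservesColimitsOfSize.{u, u} (tensE E) := ⟨fun {J} _ => by
    exact ModGroth.LSums.preservesColimitsOfShape_tensL (DCoh.tensorBi (X := X)) E⟩
  exact ModGroth.isLeftAdjoint_of_preservesColimits _

/-- `Hom^•(E, -)`. -/
noncomputable def homCx (E : CochainComplex X.Modules ℤ) :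
    CochainComplex X.Modules ℤ ⥤ CochainComplex X.Modules ℤ :=
  haveI := isLeftAdjoint_tensE E
  (tensE E).rightAdjoint

/-- `- ⊗ E ⊣ Hom^•(E, -)`. -/
noncomputable def homCxAdj (E : CochainComplex X.Modules ℤ) : tensE E ⊣ homCx E :=
  haveI := isLeftAdjoint_tensE E
  Adjunction.ofIsLeftAdjoint _

/-- Null homotopic maps extend along degreewise split monomorphisms. -/
lemma exists_null_extension {C : Type*} [Category C] [Preadditive C] {K L M : CochainComplex C ℤ} (i : K ⟶ L)
    (r : ∀ n, L.X n ⟶ K.X n) (hr : ∀ n, i.f n ≫ r n = 𝟙 _) (g : K ⟶ M) (h : Homotopy g 0) :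
    ∃ g' : L ⟶ M, i ≫ g' = g := by
  refine ⟨Homotopy.nullHomotopicMap fun p q => r p ≫ h.hom p q, ?_⟩
  rw [Homotopy.comp_nullHomotopicMap]
  ext n
  have hn := h.comm n
  simp only [HomologicalComplex.zero_f, add_zero] at hn
  rw [hn]
  refine congrArg₂ (· + ·) (congrArg (dNext n) ?_) (congrArg (prevD n) ?_) <;>
    exact funext fun p => funext fun q => by rw [← Category.assoc, hr, Category.id_comp]

/-- The adjunction respects null homotopic maps. -/
lemma null_homEquiv (E : CochainComplex X.Modules ℤ) {A I : CochainComplex X.Modules ℤ}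
    (g : (tensE E).obj A ⟶ I) (h : Homotopy g 0) : Nonempty (Homotopy ((homCxAdj E).homEquiv A I g) 0) := by
  let ι := CochainComplex.mappingCone.inr (𝟙 A)
  let r : ∀ n, ((tensE E).obj (CochainComplex.mappingCone (𝟙 A))).X n ⟶ ((tensE E).obj A).X n := fun n =>
    KFlat.degL (DCoh.tensorBi (X := X)) E
      (fun p => (CochainComplex.mappingCone.snd (𝟙 A)).v p p (add_zero p)) n
  have hr : ∀ n, ((tensE E).map ι).f n ≫ r n = 𝟙 _ := fun n => by
    refine (congrArg (fun t => t ≫ _) (KFlat.mapBifunctorMap_f_eq_degL (DCoh.tensorBi (X := X)) E ι n)).trans ?_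
    refine (KFlat.degL_comp (DCoh.tensorBi (X := X)) E _ _ n).trans ?_
    refine Eq.trans (congrArg (fun g => KFlat.degL (DCoh.tensorBi (X := X)) E g n) ?_)
      (KFlat.degL_id (DCoh.tensorBi (X := X)) E n)
    exact funext fun p => CochainComplex.mappingCone.inr_f_snd_v (𝟙 A) p
  obtain ⟨g', hg'⟩ := exists_null_extension _ r hr g h
  rw [← hg', Adjunction.homEquiv_naturality_left]
  let H := ((CochainComplex.mappingCone.homotopyToZeroOfId A).compRight
    ((homCxAdj E).homEquiv _ _ g')).compLeft ι
  exact ⟨(Homotopy.ofEq (by rw [Category.id_comp])).trans (H.trans (Homotopy.ofEq (by simp)))⟩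

lemma acyclic_tensE {E : CochainComplex X.Modules ℤ} (hE : DCoh.IsKFlat E) {A : CochainComplex X.Modules ℤ}
    (hA : A.Acyclic) : ((tensE E).obj A).Acyclic :=
  KFlat.isZero_homology_iff.1 (hE A (KFlat.isZero_homology_iff.2 hA))

lemma isKInjective_homCx {E : CochainComplex X.Modules ℤ} (hE : DCoh.IsKFlat E) (I : CochainComplex X.Modules ℤ)
    [I.IsKInjective] : ((homCx E).obj I).IsKInjective where
  nonempty_homotopy_zero {A} f hA := by
    obtain ⟨g, rfl⟩ := ((homCxAdj E).homEquiv A I).surjective f
    exact null_homEquiv E g (CochainComplex.IsKInjective.homotopyZero g (acyclic_tensE hE hA))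

/-- Maps into a K-injective complex in `D` come from maps of complexes. -/
lemma Q_map_surjective {K I : CochainComplex X.Modules ℤ} [I.IsKInjective]
    (y : DCoh.toD X K ⟶ DCoh.toD X I) : ∃ g : K ⟶ I, DerivedCategory.Q.map g = y := by
  let e := DerivedCategory.quotientCompQhIso X.Modules
  obtain ⟨γ, hγ⟩ := (CochainComplex.IsKInjective.Qh_map_bijective ((HomotopyCategory.quotient _ _).obj K) I).2
    (e.hom.app K ≫ y ≫ e.inv.app I)
  obtain ⟨g, rfl⟩ := (HomotopyCategory.quotient _ _).map_surjective γ
  refine ⟨g, ?_⟩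
  have h := e.hom.naturality g
  simp only [Functor.comp_map] at h
  rw [hγ, Category.assoc, Category.assoc, Iso.inv_hom_id_app, Category.comp_id] at h
  exact ((cancel_epi (e.hom.app K)).1 h).symm

lemma homotopy_of_Q_map_eq_zero {K I : CochainComplex X.Modules ℤ} [I.IsKInjective] (g : K ⟶ I)
    (h : (DerivedCategory.Q : _ ⥤ DCoh.D X).map g = 0) : Nonempty (Homotopy g 0) := by
  let e := DerivedCategory.quotientCompQhIso X.Modules
  have hn := e.hom.naturality g
  simp only [Functor.comp_map] at hn
  rw [h, comp_zero] at hn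
  have h0 : DerivedCategory.Qh.map ((HomotopyCategory.quotient X.Modules (ComplexShape.up ℤ)).map g) = 0 :=
    (cancel_mono (e.hom.app I)).1 (hn.trans zero_comp.symm)
  exact ⟨HomotopyCategory.homotopyOfEq _ _ (((CochainComplex.IsKInjective.Qh_map_bijective _ I).1
    (h0.trans (DerivedCategory.Qh.map_zero _ _).symm)).trans
      ((HomotopyCategory.quotient X.Modules (ComplexShape.up ℤ)).map_zero _ _).symm)⟩

/-- The right adjoint of `- ⊗ᴸ E` for K-flat `E`. -/
theorem isLeftAdjoint_of_isKFlat (E : CochainComplex X.Modules ℤ) (hE : DCoh.IsKFlat E)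
    [DCoh.HasLTensorCx E] : (DCoh.LTensorCx E).IsLeftAdjoint := by
  refine Functor.isLeftAdjoint_of_rightAdjointObjIsDefined_eq_top ?_
  ext Y
  simp only [Pi.top_apply, Prop.top_eq_true, iff_true]
  rw [Functor.rightAdjointObjIsDefined_iff]
  obtain ⟨I, q, hI, hq⟩ := ModGroth.LSums.hKinj (DerivedCategory.Q.objPreimage Y)
  haveI := hI
  haveI := ModGroth.Amp.isIso_Q_map q hq
  let e : DCoh.toD X I ≅ Y := (asIso (DerivedCategory.Q.map q)).symm ≪≫ DerivedCategory.Q.objObjPreimageIso Y
  haveI := isKInjective_homCx hE I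
  let Z := DCoh.toD X ((homCx E).obj I)
  let c := fun A => ModGroth.ltenValueIso' E hE A
  have hc : ∀ {A B : CochainComplex X.Modules ℤ} (f : A ⟶ B),
      (DCoh.LTensorCx E).map (DerivedCategory.Q.map f) ≫ (c B).hom =
        (c A).hom ≫ DerivedCategory.Q.map ((tensE E).map f) := fun f =>
    (ModGroth.ltenCounit E).naturality f
  let ξ : (DCoh.LTensorCx E).obj Z ⟶ Y :=
    (c _).hom ≫ DerivedCategory.Q.map ((homCxAdj E).counit.app I) ≫ e.hom
  have key : ∀ {A : CochainComplex X.Modules ℤ} (f : A ⟶ (homCx E).obj I),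
      (DCoh.LTensorCx E).map (DerivedCategory.Q.map f) ≫ ξ =
        (c A).hom ≫ DerivedCategory.Q.map (((homCxAdj E).homEquiv A I).symm f) ≫ e.hom := fun f => by
    simp only [ξ]
    rw [reassoc_of% (hc f), Adjunction.homEquiv_counit, Functor.map_comp, Category.assoc]
  have hbij : ∀ A : DCoh.D X, Function.Bijective fun a : A ⟶ Z => (DCoh.LTensorCx E).map a ≫ ξ := by
    intro A
    let i := DerivedCategory.Q.objObjPreimageIso A
    let A₀ := DerivedCategory.Q.objPreimage A
    have h0 : Function.Bijective fun a : DCoh.toD X A₀ ⟶ Z => (DCoh.LTensorCx E).map a ≫ ξ := by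
      refine ⟨fun a a' h => ?_, fun y => ?_⟩
      · obtain ⟨f, rfl⟩ := Q_map_surjective a
        obtain ⟨f', rfl⟩ := Q_map_surjective a'
        dsimp only at h
        rw [key, key, cancel_epi, cancel_mono] at h
        obtain ⟨H⟩ := homotopy_of_Q_map_eq_zero (((homCxAdj E).homEquiv A₀ I).symm f - ((homCxAdj E).homEquiv A₀ I).symm f')
          (by rw [Functor.map_sub, h, sub_self])
        haveI : (tensE E).Additive := inferInstanceAs (KFlat.tensL (DCoh.tensorBi (X := X)) E).Additive
        have he : (homCxAdj E).homEquiv A₀ I (((homCxAdj E).homEquiv A₀ I).symm f - ((homCxAdj E).homEquiv A₀ I).symm f') =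
            f - f' := by
          haveI := (homCxAdj E).right_adjoint_additive
          rw [Adjunction.homEquiv_unit, Functor.map_sub, Preadditive.comp_sub, ← Adjunction.homEquiv_unit,
            ← Adjunction.homEquiv_unit, Equiv.apply_symm_apply, Equiv.apply_symm_apply]
        obtain ⟨H'⟩ := null_homEquiv E _ H
        rw [he] at H'
        exact DerivedCategory.Q_map_eq_of_homotopy X.Modules (Homotopy.equivSubZero.symm H')
      · obtain ⟨g, hg⟩ := Q_map_surjective ((c A₀).inv ≫ y ≫ e.inv)
        refine ⟨DerivedCategory.Q.map ((homCxAdj E).homEquiv A₀ I g), ?_⟩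
        dsimp only
        rw [key, Equiv.symm_apply_apply, hg]
        simp
    refine ⟨fun a a' h => ?_, fun y => ?_⟩
    · refine (cancel_epi i.hom).1 (h0.1 ?_)
      dsimp only at h ⊢
      rw [Functor.map_comp, Functor.map_comp, Category.assoc, h, Category.assoc]
    · obtain ⟨a, ha⟩ := h0.2 ((DCoh.LTensorCx E).map i.hom ≫ y)
      refine ⟨i.inv ≫ a, ?_⟩
      dsimp only at ha ⊢
      rw [Functor.map_comp, Category.assoc, ha, ← Category.assoc, ← Functor.map_comp, i.inv_hom_id,
        CategoryTheory.Functor.map_id, Category.id_comp]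
  exact ⟨Z, ⟨{ homEquiv := fun {A} => Equiv.ofBijective _ (hbij A)
               homEquiv_comp := fun f a => by
                 change (DCoh.LTensorCx E).map (f ≫ a) ≫ ξ = (DCoh.LTensorCx E).map f ≫ (DCoh.LTensorCx E).map a ≫ ξ
                 rw [Functor.map_comp, Category.assoc] }⟩⟩

end Groth.Agent.DQC
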