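import Groth.Agent.DQC.RHomCoh
import Groth.Agent.DQC.Ops

/-!
# `RHom(-, I)` for a bounded complex of injective modules
-/

set_option autoImplicit false
set_option linter.style.haveILetI false
set_option linter.unusedSectionVars false

universe u

open CategoryTheory CategoryTheory.Limits CategoryTheory.Pretriangulated AlgebraicGeometry HomologicalComplex
open scoped ZeroObject

attribute [local instance] HasDerivedCategory.standard

namespace Groth.Agent.DQC

variable {X : Scheme.{u}}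

/-- A cohomology sheaf vanishes if no map from a shifted free module detects it. -/
theorem isZero_HD_of_hom (R : DCoh.D X) (i : ℤ)
    (h : ∀ (U : X.Opens) (f : DCoh.toD X ((single X.Modules (ComplexShape.up ℤ) i).obj
      (ModGroth.freeSheaf X.sheaf U)) ⟶ R), f = 0) : IsZero (DCoh.HD R i) := by
  let K := DerivedCategory.Q.objPreimage R
  let e : DCoh.toD X K ≅ R := DerivedCategory.Q.objObjPreimageIso R
  suffices hK : IsZero (K.homology i) from
    hK.of_iso ((DerivedCategory.homologyFunctor X.Modules i).mapIso e.symm ≪≫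
      (DerivedCategory.homologyFunctorFactors X.Modules i).app K)
  have hπ : K.homologyπ i = 0 := ModGroth.freeSheaf_separates (O := X.sheaf) _ _ fun U a => by
    let F : X.Modules := ModGroth.freeSheaf X.sheaf U
    let a' : F ⟶ K.cycles i := a
    change a' ≫ K.homologyπ i = a' ≫ 0
    let φ : (single X.Modules (ComplexShape.up ℤ) i).obj F ⟶ K :=
      mkHomFromSingle (a' ≫ K.iCycles i) (fun k _ => by rw [Category.assoc, iCycles_d, comp_zero])
    have hQ : (DerivedCategory.Q : _ ⥤ DCoh.D X).map φ = 0 :=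
      (cancel_mono e.hom).1 ((h U _).trans zero_comp.symm)
    have h0 : homologyMap φ i = 0 := by
      have hn := (DerivedCategory.homologyFunctorFactors X.Modules i).hom.naturality φ
      simp only [Functor.comp_map] at hn
      rw [hQ, Functor.map_zero, zero_comp] at hn
      exact ((cancel_epi ((DerivedCategory.homologyFunctorFactors X.Modules i).hom.app _)).1
        (hn.symm.trans comp_zero.symm))
    have hd : (singleObjXSelf (ComplexShape.up ℤ) i F).inv ≫
        ((single X.Modules (ComplexShape.up ℤ) i).obj F).d i (i + 1) = 0 := by simp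
    let v := liftCycles _ (singleObjXSelf (ComplexShape.up ℤ) i F).inv (i + 1)
      (by simp) hd
    have hv : v ≫ cyclesMap φ i = a' := by
      rw [← cancel_mono (K.iCycles i)]
      simp [v, φ, mkHomFromSingle_f]
    rw [← hv, Category.assoc, ← homologyπ_naturality, h0, comp_zero, comp_zero]
    exact comp_zero.symm
  rw [IsZero.iff_id_eq_zero, ← cancel_epi (K.homologyπ i), hπ, zero_comp, zero_comp]

/-- `RHom(E, I)` is bounded above when `E` is bounded below and `I` is a bounded complex of injectives. -/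
theorem isZero_HD_rsheafHom_inj (I : CochainComplex X.Modules ℤ) [∀ n, Injective (I.X n)] (a b : ℤ)
    [I.IsStrictlyGE a] (hb : ∀ n, b < n → IsZero (I.X n)) (E : CochainComplex X.Modules ℤ)
    [DCoh.HasLTensorCx E] [DCoh.HasRSheafHom E] (c : ℤ) [(DCoh.toD X E).IsGE c] (i : ℤ) (hi : b - c < i) :
    IsZero (DCoh.HD ((DCoh.RSheafHom E).obj (DCoh.toD X I)) i) := by
  haveI : I.IsKInjective := CochainComplex.isKInjective_of_injective I a
  refine isZero_HD_of_hom _ i fun U f => ((DCoh.RSheafHomAdj E).homEquiv _ _).symm.injective ?_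
  obtain ⟨E', _, ⟨eE⟩⟩ := (DCoh.toD X E).exists_iso_Q_obj_of_isGE c
  let A : CochainComplex X.Modules ℤ := (single X.Modules (ComplexShape.up ℤ) i).obj (ModGroth.freeSheaf X.sheaf U)
  haveI hA : A.IsStrictlyLE i := (CochainComplex.isStrictlyLE_iff A i).2 fun n hn =>
    isZero_single_obj_X (ComplexShape.up ℤ) i _ n (by omega)
  have hAk : DCoh.IsKFlat A := ModGroth.scheme_isKFlat_of_boundedAbove A i hA fun n => by
    by_cases hn : n = i
    · subst hn
      exact (ModGroth.isFlat_iff_flatMod _).1 (ModGroth.isFlat_of_iso (O := X.sheaf)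
        (singleObjXSelf (ComplexShape.up ℤ) n (ModGroth.freeSheaf X.sheaf U)).symm
        (ModGroth.isFlat_freeSheaf U))
    · exact ModGroth.Perf.isFlat_of_isFinLocFree
        (ModGroth.Perf.isFinLocFree_of_isZero (isZero_single_obj_X (ComplexShape.up ℤ) i _ n hn))
  obtain ⟨eT⟩ := nonempty_tensor_congr_left hAk eE
  let θ : (DCoh.LTensorCx E).obj (DCoh.toD X A) ≅ DCoh.toD X (((DCoh.tensorCx (X := X)).obj A).obj E') :=
    ModGroth.ltenValueIso E hAk ≪≫ eT
  refine (cancel_epi θ.inv).1 ?_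
  have key : ∀ g : DCoh.toD X (((DCoh.tensorCx (X := X)).obj A).obj E') ⟶ DCoh.toD X I, g = 0 := fun g => by
    obtain ⟨g₀, rfl⟩ := Q_map_surjective g
    have : g₀ = 0 := by
      refine HomologicalComplex.hom_ext _ _ fun n => ?_
      by_cases hn : b < n
      · exact (hb n hn).eq_of_tgt _ _
      · refine (IsZero.eq_of_src ((IsZero.iff_id_eq_zero _).2 (mapBifunctor.hom_ext fun p q hpq => ?_)) _ _)
        have h' : p + q = n := hpq
        refine IsZero.eq_of_src ?_ _ _
        by_cases hp : p = i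
        · exact Functor.map_isZero _ (CochainComplex.isZero_of_isStrictlyGE E' c q (by omega))
        · exact ((DCoh.tensorBi (X := X)).map_isZero (isZero_single_obj_X (ComplexShape.up ℤ) i _ p hp)).obj _
    rw [this, Functor.map_zero]
  exact (key _).trans (key _).symm

/-- Cohomology of `RHom` at the middle of a distinguished triangle. -/
theorem prop_of_triangle (Pr : ObjectProperty X.Modules) [WSerre.IsWeakSerre Pr] {T : Triangle (DCoh.D X)}
    (hT : T ∈ distTriang (DCoh.D X)) (E : CochainComplex X.Modules ℤ) (eE : DCoh.toD X E ≅ T.obj₂)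
    [DCoh.HasLTensorCx E] [DCoh.HasRSheafHom E] (Y : DCoh.D X) (m : ℤ)
    (h₁ : ∀ (F : CochainComplex X.Modules ℤ) [DCoh.HasLTensorCx F] [DCoh.HasRSheafHom F], (DCoh.toD X F ≅ T.obj₁) →
      Pr (DCoh.HD ((DCoh.RSheafHom F).obj ((shiftFunctor _ (-1 : ℤ)).obj Y)) m) ∧
        Pr (DCoh.HD ((DCoh.RSheafHom F).obj Y) m))
    (h₃ : ∀ (F : CochainComplex X.Modules ℤ) [DCoh.HasLTensorCx F] [DCoh.HasRSheafHom F], (DCoh.toD X F ≅ T.obj₃) →
      Pr (DCoh.HD ((DCoh.RSheafHom F).obj Y) m) ∧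
        Pr (DCoh.HD ((DCoh.RSheafHom F).obj ((shiftFunctor _ (1 : ℤ)).obj Y)) m)) :
    Pr (DCoh.HD ((DCoh.RSheafHom E).obj Y) m) := by
  let Q' : CochainComplex X.Modules ℤ ⥤ DCoh.D X := DerivedCategory.Q
  obtain ⟨F₁, hF₁, -, ⟨e₁⟩⟩ := ModGroth.Amp.exists_rep T.obj₁
  obtain ⟨F₀, hF₀, -, ⟨e₀⟩⟩ := ModGroth.Amp.exists_rep T.invRotate.obj₁
  obtain ⟨P₂, s, hs, a, ha⟩ := DerivedCategory.right_fac (e₀.hom ≫ T.invRotate.mor₁ ≫ e₁.inv)
  obtain ⟨P, q, hP, -, hq, -⟩ := ModGroth.scheme_exists_resolution P₂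
  have hs' : IsIso (Q'.map s) := hs
  have hq' : IsIso (Q'.map q) := ModGroth.Amp.isIso_Q_map q hq
  let φ : P ⟶ F₁ := q ≫ a
  let Mc := CochainComplex.mappingCone φ
  have hMk : DCoh.IsKFlat Mc := KFlat.FlatR.mappingCone (DCoh.tensorBi (X := X)) φ hP hF₁
  let e₃ := isoTriangleOfIso₁₂ _ _ (DerivedCategory.mappingCone_triangle_distinguished φ) (inv_rot_of_distTriang _ hT)
    (@asIso _ _ _ _ (Q'.map q) hq' ≪≫ @asIso _ _ _ _ (Q'.map s) hs' ≪≫ e₀) e₁ (by
      change Q'.map φ ≫ e₁.hom = _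
      rw [Q'.map_comp, show Q'.map a = Q'.map s ≫ e₀.hom ≫ T.invRotate.mor₁ ≫ e₁.inv from
        ((congrArg (Q'.map s ≫ ·) ha).trans (IsIso.hom_inv_id_assoc (Q'.map s) (Q'.map a))).symm]
      simp only [Iso.trans_hom, asIso_hom, Category.assoc]
      exact congrArg (fun z => Q'.map q ≫ Q'.map s ≫ z)
        ((congrArg (e₀.hom ≫ ·) ((congrArg (T.invRotate.mor₁ ≫ ·) e₁.inv_hom_id).trans (Category.comp_id _)))))
  let eM : Q'.obj Mc ≅ DCoh.toD X E := Triangle.π₃.mapIso e₃ ≪≫ eE.symm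
  let S := CochainComplex.mappingCone.triangleRotateShortComplex φ
  haveI := ModGroth.hasLTensorCx S.X₁
  haveI := hasRSheafHom S.X₁
  haveI := ModGroth.hasLTensorCx S.X₃
  haveI := hasRSheafHom S.X₃
  haveI := ModGroth.hasLTensorCx S.X₂
  haveI := hasRSheafHom S.X₂
  let e₁' : DCoh.toD X S.X₁ ≅ T.obj₁ := e₁
  let e₃' : DCoh.toD X S.X₃ ≅ T.obj₃ :=
    ((DerivedCategory.Q (C := X.Modules)).commShiftIso (1 : ℤ)).app P ≪≫
      (shiftFunctor _ (1 : ℤ)).mapIso (@asIso _ _ _ _ (Q'.map q) hq' ≪≫ @asIso _ _ _ _ (Q'.map s) hs' ≪≫ e₀) ≪≫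
      (shiftFunctorCompIsoId (DCoh.D X) (-1 : ℤ) 1 (by omega)).app T.obj₃
  have key : Pr (DCoh.HD ((DCoh.RSheafHom S.X₂).obj Y) m) :=
    qc_middle Pr S (CochainComplex.mappingCone.triangleRotateShortComplexSplitting φ) hF₁ hMk (isKFlat_shift hP 1) Y m
      (h₁ S.X₁ e₁').1 (h₃ S.X₃ e₃').1 (h₁ S.X₁ e₁').2 (h₃ S.X₃ e₃').2
  obtain ⟨eR⟩ := nonempty_rsheafHom_congr (E := S.X₂) (E' := E) eM
  exact Pr.prop_of_iso ((DerivedCategory.homologyFunctor _ m).mapIso (eR.app Y)) key

end Groth.Agent.DQC
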