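import Groth.Agent.ModGroth.PerfTensor
import Groth.Agent.ModGroth.StalkTensor
import Groth.Agent.ModGroth.TotMixed
import Groth.Agent.SiteMod.ExtKFlat
import Groth.Agent.QCohLib.StalkRestrict
import Mathlib.CategoryTheory.Adjunction.Triple

/-!
# Extension by zero from an open subscheme and its projection formula
-/

set_option autoImplicit false
set_option linter.style.haveILetI false

universe u

open CategoryTheory CategoryTheory.Limits AlgebraicGeometry Opposite

namespace Groth.Agent.DQC

variable {X : Scheme.{u}} (V : X.Opens)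

/-- Extension by zero `j_!`. -/
noncomputable def jS : (V : Scheme.{u}).Modules ⥤ X.Modules :=
  (Scheme.Modules.overEquiv V).inverse ⋙ ModSite.extZero X.sheaf V

/-- `j_! ⊣ j^*`. -/
noncomputable def jSAdj : jS V ⊣ Scheme.Modules.restrictFunctor V.ι :=
  ((Scheme.Modules.overEquiv V).symm.toAdjunction.comp (ModSite.extZeroAdj X.sheaf V)).ofNatIsoRight
    (Scheme.Modules.overFunctorEquiv V)

instance additive_jS : (jS V).Additive := (jSAdj V).left_adjoint_additive

noncomputable instance preservesColimits_jS : PreservesColimitsOfSize.{0, 0} (jS V) :=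
  (jSAdj V).leftAdjoint_preservesColimits

instance preservesFiniteColimits_jS : PreservesFiniteColimits (jS V) :=
  PreservesColimitsOfSize.preservesFiniteColimits _

lemma mono_jS_map {A B : (V : Scheme.{u}).Modules} (g : A ⟶ B) [Mono g] : Mono ((jS V).map g) :=
  SiteMod.mono_extZero_map X.sheaf V ((Scheme.Modules.overEquiv V).inverse.map g)

instance preservesFiniteLimits_jS : PreservesFiniteLimits (jS V) :=
  ModGroth.preservesFiniteLimits_of_mono _ fun _ _ g _ => mono_jS_map V g

instance isIso_jSAdj_unit : IsIso (jSAdj V).unit :=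
  (⟨jSAdj V, Scheme.Modules.restrictAdjunction V.ι⟩ : Adjunction.Triple _ _ _).isIso_unit_iff_isIso_counit.2 inferInstance

/-- `j_!` has no stalks outside the open. -/
lemma isZero_stalk_jS (A : (V : Scheme.{u}).Modules) {x : X} (hx : x ∉ V) :
    IsZero ((DerSch.stalkFunctor X x).obj ((jS V).obj A)) := by
  let S := (DerSch.stalkFunctor X x).obj ((jS V).obj A)
  rw [IsZero.iff_id_eq_zero]
  have hz : IsZero ((Scheme.Modules.restrictFunctor V.ι).obj ((ModGroth.Stalk.skyF x).obj S)) := by
    refine QCohLib.isZero_restrict_of_subsingleton_stalk V.ι fun y => ⟨fun a b => ?_⟩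
    obtain ⟨U, hU, s, rfl⟩ := TopCat.Presheaf.exists_germ_eq _ a
    obtain ⟨U', hU', s', rfl⟩ := TopCat.Presheaf.exists_germ_eq _ b
    refine TopCat.Presheaf.germ_ext _ (U ⊓ U' ⊓ V) ⟨⟨hU, hU'⟩, y.2⟩ (homOfLE (inf_le_left.trans inf_le_left))
      (homOfLE (inf_le_left.trans inf_le_right)) ?_
    funext h
    exact absurd h.down.2 hx
  exact ((ModGroth.Stalk.stalkAdj x).homEquiv _ _).injective
    (((jSAdj V).homEquiv _ _).injective (hz.eq_of_tgt _ _))

lemma restrTensorIso_natL {M M' : X.Modules} (a : M ⟶ M') (N : X.Modules) :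
    (Scheme.Modules.restrictFunctor V.ι).map (((DCoh.tensorBi (X := X)).map a).app N) ≫
        (ModGroth.Perf.restrTensorIso V.ι M' N).hom =
      (ModGroth.Perf.restrTensorIso V.ι M N).hom ≫
        ((DCoh.tensorBi (X := (V : Scheme.{u}))).map ((Scheme.Modules.restrictFunctor V.ι).map a)).app
          ((Scheme.Modules.restrictFunctor V.ι).obj N) := by
  let R := Scheme.Modules.restrictFunctor V.ι
  let T := DCoh.tensorBi (X := (V : Scheme.{u}))
  let ρ := Scheme.Modules.restrictFunctorIsoPullback V.ι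
  change R.map _ ≫ ρ.hom.app _ ≫ ModGroth.Stalk.mu V.ι M' N ≫ (T.map (ρ.inv.app M')).app _ ≫
      (T.obj (R.obj M')).map (ρ.inv.app N) =
    (ρ.hom.app _ ≫ ModGroth.Stalk.mu V.ι M N ≫ (T.map (ρ.inv.app M)).app _ ≫
      (T.obj (R.obj M)).map (ρ.inv.app N)) ≫ (T.map (R.map a)).app _
  rw [← Category.assoc, ρ.hom.naturality, Category.assoc, reassoc_of% (ModGroth.Stalk.mu_natL V.ι a N)]
  simp only [Category.assoc]
  rw [(T.map (R.map a)).naturality (ρ.inv.app N), ← NatTrans.comp_app_assoc, ← NatTrans.comp_app_assoc,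
    ← T.map_comp, ← T.map_comp, ρ.inv.naturality]

lemma restrTensorIso_natR (M : X.Modules) {N N' : X.Modules} (b : N ⟶ N') :
    (Scheme.Modules.restrictFunctor V.ι).map (((DCoh.tensorBi (X := X)).obj M).map b) ≫
        (ModGroth.Perf.restrTensorIso V.ι M N').hom =
      (ModGroth.Perf.restrTensorIso V.ι M N).hom ≫
        ((DCoh.tensorBi (X := (V : Scheme.{u}))).obj ((Scheme.Modules.restrictFunctor V.ι).obj M)).map
          ((Scheme.Modules.restrictFunctor V.ι).map b) := by
  let R := Scheme.Modules.restrictFunctor V.ι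
  let T := DCoh.tensorBi (X := (V : Scheme.{u}))
  let ρ := Scheme.Modules.restrictFunctorIsoPullback V.ι
  change R.map _ ≫ ρ.hom.app _ ≫ ModGroth.Stalk.mu V.ι M N' ≫ (T.map (ρ.inv.app M)).app _ ≫
      (T.obj (R.obj M)).map (ρ.inv.app N') =
    (ρ.hom.app _ ≫ ModGroth.Stalk.mu V.ι M N ≫ (T.map (ρ.inv.app M)).app _ ≫
      (T.obj (R.obj M)).map (ρ.inv.app N)) ≫ (T.obj (R.obj M)).map (R.map b)
  rw [← Category.assoc, ρ.hom.naturality, Category.assoc, reassoc_of% (ModGroth.Stalk.mu_natR V.ι M b)]
  simp only [Category.assoc]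
  rw [(T.map (ρ.inv.app M)).naturality_assoc ((Scheme.Modules.pullback V.ι).map b), ← (T.obj (R.obj M)).map_comp,
    ← (T.obj (R.obj M)).map_comp, ρ.inv.naturality]

/-- The projection map. -/
noncomputable def projMap (A : (V : Scheme.{u}).Modules) (N : X.Modules) :
    (jS V).obj (((DCoh.tensorBi (X := (V : Scheme.{u}))).obj A).obj ((Scheme.Modules.restrictFunctor V.ι).obj N)) ⟶
      ((DCoh.tensorBi (X := X)).obj ((jS V).obj A)).obj N :=
  ((jSAdj V).homEquiv _ _).symm
    (((DCoh.tensorBi (X := (V : Scheme.{u}))).map ((jSAdj V).unit.app A)).app _ ≫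
      (ModGroth.Perf.restrTensorIso V.ι ((jS V).obj A) N).inv)

lemma isIso_restrict_projMap (A : (V : Scheme.{u}).Modules) (N : X.Modules) :
    IsIso ((Scheme.Modules.restrictFunctor V.ι).map (projMap V A N)) := by
  have h := ((jSAdj V).homEquiv _ _).apply_symm_apply
    (((DCoh.tensorBi (X := (V : Scheme.{u}))).map ((jSAdj V).unit.app A)).app _ ≫
      (ModGroth.Perf.restrTensorIso V.ι ((jS V).obj A) N).inv)
  rw [Adjunction.homEquiv_unit] at h
  have h' : (jSAdj V).unit.app
      (((DCoh.tensorBi (X := (V : Scheme.{u}))).obj A).obj ((Scheme.Modules.restrictFunctor V.ι).obj N)) ≫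
        (Scheme.Modules.restrictFunctor V.ι).map (projMap V A N) = _ := h
  haveI : IsIso ((jSAdj V).unit.app
      (((DCoh.tensorBi (X := (V : Scheme.{u}))).obj A).obj ((Scheme.Modules.restrictFunctor V.ι).obj N)) ≫
        (Scheme.Modules.restrictFunctor V.ι).map (projMap V A N)) := by
    rw [h']
    exact inferInstance
  exact IsIso.of_isIso_comp_left ((jSAdj V).unit.app _) _

instance isIso_projMap (A : (V : Scheme.{u}).Modules) (N : X.Modules) : IsIso (projMap V A N) := by
  rw [QCohLib.isIso_iff_stalk_bijective]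
  intro x
  by_cases hx : x ∈ V
  · haveI := isIso_restrict_projMap V A N
    have hb := (QCohLib.isIso_iff_stalk_bijective _).1 this ⟨x, hx⟩
    refine ⟨fun a b hab => ?_, fun b => ?_⟩
    · obtain ⟨a', rfl⟩ := (QCohLib.restrictStalkIso_bijective V.ι _ (⟨x, hx⟩ : (V : Scheme.{u}))).2 a
      obtain ⟨b', rfl⟩ := (QCohLib.restrictStalkIso_bijective V.ι _ (⟨x, hx⟩ : (V : Scheme.{u}))).2 b
      exact congrArg _ (hb.1 ((QCohLib.restrictStalkIso_bijective V.ι _ (⟨x, hx⟩ : (V : Scheme.{u}))).1
        ((QCohLib.stalkHom_restrict V.ι _ _ a').trans (hab.trans (QCohLib.stalkHom_restrict V.ι _ _ b').symm))))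
    · obtain ⟨b', rfl⟩ := (QCohLib.restrictStalkIso_bijective V.ι _ (⟨x, hx⟩ : (V : Scheme.{u}))).2 b
      obtain ⟨a', rfl⟩ := hb.2 b'
      exact ⟨_, (QCohLib.stalkHom_restrict V.ι _ _ a').symm⟩
  · have h1 := isZero_stalk_jS V
      (((DCoh.tensorBi (X := (V : Scheme.{u}))).obj A).obj ((Scheme.Modules.restrictFunctor V.ι).obj N)) hx
    have h2 : IsZero ((DerSch.stalkFunctor X x).obj (((DCoh.tensorBi (X := X)).obj ((jS V).obj A)).obj N)) :=
      IsZero.of_iso (Functor.map_isZero ((CategoryTheory.MonoidalCategory.curriedTensor _).flip.obj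
        ((DerSch.stalkFunctor X x).obj N)) (isZero_stalk_jS V A hx))
        (ModGroth.Stalk.tensorStalkIso x _ _).symm
    haveI : Subsingleton (((jS V).obj (((DCoh.tensorBi (X := (V : Scheme.{u}))).obj A).obj
      ((Scheme.Modules.restrictFunctor V.ι).obj N))).presheaf.stalk x) := ModuleCat.subsingleton_of_isZero h1
    haveI : Subsingleton ((((DCoh.tensorBi (X := X)).obj ((jS V).obj A)).obj N).presheaf.stalk x) :=
      ModuleCat.subsingleton_of_isZero h2
    exact ⟨fun a b _ => Subsingleton.elim _ _, fun b => ⟨0, Subsingleton.elim _ _⟩⟩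

/-- The projection formula. -/
noncomputable def jSCompat :
    ModGroth.Mixed.ProjCompat (DCoh.tensorBi (X := (V : Scheme.{u}))) (DCoh.tensorBi (X := X)) (jS V)
      (Scheme.Modules.restrictFunctor V.ι) where
  iso A N := (asIso (projMap V A N)).symm
  natL {A A'} a N := by
    change _ ≫ inv (projMap V A' N) = inv (projMap V A N) ≫ _
    rw [IsIso.comp_inv_eq, Category.assoc, IsIso.eq_inv_comp]
    apply ((jSAdj V).homEquiv _ _).injective
    rw [Adjunction.homEquiv_naturality_left, Adjunction.homEquiv_naturality_right, projMap, projMap,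
      Equiv.apply_symm_apply, Equiv.apply_symm_apply]
    rw [Category.assoc]
    have h : (ModGroth.Perf.restrTensorIso V.ι ((jS V).obj A) N).inv ≫
        (Scheme.Modules.restrictFunctor V.ι).map (((DCoh.tensorBi (X := X)).map ((jS V).map a)).app N) =
      ((DCoh.tensorBi (X := (V : Scheme.{u}))).map ((Scheme.Modules.restrictFunctor V.ι).map ((jS V).map a))).app _ ≫
        (ModGroth.Perf.restrTensorIso V.ι ((jS V).obj A') N).inv := by
      rw [Iso.inv_comp_eq, ← Category.assoc, Iso.eq_comp_inv]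
      exact restrTensorIso_natL V ((jS V).map a) N
    rw [h, ← NatTrans.comp_app_assoc, ← NatTrans.comp_app_assoc, ← Functor.map_comp, ← Functor.map_comp]
    exact congrArg (fun t => ((DCoh.tensorBi (X := (V : Scheme.{u}))).map t).app _ ≫ _)
      ((jSAdj V).unit.naturality a).symm
  natR A {N N'} b := by
    change _ ≫ inv (projMap V A N') = inv (projMap V A N) ≫ _
    rw [IsIso.comp_inv_eq, Category.assoc, IsIso.eq_inv_comp]
    apply ((jSAdj V).homEquiv _ _).injective
    rw [Adjunction.homEquiv_naturality_left, Adjunction.homEquiv_naturality_right, projMap, projMap,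
      Equiv.apply_symm_apply, Equiv.apply_symm_apply]
    rw [Category.assoc]
    have h : (ModGroth.Perf.restrTensorIso V.ι ((jS V).obj A) N).inv ≫
        (Scheme.Modules.restrictFunctor V.ι).map (((DCoh.tensorBi (X := X)).obj ((jS V).obj A)).map b) =
      ((DCoh.tensorBi (X := (V : Scheme.{u}))).obj ((Scheme.Modules.restrictFunctor V.ι).obj ((jS V).obj A))).map
          ((Scheme.Modules.restrictFunctor V.ι).map b) ≫
        (ModGroth.Perf.restrTensorIso V.ι ((jS V).obj A) N').inv := by
      rw [Iso.inv_comp_eq, ← Category.assoc, Iso.eq_comp_inv]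
      exact restrTensorIso_natR V ((jS V).obj A) b
    rw [h]
    exact (((DCoh.tensorBi (X := (V : Scheme.{u}))).map ((jSAdj V).unit.app A)).naturality_assoc
      ((Scheme.Modules.restrictFunctor V.ι).map b) _).symm

end Groth.Agent.DQC
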