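import Groth.Agent.DQC.RHomBase
import Groth.Agent.DQC.Shriek
import Groth.Agent.DQC.ProjGen

/-!
# `RHom` commutes with restriction to opens
-/

set_option autoImplicit false
set_option linter.style.haveILetI false

universe u

open CategoryTheory CategoryTheory.Limits AlgebraicGeometry HomologicalComplex

attribute [local instance] HasDerivedCategory.standard

namespace Groth.Agent.DQC

variable {X : Scheme.{u}} (V : X.Opens)

instance additive_restrict : (Scheme.Modules.restrictFunctor V.ι).Additive := inferInstance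

/-- Extension by zero on derived categories. -/
noncomputable abbrev jSD : DCoh.D (V : Scheme.{u}) ⥤ DCoh.D X := (jS V).mapDerivedCategory

/-- `j_! ⊣ j^*` on derived categories. -/
noncomputable def jSDAdj : jSD V ⊣ ModGroth.Perf.rD V :=
  letI : CatCommSq ((jS V).mapHomotopyCategory (ComplexShape.up ℤ)) DerivedCategory.Qh DerivedCategory.Qh (jSD V) :=
    ⟨(jS V).mapDerivedCategoryFactorsh.symm⟩
  letI : CatCommSq ((Scheme.Modules.restrictFunctor V.ι).mapHomotopyCategory (ComplexShape.up ℤ))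
      DerivedCategory.Qh DerivedCategory.Qh (ModGroth.Perf.rD V) :=
    ⟨(Scheme.Modules.restrictFunctor V.ι).mapDerivedCategoryFactorsh.symm⟩
  (DerAdj.mapHomotopyCategoryAdj (jSAdj V)).localization DerivedCategory.Qh
    (HomotopyCategory.quasiIso _ (ComplexShape.up ℤ)) DerivedCategory.Qh
    (HomotopyCategory.quasiIso _ (ComplexShape.up ℤ)) _ _

/-- Projection formula for `j_!` on derived categories. -/
noncomputable def projD (K : CochainComplex X.Modules ℤ) (hK : DCoh.IsKFlat K) [DCoh.HasLTensorCx K]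
    [DCoh.HasLTensorCx ((DCoh.restrictCx V).obj K)] :
    jSD V ⋙ DCoh.LTensorCx K ≅ DCoh.LTensorCx ((DCoh.restrictCx V).obj K) ⋙ jSD V :=
  ProjGen.derivedIso (jSCompat V) K (cIso K hK) (cIso _ (ModGroth.Perf.isKFlat_restrictCx V hK))

/-- `RHom(K, -)|_V ≅ RHom(K|_V, -|_V)` for a K-flat `K`. -/
noncomputable def rhomRestrIso (K : CochainComplex X.Modules ℤ) (hK : DCoh.IsKFlat K) [DCoh.HasLTensorCx K]
    [DCoh.HasRSheafHom K] [DCoh.HasLTensorCx ((DCoh.restrictCx V).obj K)]
    [DCoh.HasRSheafHom ((DCoh.restrictCx V).obj K)] :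
    DCoh.RSheafHom K ⋙ ModGroth.Perf.rD V ≅
      ModGroth.Perf.rD V ⋙ DCoh.RSheafHom ((DCoh.restrictCx V).obj K) :=
  (((jSDAdj V).comp (DCoh.RSheafHomAdj K)).ofNatIsoLeft (projD V K hK)).rightAdjointUniq
    ((DCoh.RSheafHomAdj ((DCoh.restrictCx V).obj K)).comp (jSDAdj V))

end Groth.Agent.DQC
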