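import Mathlib.Algebra.Homology.DerivedCategory.ShortExact
import Mathlib

/-!
# The connecting transformation of a bifunctor exact on a short exact sequence, on derived categories
-/

set_option autoImplicit false
set_option linter.style.haveILetI false

universe w v u

open CategoryTheory CategoryTheory.Limits CategoryTheory.Pretriangulated

namespace Groth.Agent.DQC.Gen

variable {C : Type u} [Category.{v} C] [Abelian C] [HasDerivedCategory.{w} C]
  (T : CochainComplex C ℤ ⥤ CochainComplex C ℤ ⥤ CochainComplex C ℤ)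
  (S : ShortComplex (CochainComplex C ℤ))
  (hz : ∀ A, (T.obj A).map S.f ≫ (T.obj A).map S.g = 0)

/-- The short complex `T(A, S)`. -/
abbrev tS (A : CochainComplex C ℤ) : ShortComplex (CochainComplex C ℤ) :=
  ShortComplex.mk ((T.obj A).map S.f) ((T.obj A).map S.g) (hz A)

variable (hse : ∀ A, (tS T S hz A).ShortExact)

/-- Functoriality of `T(A, S)` in `A`. -/
def tSMap {A B : CochainComplex C ℤ} (f : A ⟶ B) : tS T S hz A ⟶ tS T S hz B where
  τ₁ := (T.map f).app S.X₁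
  τ₂ := (T.map f).app S.X₂
  τ₃ := (T.map f).app S.X₃
  comm₁₂ := ((T.map f).naturality S.f).symm
  comm₂₃ := ((T.map f).naturality S.g).symm

/-- The connecting transformation before descent. -/
noncomputable def delta₀ :
    T.flip.obj S.X₃ ⋙ DerivedCategory.Q ⟶
      (T.flip.obj S.X₁ ⋙ DerivedCategory.Q) ⋙ shiftFunctor (DerivedCategory C) (1 : ℤ) where
  app A := DerivedCategory.triangleOfSESδ (hse A)
  naturality _ _ f := (DerivedCategory.triangleOfSESδ_naturality (hse _) (hse _) (tSMap T S hz f)).symm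

variable {L₁ L₂ L₃ : DerivedCategory C ⥤ DerivedCategory C}
  (c₁ : DerivedCategory.Q ⋙ L₁ ≅ T.flip.obj S.X₁ ⋙ DerivedCategory.Q)
  (c₂ : DerivedCategory.Q ⋙ L₂ ≅ T.flip.obj S.X₂ ⋙ DerivedCategory.Q)
  (c₃ : DerivedCategory.Q ⋙ L₃ ≅ T.flip.obj S.X₃ ⋙ DerivedCategory.Q)

/-- The connecting transformation. -/
noncomputable def delta : L₃ ⟶ L₁ ⋙ shiftFunctor (DerivedCategory C) (1 : ℤ) :=
  letI : Localization.Lifting DerivedCategory.Q (HomologicalComplex.quasiIso C (ComplexShape.up ℤ))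
      (T.flip.obj S.X₃ ⋙ DerivedCategory.Q) L₃ := ⟨c₃⟩
  letI : Localization.Lifting DerivedCategory.Q (HomologicalComplex.quasiIso C (ComplexShape.up ℤ))
      ((T.flip.obj S.X₁ ⋙ DerivedCategory.Q) ⋙ shiftFunctor (DerivedCategory C) (1 : ℤ))
      (L₁ ⋙ shiftFunctor (DerivedCategory C) (1 : ℤ)) :=
    ⟨(Functor.associator _ _ _).symm ≪≫ Functor.isoWhiskerRight c₁ _⟩
  Localization.liftNatTrans DerivedCategory.Q (HomologicalComplex.quasiIso C (ComplexShape.up ℤ))
    (T.flip.obj S.X₃ ⋙ DerivedCategory.Q)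
    ((T.flip.obj S.X₁ ⋙ DerivedCategory.Q) ⋙ shiftFunctor (DerivedCategory C) (1 : ℤ)) _ _ (delta₀ T S hz hse)

@[reassoc]
lemma delta_app (A : CochainComplex C ℤ) :
    (delta T S hz hse c₁ c₃).app (DerivedCategory.Q.obj A) ≫
      (shiftFunctor (DerivedCategory C) (1 : ℤ)).map (c₁.hom.app A) =
      c₃.hom.app A ≫ DerivedCategory.triangleOfSESδ (hse A) := by
  letI : Localization.Lifting DerivedCategory.Q (HomologicalComplex.quasiIso C (ComplexShape.up ℤ))
      (T.flip.obj S.X₃ ⋙ DerivedCategory.Q) L₃ := ⟨c₃⟩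
  letI : Localization.Lifting DerivedCategory.Q (HomologicalComplex.quasiIso C (ComplexShape.up ℤ))
      ((T.flip.obj S.X₁ ⋙ DerivedCategory.Q) ⋙ shiftFunctor (DerivedCategory C) (1 : ℤ))
      (L₁ ⋙ shiftFunctor (DerivedCategory C) (1 : ℤ)) :=
    ⟨(Functor.associator _ _ _).symm ≪≫ Functor.isoWhiskerRight c₁ _⟩
  simp only [delta, Localization.liftNatTrans_app, Category.assoc]
  simp [delta₀, ← Functor.map_comp]

lemma distinguished (α : L₁ ⟶ L₂) (β : L₂ ⟶ L₃)
    (hα : ∀ A, α.app (DerivedCategory.Q.obj A) ≫ c₂.hom.app A = c₁.hom.app A ≫ DerivedCategory.Q.map ((T.obj A).map S.f))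
    (hβ : ∀ A, β.app (DerivedCategory.Q.obj A) ≫ c₃.hom.app A = c₂.hom.app A ≫ DerivedCategory.Q.map ((T.obj A).map S.g))
    (A : DerivedCategory C) :
    Triangle.mk (α.app A) (β.app A) ((delta T S hz hse c₁ c₃).app A) ∈ distTriang (DerivedCategory C) := by
  obtain ⟨A₀, ⟨i⟩⟩ : ∃ A₀, Nonempty ((DerivedCategory.Q (C := C)).obj A₀ ≅ A) :=
    ⟨_, ⟨DerivedCategory.Q.objObjPreimageIso A⟩⟩
  refine isomorphic_distinguished _ (DerivedCategory.triangleOfSES_distinguished (hse A₀)) _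
    (Triangle.isoMk _ _ (L₁.mapIso i.symm ≪≫ c₁.app A₀) (L₂.mapIso i.symm ≪≫ c₂.app A₀)
      (L₃.mapIso i.symm ≪≫ c₃.app A₀) ?_ ?_ ?_)
  · change α.app A ≫ L₂.map i.inv ≫ c₂.hom.app A₀ = (L₁.map i.inv ≫ c₁.hom.app A₀) ≫ _
    rw [← NatTrans.naturality_assoc, hα, Category.assoc]
    rfl
  · change β.app A ≫ L₃.map i.inv ≫ c₃.hom.app A₀ = (L₂.map i.inv ≫ c₂.hom.app A₀) ≫ _
    rw [← NatTrans.naturality_assoc, hβ, Category.assoc]
    rfl
  · change (delta T S hz hse c₁ c₃).app A ≫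
        (shiftFunctor _ (1 : ℤ)).map (L₁.map i.inv ≫ c₁.hom.app A₀) =
      (L₃.map i.inv ≫ c₃.hom.app A₀) ≫ DerivedCategory.triangleOfSESδ (hse A₀)
    have hn := (delta T S hz hse c₁ c₃).naturality i.inv
    simp only [Functor.comp_map] at hn
    rw [Functor.map_comp, ← reassoc_of% hn, delta_app, Category.assoc]

end Groth.Agent.DQC.Gen
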