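import Groth.Agent.DQC.RHom
import Groth.Agent.DQC.RHomTriGen

/-!
# The triangle of `- ⊗ᴸ E` attached to a degreewise split sequence in `E`
-/

set_option autoImplicit false
set_option linter.style.haveILetI false

universe u

open CategoryTheory CategoryTheory.Limits CategoryTheory.Pretriangulated AlgebraicGeometry HomologicalComplex

attribute [local instance] HasDerivedCategory.standard

namespace Groth.Agent.DQC

variable {X : Scheme.{u}} (S : ShortComplex (CochainComplex X.Modules ℤ))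
  (σ : ∀ n, (S.map (eval X.Modules (ComplexShape.up ℤ) n)).Splitting)

lemma tensor_map_zero (A : CochainComplex X.Modules ℤ) :
    ((DCoh.tensorCx (X := X)).obj A).map S.f ≫ ((DCoh.tensorCx (X := X)).obj A).map S.g = 0 := by
  haveI : ((DCoh.tensorCx (X := X)).obj A).Additive :=
    inferInstanceAs (KFlat.tensR (DCoh.tensorBi (X := X)) A).Additive
  rw [← Functor.map_comp, S.zero, Functor.map_zero]

include σ in
lemma shortExact_tensS (A : CochainComplex X.Modules ℤ) :
    (Gen.tS (DCoh.tensorCx (X := X)) S (tensor_map_zero S) A).ShortExact :=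
  KFlat.shortExact_tensR (DCoh.tensorBi (X := X)) S σ A

variable [DCoh.HasLTensorCx S.X₁] [DCoh.HasLTensorCx S.X₂] [DCoh.HasLTensorCx S.X₃]

/-- The comparison at a K-flat second factor. -/
noncomputable def cIso (E : CochainComplex X.Modules ℤ) [DCoh.HasLTensorCx E] (hE : DCoh.IsKFlat E) :
    DerivedCategory.Q ⋙ DCoh.LTensorCx E ≅ (DCoh.tensorCx (X := X)).flip.obj E ⋙ DerivedCategory.Q :=
  @asIso _ _ _ _ (ModGroth.ltenCounit E)
    (@NatIso.isIso_of_isIso_app _ _ _ _ _ _ _ (ModGroth.isIso_ltenCounit_of_flat E hE))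

variable (h₁ : DCoh.IsKFlat S.X₁) (h₂ : DCoh.IsKFlat S.X₂) (h₃ : DCoh.IsKFlat S.X₃)

/-- The connecting map of `- ⊗ᴸ S`. -/
noncomputable def delta : DCoh.LTensorCx S.X₃ ⟶ DCoh.LTensorCx S.X₁ ⋙ shiftFunctor (DCoh.D X) (1 : ℤ) :=
  Gen.delta (DCoh.tensorCx (X := X)) S (tensor_map_zero S) (shortExact_tensS S σ) (cIso S.X₁ h₁) (cIso S.X₃ h₃)

include h₂ in
lemma distinguished_triA (A : DCoh.D X) :
    Triangle.mk ((tauNT S.f).app A) ((tauNT S.g).app A) ((delta S σ h₁ h₃).app A) ∈ distTriang (DCoh.D X) :=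
  Gen.distinguished (DCoh.tensorCx (X := X)) S (tensor_map_zero S) (shortExact_tensS S σ) (cIso S.X₁ h₁)
    (cIso S.X₂ h₂) (cIso S.X₃ h₃) (tauNT S.f) (tauNT S.g) (fun B => tauNT_app S.f B) (fun B => tauNT_app S.g B) A

end Groth.Agent.DQC
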