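import Groth.Agent.DQC.RelAmpFlat
import Groth.Agent.DQCPush.MVW
import Groth.Agent.DQCPush.CohBound
import Groth.Agent.DCohPerf.PerfAmp

/-!
# Bounded tor amplitude of direct images, by Mayer–Vietoris
-/

set_option autoImplicit false
set_option linter.style.haveILetI false

universe u

open CategoryTheory CategoryTheory.Limits CategoryTheory.Pretriangulated AlgebraicGeometry TopologicalSpace

attribute [local instance] HasDerivedCategory.standard

namespace Groth.Agent.DQC.RelAmp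

open HigherDirect (J η)
open ModGroth.Amp (Van)

variable {X S : Scheme.{u}}

/-- Tor amplitude in some interval. -/
def Bdd (B : DCoh.D S) : Prop := ∃ a b : ℤ, ∀ (F : S.Modules) (i : ℤ), (i < a ∨ b < i) → Van F B i

lemma Bdd.of_iso {B B' : DCoh.D S} (e : B ≅ B') (h : Bdd B) : Bdd B' := by
  obtain ⟨a, b, h⟩ := h
  exact ⟨a, b, fun F i hi => DCohPerf.van_iso F e (h F i hi)⟩

lemma bdd_of_flatAmp {B : DCoh.D S} {a b : ℤ} (h : DCoh.HasFlatAmplitudeIn a b B) : Bdd B :=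
  ⟨a, b, fun F i hi => ModGroth.Amp.van_of_flatAmp h F i hi⟩

lemma bdd_of_isZero {B : DCoh.D S} (h : IsZero B) : Bdd B := by
  obtain ⟨Z, hZ⟩ := HasZeroObject.zero (C := CochainComplex S.Modules ℤ)
  have hQ : IsZero (DCoh.toD S Z) := DerivedCategory.Q.map_isZero hZ
  have hZi : ∀ i, IsZero (Z.X i) := fun i => (HomologicalComplex.eval S.Modules (ComplexShape.up ℤ) i).map_isZero hZ
  exact bdd_of_flatAmp (a := 0) (b := 0) ⟨Z, fun i _ => hZi i, fun i => ModGroth.FlatTor.flatMod_of_isZero (hZi i),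
    ⟨hQ.iso h⟩⟩

lemma bdd_first {T : Triangle (DCoh.D S)} (hT : T ∈ distTriang _) (h₂ : Bdd T.obj₂) (h₃ : Bdd T.obj₃) :
    Bdd T.obj₁ := by
  obtain ⟨a, b, h⟩ := h₂
  obtain ⟨a', b', h'⟩ := h₃
  exact ⟨min a a', max b b' + 1, fun F i hi =>
    (ModGroth.Amp.triangle_amp hT F i).2.2 (h F i (by omega)) (h' F (i - 1) (by omega))⟩

lemma bdd_middle {T : Triangle (DCoh.D S)} (hT : T ∈ distTriang _) (h₁ : Bdd T.obj₁) (h₃ : Bdd T.obj₃) :
    Bdd T.obj₂ := by
  obtain ⟨a, b, h⟩ := h₁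
  obtain ⟨a', b', h'⟩ := h₃
  exact ⟨min a a', max b b', fun F i hi => (ModGroth.Amp.triangle_amp hT F i).2.1 (h F i (by omega)) (h' F i (by omega))⟩

lemma bdd_biprod {B B' : DCoh.D S} (h : Bdd B) (h' : Bdd B') : Bdd (B ⊞ B') :=
  bdd_middle (binaryBiproductTriangle_distinguished B B') h h'

variable (g : X ⟶ S) (A : DCoh.D X)

/-- The contribution of an open to the direct image has bounded tor amplitude. -/
def Good (U : X.Opens) : Prop :=
  haveI := DQCPush.hasRpush (U.ι ≫ g)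
  Bdd ((DCoh.Rpush (U.ι ≫ g)).obj ((DCoh.restrictD U.ι).obj A))

/-- Computation with an injective representative. -/
theorem nonempty_value {I : CochainComplex X.Modules ℤ} [I.IsKInjective] (e : DerivedCategory.Q.obj I ≅ A)
    (U : X.Opens) [DCoh.HasRpush (U.ι ≫ g)] :
    Nonempty (DerivedCategory.Q.obj (((Scheme.Modules.pushforward g).mapHomologicalComplex (ComplexShape.up ℤ)).obj
        (((J U).mapHomologicalComplex (ComplexShape.up ℤ)).obj I)) ≅
      (DCoh.Rpush (U.ι ≫ g)).obj ((DCoh.restrictD U.ι).obj A)) := by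
  haveI : PreservesFiniteLimits (Scheme.Modules.restrictFunctor U.ι) := CxOX.preservesFiniteLimits_restrictFunctor _
  obtain ⟨e'⟩ := DQCPush.nonempty_RF_restrict_iso U (Scheme.Modules.pushforward (U.ι ≫ g)) I e
  let φ : J U ⋙ Scheme.Modules.pushforward g ≅
      Scheme.Modules.restrictFunctor U.ι ⋙ Scheme.Modules.pushforward (U.ι ≫ g) :=
    Functor.associator _ _ _ ≪≫ Functor.isoWhiskerLeft _ (Scheme.Modules.pushforwardComp U.ι g)
  let c : ((Scheme.Modules.pushforward g).mapHomologicalComplex (ComplexShape.up ℤ)).obj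
        (((J U).mapHomologicalComplex (ComplexShape.up ℤ)).obj I) ≅
      ((Scheme.Modules.pushforward (U.ι ≫ g)).mapHomologicalComplex (ComplexShape.up ℤ)).obj ((DCoh.restrictCx U).obj I) :=
    (NatIso.mapHomologicalComplex φ (ComplexShape.up ℤ)).app I
  exact ⟨DerivedCategory.Q.mapIso c ≪≫ e'⟩

theorem good_sup {U V W : X.Opens} (hW : U ⊔ V = W) (hU : Good g A U) (hV : Good g A V) (hUV : Good g A (U ⊓ V)) :
    Good g A W := by
  obtain ⟨I, hI, hinj, ⟨e⟩⟩ := DQCPush.exists_injective_rep A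
  haveI := hI
  haveI := DQCPush.hasRpush (U.ι ≫ g)
  haveI := DQCPush.hasRpush (V.ι ≫ g)
  haveI := DQCPush.hasRpush ((U ⊓ V).ι ≫ g)
  haveI := DQCPush.hasRpush (W.ι ≫ g)
  obtain ⟨eU⟩ := nonempty_value g A e U
  obtain ⟨eV⟩ := nonempty_value g A e V
  obtain ⟨eUV⟩ := nonempty_value g A e (U ⊓ V)
  obtain ⟨eW⟩ := nonempty_value g A e W
  obtain ⟨a, b, c, hT⟩ := DQCPush.exists_triangle_QW W U V (hW ▸ le_sup_left) (hW ▸ le_sup_right) I
    (Scheme.Modules.pushforward g) hW hinj _ _ _ eU eV eUV eW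
  exact bdd_first hT (bdd_biprod hU hV) hUV

/-- Restrictions away from the cohomology are zero. -/
theorem isZero_restrictD (U : X.Opens)
    (h : ∀ (i : ℤ) (x : X), x ∈ U → x ∉ CohB1.support (DCoh.HD A i)) : IsZero ((DCoh.restrictD U.ι).obj A) := by
  have hz : ∀ i, IsZero (DCoh.HD ((DCoh.restrictD U.ι).obj A) i) := fun i => by
    let j : DCoh.HD ((DCoh.restrictD U.ι).obj A) i ≅ (DCoh.HD A i).restrict U.ι :=
      (DQCPush.HDRestrictNatIso U.ι i).app A
    refine IsZero.of_iso ?_ j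
    refine QCohLib.isZero_restrict_of_subsingleton_stalk U.ι fun w => ?_
    by_contra hne
    exact h i w.1 w.2 hne
  obtain ⟨Z, hZ⟩ := HasZeroObject.zero (C := DCoh.D (U : Scheme.{u}))
  haveI : IsIso (0 : (DCoh.restrictD U.ι).obj A ⟶ Z) := (DerivedCategory.isIso_iff _ _).2 fun i =>
    ⟨0, (hz i).eq_of_src _ _, (Functor.map_isZero (DerivedCategory.homologyFunctor _ i) hZ).eq_of_src _ _⟩
  exact hZ.of_iso (asIso (0 : (DCoh.restrictD U.ι).obj A ⟶ Z))

theorem good_of_isZero {U : X.Opens} (h : IsZero ((DCoh.restrictD U.ι).obj A)) : Good g A U := by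
  haveI := DQCPush.hasRpush (U.ι ≫ g)
  haveI := HigherDirect.hasInjectiveResolutions_modules (U : Scheme.{u})
  haveI := RlimLib.preservesZeroMorphisms_RFun (Scheme.Modules.pushforward (U.ι ≫ g)) (DerAdj.modules_hKinj (U : Scheme.{u}))
  exact bdd_of_isZero ((DerAdj.RFun (Scheme.Modules.pushforward (U.ι ≫ g))).map_isZero h)

theorem good_iSup (P : X.Opens → Prop) (hP : ∀ V, P V → Good g A V) (hd : ∀ V W, P V → P W → P (V ⊓ W)) :
    ∀ (k : ℕ) (U : Fin k → X.Opens), (∀ i, P (U i)) → Good g A (⨆ i, U i) := by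
  intro k
  induction k with
  | zero =>
    intro U _
    rw [iSup_of_empty]
    exact good_of_isZero g A (isZero_restrictD A ⊥ fun _ _ hx => hx.elim)
  | succ k ih =>
    intro U hU
    refine good_sup g A (U := ⨆ i : Fin k, U i.castSucc) (V := U (Fin.last k)) ?_ (ih _ fun i => hU _) (hP _ (hU _)) ?_
    · refine le_antisymm (sup_le (iSup_le fun i => le_iSup U _) (le_iSup U _)) (iSup_le fun i => ?_)
      induction i using Fin.lastCases with
      | last => exact le_sup_right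
      | cast i => exact le_sup_of_le_left (le_iSup (fun i : Fin k => U i.castSucc) i)
    · rw [iSup_inf_eq]
      exact ih _ fun i => hd _ _ (hU _) (hU _)

theorem good_of_le_affine {W U : X.Opens} (hW : IsAffineOpen W)
    (h : ∀ U' : X.Opens, U' ≤ W → IsAffineOpen U' → Good g A U') (hU : IsCompact (U : Set X)) (hUW : U ≤ W) :
    Good g A U := by
  classical
  have key : ∀ x : U, ∃ r : Γ(X, W), X.basicOpen r ≤ U ∧ x.1 ∈ X.basicOpen r :=
    fun x => hW.exists_basicOpen_le ⟨x, x.2⟩ (hUW x.2)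
  choose r hrU hxr using key
  obtain ⟨s, hs⟩ := hU.elim_finite_subcover (fun x : U => (X.basicOpen (r x) : Set X))
    (fun x => (X.basicOpen (r x)).isOpen) fun x hx => Set.mem_iUnion.mpr ⟨⟨x, hx⟩, hxr _⟩
  have e : U = ⨆ i : Fin s.card, X.basicOpen (r (s.equivFin.symm i).1) := by
    refine le_antisymm (fun x hx => ?_) (iSup_le fun i => hrU _)
    obtain ⟨i, hi, hxi⟩ : ∃ i ∈ s, x ∈ X.basicOpen (r i) := by simpa using hs hx
    exact Opens.mem_iSup.mpr ⟨s.equivFin ⟨i, hi⟩, by rw [Equiv.symm_apply_apply]; exact hxi⟩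
  rw [e]
  refine good_iSup g A (fun V => ∃ a : Γ(X, W), V = X.basicOpen a) ?_ ?_ _ _ fun i => ⟨_, rfl⟩
  · rintro _ ⟨a, rfl⟩; exact h _ (X.basicOpen_le a) (hW.basicOpen a)
  · rintro _ _ ⟨a, rfl⟩ ⟨a', rfl⟩; exact ⟨a * a', (X.basicOpen_mul a a').symm⟩

/-- The direct image of a complex with proper, locally good support has bounded tor amplitude. -/
theorem bdd_Rpush [QuasiSeparatedSpace X] [DCoh.HasRpush g] {C : Set X} (hC : IsClosed C) (hCc : IsCompact C)
    (hsupp : ∀ i : ℤ, CohB1.support (DCoh.HD A i) ⊆ C)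
    (hloc : ∀ x : X, ∃ W : X.Opens, x ∈ W ∧ ∀ U : X.Opens, U ≤ W → IsAffineOpen U → Good g A U) :
    Bdd ((DCoh.Rpush g).obj A) := by
  classical
  have key : ∀ x : C, ∃ W : X.Opens, x.1 ∈ W ∧ IsAffineOpen W ∧
      ∀ U : X.Opens, U ≤ W → IsAffineOpen U → Good g A U := fun x => by
    obtain ⟨W₀, hx₀, hW₀⟩ := hloc x
    obtain ⟨W, hW, hxW, hle⟩ := exists_isAffineOpen_mem_and_subset hx₀
    exact ⟨W, hxW, hW, fun U hU => hW₀ U (hU.trans hle)⟩
  choose W hxW hWaff hW using key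
  obtain ⟨s, hs⟩ := hCc.elim_finite_subcover (fun x : C => (W x : Set X)) (fun x => (W x).isOpen)
    fun x hx => Set.mem_iUnion.mpr ⟨⟨x, hx⟩, hxW _⟩
  let P : X.Opens → Prop := fun V => IsCompact (V : Set X) ∧ ∃ x : C, V ≤ W x
  let U₀ : X.Opens := ⨆ i : Fin s.card, W (s.equivFin.symm i).1
  have h₀ : Good g A U₀ := by
    refine good_iSup g A P (fun V hV => ?_) (fun V V' hV hV' => ?_) _ _
      fun i => ⟨(hWaff _).isCompact, _, le_rfl⟩
    · obtain ⟨hVc, x, hx⟩ := hV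
      exact good_of_le_affine g A (hWaff x) (hW x) hVc hx
    · obtain ⟨hVc, x, hx⟩ := hV
      exact ⟨QuasiSeparatedSpace.inter_isCompact _ _ V.isOpen hVc V'.isOpen hV'.1, x, inf_le_left.trans hx⟩
  let V : X.Opens := ⟨Cᶜ, hC.isOpen_compl⟩
  have hUV : U₀ ⊔ V = ⊤ := top_le_iff.1 fun x _ => by
    by_cases hx : x ∈ C
    · obtain ⟨i, hi, hxi⟩ : ∃ i ∈ s, x ∈ W i := by simpa using hs hx
      exact Or.inl (Opens.mem_iSup.mpr ⟨s.equivFin ⟨i, hi⟩, by rw [Equiv.symm_apply_apply]; exact hxi⟩)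
    · exact Or.inr hx
  have htop : Good g A ⊤ := good_sup g A hUV h₀
    (good_of_isZero g A (isZero_restrictD A V fun i x hx hx' => hx (hsupp i hx')))
    (good_of_isZero g A (isZero_restrictD A _ fun i x hx hx' => hx.2 (hsupp i hx')))
  obtain ⟨I, hI, hinj, ⟨e⟩⟩ := DQCPush.exists_injective_rep A
  haveI := hI
  haveI := DQCPush.hasRpush ((⊤ : X.Opens).ι ≫ g)
  obtain ⟨eT⟩ := nonempty_value g A e ⊤
  obtain ⟨e'⟩ := DerAdj.nonempty_RF_iso (Scheme.Modules.pushforward g) (DerAdj.modules_hKinj X) I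
  haveI : ∀ N : X.Modules, IsIso ((η (⊤ : X.Opens)).app N) := fun N =>
    Scheme.Modules.Hom.isIso_iff_isIso_app.2 fun O => HigherDirect.η_app_isIso _ N le_top
  haveI : IsIso (η (⊤ : X.Opens)) := NatIso.isIso_of_isIso_app _
  exact Bdd.of_iso (eT.symm ≪≫ DerivedCategory.Q.mapIso (((Scheme.Modules.pushforward g).mapHomologicalComplex _).mapIso
    (((NatIso.mapHomologicalComplex (asIso (η (⊤ : X.Opens))) (ComplexShape.up ℤ)).app I).symm)) ≪≫ e'.symm ≪≫
      (DCoh.Rpush g).mapIso e) htop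

end Groth.Agent.DQC.RelAmp
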