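import Groth.Agent.ModGroth.AmpDescent
import Groth.Agent.FlatDescent.RestrictFlat
import Groth.Agent.QCohLib.TildeFlat
import Groth.Agent.ModGroth.TildeAmp
import Groth.Agent.DQC.PushAffine
import Groth.Agent.DCohPerf.FlatFP

/-!
# Flatness over a base: tensor products and affine direct images
-/

set_option autoImplicit false
set_option linter.style.haveILetI false

universe u

open CategoryTheory CategoryTheory.Limits AlgebraicGeometry TensorProduct

namespace Groth.Agent.DQC

/-- A flat `B`-module tensored with an `A`-flat `B`-module is `A`-flat. -/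
lemma flat_tensor_tower {A B M N : Type u} [CommRing A] [CommRing B] [Algebra A B] [AddCommGroup M] [Module A M]
    [Module B M] [IsScalarTower A B M] [AddCommGroup N] [Module B N] [Module.Flat A M] [Module.Flat B N] :
    Module.Flat A (M ⊗[B] N) := by
  rw [Module.Flat.iff_lTensor_injectiveₛ]
  intro P _ _ P'
  let f := AlgebraTensorModule.lTensor B M P'.subtype
  have hf : Function.Injective f := by
    rw [AlgebraTensorModule.coe_lTensor]
    exact Module.Flat.lTensor_preserves_injective_linearMap P'.subtype P'.subtype_injective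
  have h2 := Module.Flat.rTensor_preserves_injective_linearMap (M := N) f hf
  let e₁ := AlgebraTensorModule.rightComm A B B M N P'
  let e₂ := AlgebraTensorModule.rightComm A B B M N P
  have hc : ∀ z, e₂ (LinearMap.lTensor (M ⊗[B] N) P'.subtype z) = LinearMap.rTensor N f (e₁ z) := by
    intro z
    induction z using TensorProduct.induction_on with
    | zero => simp
    | add a b ha hb => simp [map_add, ha, hb]
    | tmul a q =>
      induction a using TensorProduct.induction_on with
      | zero => simp
      | add a b ha hb => simp [add_tmul, map_add, ← ha, ← hb]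
      | tmul m n => simp [e₁, e₂, f]
  intro a b hab
  exact e₁.injective (h2 (by rw [← hc, ← hc, hab]))

variable {X Y S : Scheme.{u}}

/-- A flat module tensored with a module flat over the base is flat over the base. -/
theorem isFlatOver_tensor (f : X ⟶ S) {P G : X.Modules} (hP : FlatMod.IsFlat P) (hG : FlatMod.IsFlatOver f G) :
    FlatMod.IsFlatOver f ((DCoh.tensorRightMod G).obj P) := fun x => by
  let A := S.presheaf.stalk (f.base x)
  let B := X.presheaf.stalk x
  letI : Algebra A B := (f.stalkMap x).hom.toAlgebra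
  let Px := (DerSch.stalkFunctor X x).obj P
  let Gx := (DerSch.stalkFunctor X x).obj G
  let e := ((ModGroth.Stalk.tensorRightStalkIso x G).app P).toLinearEquiv
  letI : Module A (G.presheaf.stalk x) := FlatMod.moduleStalkOver f G x
  letI : Module A Gx := FlatMod.moduleStalkOver f G x
  haveI : IsScalarTower A B Gx := IsScalarTower.of_algebraMap_smul fun _ _ => rfl
  haveI : Module.Flat A Gx := hG x
  haveI : Module.Flat B Px := hP x
  haveI : Module.Flat A (Gx ⊗[B] Px) := flat_tensor_tower
  let T := (DCoh.tensorRightMod G).obj P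
  let Tx := (DerSch.stalkFunctor X x).obj T
  letI : Module A Tx := FlatMod.moduleStalkOver f T x
  haveI : IsScalarTower A B Tx := IsScalarTower.of_algebraMap_smul fun _ _ => rfl
  change Module.Flat A Tx
  let e' : Tx ≃ₗ[B] Gx ⊗[B] Px := e.trans (TensorProduct.comm B Px Gx)
  exact Module.Flat.of_linearEquiv (e'.restrictScalars A)

theorem isFlatOver_restrict (j : Y ⟶ X) [IsOpenImmersion j] {f : X ⟶ S} {M : X.Modules} (h : FlatMod.IsFlatOver f M) :
    FlatMod.IsFlatOver (j ≫ f) (M.restrict j) := fun y => (FlatDescent.isFlatOverAt_restrict j f M y).2 (h _)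

/-- Flatness over an open of the base. -/
theorem isFlatOver_of_comp {W : Scheme.{u}} (g : X ⟶ W) (i : W ⟶ S) [IsOpenImmersion i] {M : X.Modules}
    (h : FlatMod.IsFlatOver (g ≫ i) M) : FlatMod.IsFlatOver g M := fun x => by
  let A := S.presheaf.stalk ((g ≫ i).base x)
  let B := W.presheaf.stalk (g.base x)
  let φ : A →+* B := (i.stalkMap (g.base x)).hom
  letI : Algebra B A := (inv (i.stalkMap (g.base x))).hom.toAlgebra
  haveI : Module.Flat B A := RingHom.Flat.of_bijective (f := (inv (i.stalkMap (g.base x))).hom)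
    (ConcreteCategory.bijective_of_isIso (inv (i.stalkMap (g.base x))))
  letI : Module A (M.presheaf.stalk x) := FlatMod.moduleStalkOver (g ≫ i) M x
  letI : Module B (M.presheaf.stalk x) := FlatMod.moduleStalkOver g M x
  haveI : IsScalarTower B A (M.presheaf.stalk x) := IsScalarTower.of_algebraMap_smul fun b m => by
    change ((g ≫ i).stalkMap x).hom ((inv (i.stalkMap (g.base x))).hom b) • m = (g.stalkMap x).hom b • m
    rw [Scheme.Hom.stalkMap_comp]
    exact congrArg (fun r => (g.stalkMap x).hom r • m)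
      (ConcreteCategory.congr_hom (IsIso.inv_hom_id (i.stalkMap (g.base x))) b)
  haveI : Module.Flat A (M.presheaf.stalk x) := h x
  exact Module.Flat.trans B A _

/-- Direct image of a restriction along an isomorphism. -/
noncomputable def pushRestrictIso (e : Y ≅ X) (g : X ⟶ S) (M : X.Modules) :
    (Scheme.Modules.pushforward (e.hom ≫ g)).obj (M.restrict e.hom) ≅ (Scheme.Modules.pushforward g).obj M :=
  (Scheme.Modules.pushforward (e.hom ≫ g)).mapIso ((restrictIsoPush e).app M) ≪≫
    (Scheme.Modules.pushforwardComp e.inv (e.hom ≫ g)).app M ≪≫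
    (Scheme.Modules.pushforwardCongr (Iso.inv_hom_id_assoc e g)).app M

/-- Restriction of a direct image along an isomorphism. -/
noncomputable def restrictPushIso (e : Y ≅ X) (g : S ⟶ X) (M : S.Modules) :
    ((Scheme.Modules.pushforward g).obj M).restrict e.hom ≅ (Scheme.Modules.pushforward (g ≫ e.inv)).obj M :=
  (restrictIsoPush e).app _ ≪≫ (Scheme.Modules.pushforwardComp g e.inv).app M

/-- Affine direct images of modules flat over the base are flat. -/
theorem isFlat_pushforward_affine [IsAffine X] [IsAffine S] (g : X ⟶ S) {M : X.Modules} (hq : Coh.IsQCoh M)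
    (h : FlatMod.IsFlatOver g M) : FlatMod.IsFlat ((Scheme.Modules.pushforward g).obj M) := by
  let φ : Γ(S, ⊤) ⟶ Γ(X, ⊤) := g.appTop
  letI : Algebra Γ(S, ⊤) Γ(X, ⊤) := φ.hom.toAlgebra
  haveI : PreservesFiniteLimits (tilde.functor Γ(S, ⊤)) := QCohLib.preservesFiniteLimits_tilde
  let M' := M.restrict X.isoSpec.inv
  haveI hq' : M'.IsQuasicoherent := isQCoh_restrict X.isoSpec.inv hq
  have hsq : X.isoSpec.inv ≫ g = Spec.map φ ≫ S.isoSpec.inv := (Scheme.isoSpec_inv_naturality g).symm
  have h' : FlatMod.IsFlatOver (Spec.map φ) M' := by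
    refine isFlatOver_of_comp _ S.isoSpec.inv ?_
    rw [← hsq]
    exact isFlatOver_restrict _ h
  let N := (moduleSpecΓFunctor (R := Γ(X, ⊤))).obj M'

  let eN : (tilde.functor Γ(X, ⊤)).obj N ≅ M' :=
    @asIso _ _ _ _ ((tilde.adjunction (R := Γ(X, ⊤))).counit.app M') (Scheme.Modules.isIso_fromTildeΓ_of_isQuasicoherent M')
  letI : Module Γ(S, ⊤) N := Module.compHom N φ.hom
  haveI : IsScalarTower Γ(S, ⊤) Γ(X, ⊤) N := IsScalarTower.of_algebraMap_smul fun _ _ => rfl
  have hN : Module.Flat Γ(S, ⊤) N :=
    (QCohLib.isFlatOver_tilde_iff (A := Γ(S, ⊤)) (B := Γ(X, ⊤)) N).1 fun y =>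
      (FlatDescent.isFlatOverAt_congr eN _ y).2 (h' y)
  have hflat : FlatMod.IsFlat ((tilde.functor Γ(S, ⊤)).obj ((ModuleCat.restrictScalars φ.hom).obj N)) :=
    ModGroth.Stalk.isFlat_tilde hN
  have hcomp : Spec.map φ ≫ S.isoSpec.inv = X.isoSpec.inv ≫ g := hsq.symm
  let M₁ : (Spec Γ(S, ⊤)).Modules := (Scheme.Modules.pushforward (Spec.map φ)).obj M'
  let e₁ : (tilde.functor Γ(S, ⊤)).obj ((ModuleCat.restrictScalars φ.hom).obj N) ≅ M₁ :=
    ((pushTildeIso φ).app N).symm ≪≫ (Scheme.Modules.pushforward (Spec.map φ)).mapIso eN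
  let e₃ : (Scheme.Modules.pushforward (X.isoSpec.inv ≫ g)).obj M' ≅ (Scheme.Modules.pushforward g).obj M :=
    pushRestrictIso X.isoSpec.symm g M
  let e₄ : M₁.restrict S.isoSpec.hom ≅ (Scheme.Modules.pushforward (X.isoSpec.inv ≫ g)).obj M' :=
    restrictPushIso S.isoSpec (Spec.map φ) M' ≪≫ (Scheme.Modules.pushforwardCongr hcomp).app M'
  exact DCohPerf.flatMod_iso ((Scheme.Modules.restrictFunctor S.isoSpec.hom).mapIso e₁ ≪≫ e₄ ≪≫ e₃)
    (DCohPerf.isFlat_restrict S.isoSpec.hom hflat)

end Groth.Agent.DQC
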