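import Groth.Agent.DQC.RelAmpLTensor
import Groth.Agent.DQC.RHomCx
import Groth.Agent.DQC.RHomLE
import Groth.Agent.DQC.RHomCoh

/-!
# `Rf_* RHom(E, G)` for perfect `E` and `G` flat over the base with proper support
-/

set_option autoImplicit false
set_option linter.style.haveILetI false

universe u

open CategoryTheory CategoryTheory.Limits CategoryTheory.Pretriangulated AlgebraicGeometry TopologicalSpace
  HomologicalComplex

attribute [local instance] HasDerivedCategory.standard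

namespace Groth.Agent.DQC.RelAmp

open DCohPerf (rF rC RD RQ RDComp RDCongr RDsingle)

variable {X S : Scheme.{u}} (g : X ⟶ S)

/-- Good everywhere. -/
def AllGood (B : DCoh.D X) : Prop := LocGood g B ⊤

lemma bdd_third {T : Triangle (DCoh.D S)} (hT : T ∈ distTriang _) (h₁ : Bdd T.obj₁) (h₂ : Bdd T.obj₂) :
    Bdd T.obj₃ := by
  obtain ⟨a, b, h⟩ := h₂
  obtain ⟨a', b', h'⟩ := h₁
  exact ⟨min a a' - 1, max b b', fun F i hi =>
    (ModGroth.Amp.triangle_amp hT F i).1 (h F i (by omega)) (h' F (i + 1) (by omega))⟩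

variable {g}

lemma AllGood.of_iso {B B' : DCoh.D X} (e : B ≅ B') (h : AllGood g B) : AllGood g B' :=
  fun Z T _ _ i t _ _ φ _ hi hh => Bdd.of_iso ((DCoh.Rpush φ).mapIso ((RD i).mapIso e)) (h Z T i t φ hi hh)

lemma allGood_of_isZero {B : DCoh.D X} (h : IsZero B) : AllGood g B :=
  fun Z T _ _ i t _ _ φ _ hi hh => by
    haveI := HigherDirect.hasInjectiveResolutions_modules Z
    haveI := RlimLib.preservesZeroMorphisms_RFun (Scheme.Modules.pushforward φ) (DerAdj.modules_hKinj Z)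
    exact bdd_of_isZero ((DerAdj.RFun (Scheme.Modules.pushforward φ)).map_isZero ((RD i).map_isZero h))

lemma exists_image_triangle {T : Triangle (DCoh.D X)} (hT : T ∈ distTriang _) {Z Y : Scheme.{u}} (i : Z ⟶ X)
    [IsOpenImmersion i] (φ : Z ⟶ Y) [DCoh.HasRpush φ] :
    ∃ T' : Triangle (DCoh.D Y), T' ∈ distTriang _ ∧ T'.obj₁ = (DCoh.Rpush φ).obj ((RD i).obj T.obj₁) ∧
      T'.obj₂ = (DCoh.Rpush φ).obj ((RD i).obj T.obj₂) ∧ T'.obj₃ = (DCoh.Rpush φ).obj ((RD i).obj T.obj₃) := by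
  obtain ⟨c, hc⟩ := DerAdj.exists_distinguished_map (Scheme.Modules.pushforward φ) (DerAdj.modules_hKinj Z) _
    ((RD i).map_distinguished _ hT)
  exact ⟨_, hc, rfl, rfl, rfl⟩

lemma AllGood.middle {T : Triangle (DCoh.D X)} (hT : T ∈ distTriang _) (h₁ : AllGood g T.obj₁)
    (h₃ : AllGood g T.obj₃) : AllGood g T.obj₂ := fun Z Y _ _ i t _ _ φ _ hi hh => by
  obtain ⟨T', hT', e₁, e₂, e₃⟩ := exists_image_triangle hT i φ
  exact e₂ ▸ bdd_middle hT' (e₁.symm ▸ h₁ Z Y i t φ hi hh) (e₃.symm ▸ h₃ Z Y i t φ hi hh)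

lemma AllGood.shift_one {B : DCoh.D X} (h : AllGood g B) : AllGood g (B⟦(1 : ℤ)⟧) := fun Z Y _ _ i t _ _ φ _ hi hh => by
  obtain ⟨T', hT', e₁, e₂, e₃⟩ := exists_image_triangle (rot_of_distTriang _ (contractible_distinguished B)) i φ
  exact e₃ ▸ bdd_third hT' (e₁.symm ▸ h Z Y i t φ hi hh)
    (e₂.symm ▸ allGood_of_isZero (g := g) (isZero_zero _) Z Y i t φ hi hh)

lemma AllGood.shift_neg_one {B : DCoh.D X} (h : AllGood g B) : AllGood g (B⟦(-1 : ℤ)⟧) :=
  fun Z Y _ _ i t _ _ φ _ hi hh => by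
  obtain ⟨T', hT', e₁, e₂, e₃⟩ := exists_image_triangle
    (inv_rot_of_distTriang _ (inv_rot_of_distTriang _ (contractible_distinguished B))) i φ
  exact e₁ ▸ bdd_first hT' (e₂.symm ▸ allGood_of_isZero (g := g)
    ((shiftFunctor (DCoh.D X) (-1 : ℤ)).map_isZero (isZero_zero _)) Z Y i t φ hi hh) (e₃.symm ▸ h Z Y i t φ hi hh)

lemma AllGood.shift {B : DCoh.D X} (h : AllGood g B) (n : ℤ) : AllGood g (B⟦n⟧) := by
  induction n using Int.induction_on with
  | zero => exact h.of_iso ((shiftFunctorZero (DCoh.D X) ℤ).app B).symm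
  | succ k ih => exact ih.shift_one.of_iso ((shiftFunctorAdd' (DCoh.D X) (k : ℤ) 1 ((k : ℤ) + 1) rfl).app B).symm
  | pred k ih =>
    exact ih.shift_neg_one.of_iso ((shiftFunctorAdd' (DCoh.D X) (-(k : ℤ)) (-1) (-(k : ℤ) - 1) (by omega)).app B).symm

variable (g) (Y : DCoh.D X)

/-- `RHom(E, Y)` is good everywhere. -/
structure HomAG (E : CochainComplex X.Modules ℤ) : Prop where
  good : ∀ [DCoh.HasLTensorCx E] [DCoh.HasRSheafHom E] (m : ℤ), AllGood g ((DCoh.RSheafHom E).obj (Y⟦m⟧))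

variable {g Y}

theorem HomAG.of_iso {E E' : CochainComplex X.Modules ℤ} (e : E ≅ E') (h : HomAG g Y E) : HomAG g Y E' := by
  refine ⟨fun {_ _} m => ?_⟩
  haveI := ModGroth.hasLTensorCx E
  haveI := hasRSheafHom E
  obtain ⟨e'⟩ := nonempty_rsheafHom_congr (DerivedCategory.Q.mapIso e)
  exact (h.good m).of_iso (e'.app _)

theorem homAG_shift {E : CochainComplex X.Modules ℤ} (hE : DCoh.IsKFlat E) (h : HomAG g Y E) (n : ℤ) :
    HomAG g Y (E⟦n⟧) := by
  refine ⟨fun {_ _} m => ?_⟩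
  haveI := ModGroth.hasLTensorCx E
  haveI := hasRSheafHom E
  let i : DCoh.LTensorCx (E⟦n⟧) ≅ DCoh.LTensorCx E ⋙ shiftFunctor (DCoh.D X) n :=
    ltenIsoOfTensor _ (isKFlat_shift hE n) _ (Functor.isoWhiskerRight (tensEShift E n) _ ≪≫ Functor.associator _ _ _ ≪≫
      Functor.isoWhiskerLeft _ ((DerivedCategory.Q (C := X.Modules)).commShiftIso n) ≪≫
      (Functor.associator _ _ _).symm ≪≫ Functor.isoWhiskerRight (cIso E hE).symm _ ≪≫ Functor.associator _ _ _)
  let e := (((DCoh.RSheafHomAdj E).comp (shiftEquiv (DCoh.D X) n).toAdjunction).ofNatIsoLeft i.symm).rightAdjointUniq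
    (DCoh.RSheafHomAdj (E⟦n⟧))
  exact ((h.good (m + -n)).of_iso ((DCoh.RSheafHom E).mapIso
    ((shiftFunctorAdd' (DCoh.D X) m (-n) (m + -n) rfl).app Y))).of_iso (e.app _)

theorem homAG_unit (hY : AllGood g Y) : HomAG g Y ((single X.Modules (ComplexShape.up ℤ) 0).obj (Coh.structureModule X)) := by
  refine ⟨fun {_ _} m => ?_⟩
  let i : DCoh.LTensorCx ((single X.Modules (ComplexShape.up ℤ) 0).obj (Coh.structureModule X)) ≅ 𝟭 _ :=
    ltenIsoOfTensor _ (ModGroth.Perf.isKFlat_of_isStrictlyPerfect (isStrictlyPerfect_single isFinLocFree_structureModule 0)) _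
      (Functor.isoWhiskerRight tensEUnit _ ≪≫ Functor.leftUnitor _ ≪≫ (Functor.rightUnitor _).symm)
  exact (hY.shift m).of_iso (((Adjunction.id.ofNatIsoLeft i.symm).rightAdjointUniq (DCoh.RSheafHomAdj _)).app _)

theorem homAG_middle (T : ShortComplex (CochainComplex X.Modules ℤ))
    (σ : ∀ n, (T.map (eval X.Modules (ComplexShape.up ℤ) n)).Splitting)
    (h₁ : DCoh.IsKFlat T.X₁) (h₂ : DCoh.IsKFlat T.X₂) (h₃ : DCoh.IsKFlat T.X₃)
    (q₁ : HomAG g Y T.X₁) (q₃ : HomAG g Y T.X₃) : HomAG g Y T.X₂ := by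
  refine ⟨fun {_ _} m => ?_⟩
  haveI := ModGroth.hasLTensorCx T.X₁
  haveI := ModGroth.hasLTensorCx T.X₃
  haveI := hasRSheafHom T.X₁
  haveI := hasRSheafHom T.X₃
  obtain ⟨a, b, d, hT⟩ := exists_rsheafHom_triangle T σ h₁ h₂ h₃ (Y⟦m⟧)
  exact AllGood.middle hT (q₃.good m) (q₁.good m)

theorem homAG_of_isZero (E : CochainComplex X.Modules ℤ) (h : IsZero E) : HomAG g Y E := by
  refine ⟨fun {_ _} m => allGood_of_isZero ?_⟩
  have hk : DCoh.IsKFlat E := KFlat.FlatR.of_isZero (DCoh.tensorBi (X := X)) h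
  have hz : ∀ A, IsZero ((DCoh.LTensorCx E).obj A) := fun A =>
    ((DerivedCategory.Q : CochainComplex X.Modules ℤ ⥤ DCoh.D X).map_isZero
      ((KFlat.tensR (DCoh.tensorBi (X := X)) (DerivedCategory.Q.objPreimage A)).map_isZero h)).of_iso
      ((DCoh.LTensorCx E).mapIso (DerivedCategory.Q.objObjPreimageIso A).symm ≪≫ (cIso E hk).app _)
  exact (IsZero.iff_id_eq_zero _).2 (((DCoh.RSheafHomAdj E).homEquiv _ _).symm.injective ((hz _).eq_of_src _ _))

theorem homAG_free (hY : AllGood g Y) :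
    ∀ r : ℕ, HomAG g Y ((single X.Modules (ComplexShape.up ℤ) 0).obj (FlatMod.freeMod X r))
  | 0 => homAG_of_isZero _ ((single X.Modules (ComplexShape.up ℤ) 0).map_isZero
      ((IsZero.iff_id_eq_zero _).2 (Sigma.hom_ext _ _ fun i => i.elim0)))
  | r + 1 => by
    have hk : ∀ M, FlatMod.IsFinLocFree M → DCoh.IsKFlat ((single X.Modules (ComplexShape.up ℤ) 0).obj M) :=
      fun M hM => ModGroth.Perf.isKFlat_of_isStrictlyPerfect (isStrictlyPerfect_single hM 0)
    exact homAG_middle ((freeSeq X r).map (single X.Modules (ComplexShape.up ℤ) 0))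
      (fun n => (freeSeqSplitting X r).map (single X.Modules (ComplexShape.up ℤ) 0 ⋙ eval X.Modules (ComplexShape.up ℤ) n))
      (hk _ (DCohPerf.isFinLocFree_free r)) (hk _ (DCohPerf.isFinLocFree_free (r + 1)))
      (hk _ isFinLocFree_structureModule) (homAG_free hY r) (homAG_unit hY)

theorem homAG_single_free (hY : AllGood g Y) {M : X.Modules} {r : ℕ} (i : M ≅ FlatMod.freeMod X r) (n : ℤ) :
    HomAG g Y ((single X.Modules (ComplexShape.up ℤ) n).obj M) :=
  HomAG.of_iso (((CochainComplex.singleFunctors X.Modules).shiftIso (-n) n 0 (by omega)).app M)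
    (homAG_shift (ModGroth.Perf.isKFlat_of_isStrictlyPerfect
        (isStrictlyPerfect_single (isFinLocFree_congr i.symm (DCohPerf.isFinLocFree_free r)) 0))
      (HomAG.of_iso ((single X.Modules (ComplexShape.up ℤ) 0).mapIso i.symm) (homAG_free hY r)) (-n))

theorem homAG_of_free_terms (hY : AllGood g Y) {E : CochainComplex X.Modules ℤ} (a b : ℤ)
    (hz : ∀ i, i < a ∨ b < i → IsZero (E.X i))
    (hl : ∀ i, ∃ r : ℕ, Nonempty (E.X i ≅ FlatMod.freeMod X r)) : HomAG g Y E := by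
  obtain ⟨k, hk⟩ : ∃ k : ℕ, b - a < k := ⟨(b - a + 1).toNat, by omega⟩
  induction k generalizing E b with
  | zero => exact homAG_of_isZero E ((IsZero.iff_id_eq_zero _).2 (HomologicalComplex.hom_ext _ _ fun i => (hz i (by omega)).eq_of_src _ _))
  | succ k ih =>
    have hfl : ∀ i, FlatMod.IsFinLocFree (E.X i) := fun i => by
      obtain ⟨r, ⟨e⟩⟩ := hl i
      exact isFinLocFree_congr e.symm (DCohPerf.isFinLocFree_free r)
    obtain ⟨T, hT, h1, h2, h3, h3'⟩ := PCohLib.exists_ses_top E b (hz (b + 1) (Or.inr (by omega)))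
    have hz3 : ∀ i, i < a ∨ b - 1 < i → IsZero (T.X₃.X i) := fun i hi => by
      by_cases hib : i = b
      · exact hib ▸ h3
      · exact (hz i (by omega)).of_iso (h3' i hib).some.symm
    have hl3 : ∀ i, ∃ r : ℕ, Nonempty (T.X₃.X i ≅ FlatMod.freeMod X r) := fun i => by
      by_cases hib : i = b
      · exact ⟨0, ⟨(hib ▸ h3).iso ((IsZero.iff_id_eq_zero _).2 (Sigma.hom_ext _ _ fun i => i.elim0))⟩⟩
      · obtain ⟨r, ⟨e⟩⟩ := hl i
        exact ⟨r, ⟨(h3' i hib).some.symm ≪≫ e⟩⟩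
    have hf3 : ∀ i, FlatMod.IsFinLocFree (T.X₃.X i) := fun i => by
      obtain ⟨r, ⟨e⟩⟩ := hl3 i
      exact isFinLocFree_congr e.symm (DCohPerf.isFinLocFree_free r)
    have σ : ∀ n, (T.map (eval X.Modules (ComplexShape.up ℤ) n)).Splitting := fun n => by
      refine splittingOfEither (hT.map_of_exact _) ?_
      by_cases hnb : n = b
      · exact Or.inr (hnb ▸ h3)
      · left
        change IsZero (T.X₁.X n)
        rw [h1]
        exact isZero_single_obj_X _ _ _ _ hnb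
    rw [← h2]
    refine homAG_middle T σ ?_ (h2 ▸ ModGroth.Perf.isKFlat_of_isStrictlyPerfect ⟨⟨a, b, hz⟩, hfl⟩)
      (ModGroth.Perf.isKFlat_of_isStrictlyPerfect ⟨⟨a, b - 1, hz3⟩, hf3⟩) ?_ (ih (b - 1) hz3 hl3 (by omega))
    · rw [h1]
      exact ModGroth.Perf.isKFlat_of_isStrictlyPerfect (isStrictlyPerfect_single (hfl b) b)
    · rw [h1]
      obtain ⟨r, ⟨e⟩⟩ := hl b
      exact homAG_single_free hY e b

/-- A bounded complex of locally free modules has free terms near every point. -/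
lemma exists_free_nhd {E : CochainComplex X.Modules ℤ} (hl : ∀ i, FlatMod.IsFinLocFree (E.X i)) (x : X)
    (s : Finset ℤ) : ∃ V : X.Opens, x ∈ V ∧ ∀ i ∈ s, ∃ r : ℕ, Nonempty ((E.X i).restrict V.ι ≅ FlatMod.freeMod (↑V) r) := by
  induction s using Finset.induction_on with
  | empty => exact ⟨⊤, trivial, fun i hi => absurd hi (Finset.notMem_empty i)⟩
  | insert j s hj ih =>
    obtain ⟨V, hxV, hV⟩ := ih
    obtain ⟨U, r, hxU, ⟨e⟩⟩ := hl j x
    refine ⟨U ⊓ V, ⟨hxU, hxV⟩, fun i hi => ?_⟩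
    rcases Finset.mem_insert.1 hi with rfl | hi
    · exact ⟨r, ModGroth.Perf.free_of_le' inf_le_left e⟩
    · obtain ⟨r', ⟨e'⟩⟩ := hV i hi
      exact ⟨r', ModGroth.Perf.free_of_le' inf_le_right e'⟩

/-- A coherent module flat over the base is good in degree zero. -/
lemma allGood_inD {G : X.Modules} (hG : Coh.IsQCoh G) (hflat : FlatMod.IsFlatOver g G) : AllGood g (DCoh.inD X G) := by
  refine locGood_of_model g (DCoh.inD X G) (HasModel.restrict _ ?_)
  refine ⟨(single X.Modules (ComplexShape.up ℤ) 0).obj G, 0, 0, fun i hi => isZero_single_obj_X _ _ _ _ (by omega),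
    fun i => ?_, fun i => ?_, ⟨(DCohPerf.inDIso G).symm⟩⟩
  · by_cases h : i = 0
    · subst h
      exact @QCohLib.isQuasicoherent_of_iso _ _ _ (singleObjXSelf (ComplexShape.up ℤ) 0 G).symm hG
    · exact QCohLib.isQuasicoherent_of_isZero (isZero_single_obj_X _ _ _ _ h)
  · by_cases h : i = 0
    · subst h
      exact fun x => (FlatDescent.isFlatOverAt_congr (singleObjXSelf (ComplexShape.up ℤ) 0 G) g x).2 (hflat x)
    · intro x
      letI := FlatMod.moduleStalkOver g (((single X.Modules (ComplexShape.up ℤ) 0).obj G).X i) x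
      haveI := QCohLib.subsingleton_stalk_of_isZero (isZero_single_obj_X (ComplexShape.up ℤ) 0 G i h) x
      change Module.Flat _ _
      infer_instance

/-- The direct image of `RHom(E, G)` is perfect. -/
theorem isPerfect_Rpush_rhom [IsNoetherian S] (f : X ⟶ S) [LocallyOfFiniteType f] [DCoh.HasRpush f]
    (E : CochainComplex X.Modules ℤ) (hE : DCoh.IsPerfect (DCoh.toD X E)) [DCoh.HasLTensorCx E] [DCoh.HasRSheafHom E]
    (G : X.Modules) (hG : Coh.IsCoh G) (hflat : FlatMod.IsFlatOver f G)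
    (hsupp : ClSub.IsProperOver f (CohB1.support G)) :
    DCoh.IsPerfect ((DCoh.Rpush f).obj ((DCoh.RSheafHom E).obj (DCoh.inD X G))) := by
  classical
  haveI : IsLocallyNoetherian X := LocallyOfFiniteType.isLocallyNoetherian f
  obtain ⟨R, hR, -, ⟨eR⟩⟩ := ModGroth.Amp.exists_rep (DCoh.toD X E)
  haveI := ModGroth.hasLTensorCx R
  haveI := hasRSheafHom R
  obtain ⟨eRE⟩ := nonempty_rsheafHom_congr eR
  let A := (DCoh.RSheafHom E).obj (DCoh.inD X G)
  have hres : ∀ (V : X.Opens) [DCoh.HasLTensorCx ((DCoh.restrictCx V).obj R)]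
      [DCoh.HasRSheafHom ((DCoh.restrictCx V).obj R)],
      Nonempty ((RD V.ι).obj A ≅ (DCoh.RSheafHom ((DCoh.restrictCx V).obj R)).obj
        (DCoh.inD (V : Scheme.{u}) (G.restrict V.ι))) := fun V _ _ =>
    ⟨(RD V.ι).mapIso (eRE.symm.app _) ≪≫ (rhomRestrIso V R hR).app (DCoh.inD X G) ≪≫
      (DCoh.RSheafHom _).mapIso (RDsingle V.ι G)⟩
  have key : ∀ x : X, ∃ (W : X.Opens) (a b : ℤ), x ∈ W ∧ DCoh.IsCohD ((RD W.ι).obj A) ∧
      (∀ i, (i < a ∨ b < i) → IsZero (DCoh.HD ((RD W.ι).obj A) i)) ∧ LocGood f A W := fun x => by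
    obtain ⟨W₀, hx₀, P₀, hP₀, ⟨eP₀⟩⟩ := (ModGroth.Perf.isPerfect_iff _).1 hE x
    obtain ⟨⟨a, b, hv⟩, hl⟩ := id hP₀
    obtain ⟨V, hxV, hV⟩ := exists_free_nhd hl ⟨x, hx₀⟩ (Finset.Icc a b)
    let W : X.Opens := W₀.ι ''ᵁ V
    let k : (W : Scheme.{u}) ⟶ W₀ := X.homOfLE (W₀.ι_image_le V)
    let P := (DCohPerf.rC k).obj P₀
    have hPv : ∀ i, i < a ∨ b < i → IsZero (P.X i) := fun i hi => (rF k).map_isZero (hv i hi)
    have hk : k.opensRange ≤ V := by
      rintro _ ⟨w, rfl⟩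
      obtain ⟨v, hv', hvw⟩ := w.2
      have : k w = v := W₀.ι.isOpenEmbedding.injective
        ((congr($(X.homOfLE_ι (W₀.ι_image_le V)) w)).trans hvw.symm)
      exact this ▸ hv'
    have hPf : ∀ i, ∃ r : ℕ, Nonempty (P.X i ≅ FlatMod.freeMod (W : Scheme.{u}) r) := fun i => by
      by_cases hi : i ∈ Finset.Icc a b
      · obtain ⟨r, ⟨e⟩⟩ := hV i hi
        let k' : (W : Scheme.{u}) ⟶ (V : Scheme.{u}) := IsOpenImmersion.lift V.ι k (by
          rw [Scheme.Opens.range_ι]; exact hk)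
        have hk' : k' ≫ V.ι = k := IsOpenImmersion.lift_fac _ _ _
        haveI : IsOpenImmersion k' := by
          haveI : IsOpenImmersion (k' ≫ V.ι) := by rw [hk']; infer_instance
          exact IsOpenImmersion.of_comp k' V.ι
        exact ⟨r, ⟨((Scheme.Modules.restrictFunctorCongr hk').app (P₀.X i)).symm ≪≫
          (Scheme.Modules.restrictFunctorComp k' V.ι).app (P₀.X i) ≪≫
          (rF k').mapIso e ≪≫ LocFree.restrictFreeIso k' r⟩⟩
      · rw [Finset.mem_Icc] at hi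
        exact ⟨0, ⟨(hPv i (by omega)).iso ((IsZero.iff_id_eq_zero _).2 (Sigma.hom_ext _ _ fun i => i.elim0))⟩⟩
    have hPl : ∀ i, FlatMod.IsFinLocFree (P.X i) := fun i => by
      obtain ⟨r, ⟨e⟩⟩ := hPf i
      exact isFinLocFree_congr e.symm (DCohPerf.isFinLocFree_free r)
    have hP : DCoh.IsStrictlyPerfect P := ⟨⟨a, b, hPv⟩, hPl⟩
    let R' := (DCoh.restrictCx W).obj R
    haveI := ModGroth.hasLTensorCx R'
    haveI := hasRSheafHom R'
    haveI := ModGroth.hasLTensorCx P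
    haveI := hasRSheafHom P
    let eP : DCoh.toD (W : Scheme.{u}) P ≅ DCoh.toD (W : Scheme.{u}) R' :=
      (RQ k P₀).symm ≪≫ (RD k).mapIso eP₀.symm ≪≫ ((RDComp k W₀.ι).app _).symm ≪≫
        (RDCongr (X.homOfLE_ι (W₀.ι_image_le V))).app _ ≪≫ (RD W.ι).mapIso eR.symm ≪≫ RQ W.ι R
    obtain ⟨eh⟩ := nonempty_rsheafHom_congr eP
    obtain ⟨e₀⟩ := hres W
    let G' := G.restrict W.ι
    haveI : IsLocallyNoetherian (W : Scheme.{u}) := isLocallyNoetherian_of_isOpenImmersion W.ι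
    have hG' : Coh.IsCoh G' := HigherDirect.isCoh_restrict W.ι hG
    have hG0 : DCoh.IsCohD (DCoh.inD (W : Scheme.{u}) G') := fun i => by
      by_cases h : i = 0
      · subst h; exact QCohLib.isCoh_of_iso (DCohPerf.HDZeroIso G').symm hG'
      · exact QCohLib.isCoh_of_isZero (DCohPerf.isZero_HD_inD G' i h)
    haveI : (DCoh.toD (W : Scheme.{u}) P).IsLE b := (DerivedCategory.isLE_iff _ b).2 fun i hi =>
      DCohPerf.isZero_HD_of_vanishes (Iso.refl _) i (hPv i (Or.inr hi))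
    obtain ⟨hc, hge⟩ := isCohD_rsheafHom P b (DCohPerf.isCohD_of_isPerfect (DCohPerf.isPerfect_of_sp hP))
      (DCoh.inD (W : Scheme.{u}) G') 0 hG0
    have hle := (homLE_of_isStrictlyPerfect a b hPv hPl).le (DCoh.inD (W : Scheme.{u}) G') 0
      fun i hi => DCohPerf.isZero_HD_inD G' i (by omega)
    let eA : (DCoh.RSheafHom P).obj (DCoh.inD (W : Scheme.{u}) G') ≅ (RD W.ι).obj A := eh.app _ ≪≫ e₀.symm
    refine ⟨W, 0 - b, 0 + -a, ⟨⟨x, hx₀⟩, hxV, rfl⟩,
      fun i => QCohLib.isCoh_of_iso ((DerivedCategory.homologyFunctor _ i).mapIso eA) (hc i),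
      fun i hi => ?_, ?_⟩
    · rcases hi with hi | hi
      · exact ((DerivedCategory.isGE_iff _ _).1 hge i hi).of_iso ((DerivedCategory.homologyFunctor _ i).mapIso eA.symm)
      · exact (hle i hi).of_iso ((DerivedCategory.homologyFunctor _ i).mapIso eA.symm)
    · have hg := ((homAG_of_free_terms (allGood_inD hG'.1 (isFlatOver_restrict W.ι hflat)) a b hPv hPf).good 0).of_iso
        ((DCoh.RSheafHom P).mapIso ((shiftFunctorZero _ ℤ).app _) ≪≫ eA)
      intro Z T _ _ i t _ _ φ _ hi hh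
      let l : Z ⟶ (W : Scheme.{u}) := IsOpenImmersion.lift W.ι i (by rwa [Scheme.Opens.range_ι])
      have hl' : l ≫ W.ι = i := IsOpenImmersion.lift_fac _ _ _
      haveI : IsOpenImmersion l := by
        haveI : IsOpenImmersion (l ≫ W.ι) := by rw [hl']; infer_instance
        exact IsOpenImmersion.of_comp l W.ι
      exact Bdd.of_iso ((DCoh.Rpush φ).mapIso (((RDComp l W.ι).app A).symm ≪≫ (RDCongr hl').app A))
        (hg Z T l t φ (by simp) (by rw [hh, ← Category.assoc, hl']))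
  choose W a b hxW hcoh hz hgood using key
  have hHD : ∀ (V : X.Opens) i, Nonempty (DCoh.HD ((RD V.ι).obj A) i ≅ (DCoh.HD A i).restrict V.ι) := fun V i =>
    ⟨(DQCPush.HDRestrictNatIso V.ι i).app A⟩
  have hA : DCoh.IsCohD A := fun i => QCohLib.isCoh_of_cover (fun x => (W x).ι) (fun x => ⟨x, ⟨x, hxW x⟩, rfl⟩)
    fun x => QCohLib.isCoh_of_iso (hHD (W x) i).some (hcoh x i)
  have hAs : ∀ i, CohB1.support (DCoh.HD A i) ⊆ CohB1.support G := fun i x hx => by
    by_contra hxG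
    let V : X.Opens := ⟨(CohB1.support G)ᶜ, hsupp.1.isOpen_compl⟩
    haveI := ModGroth.hasLTensorCx ((DCoh.restrictCx V).obj R)
    haveI := hasRSheafHom ((DCoh.restrictCx V).obj R)
    obtain ⟨eV⟩ := hres V
    have hGV : IsZero (G.restrict V.ι) := QCohLib.isZero_restrict_of_subsingleton_stalk V.ι fun w => by
      by_contra h
      exact w.2 h
    haveI : (DCoh.LTensorCx ((DCoh.restrictCx V).obj R)).Additive :=
      additive_of_adj (DCoh.RSheafHomAdj ((DCoh.restrictCx V).obj R))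
    haveI := ((DCoh.RSheafHomAdj ((DCoh.restrictCx V).obj R))).right_adjoint_additive
    have hzV : IsZero ((RD V.ι).obj A) := ((DCoh.RSheafHom _).map_isZero
      ((DerivedCategory.singleFunctor _ 0).map_isZero hGV)).of_iso eV
    exact hx ((QCohLib.subsingleton_restrict_stalk_iff V.ι _ (⟨x, hxG⟩ : (V : Scheme.{u}))).1
      (QCohLib.subsingleton_stalk_of_isZero ((Functor.map_isZero (DerivedCategory.homologyFunctor _ i) hzV).of_iso
        (hHD V i).some.symm) _))
  have hcpt : IsCompact (CohB1.support G) := by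
    obtain ⟨hc, hpr⟩ := id hsupp
    let I := Scheme.IdealSheafData.vanishingIdeal (⟨CohB1.support G, hc⟩ : Closeds X)
    haveI : IsProper (I.subschemeι ≫ f) := hpr
    haveI : CompactSpace I.subscheme := QuasiCompact.compactSpace_of_compactSpace (I.subschemeι ≫ f)
    have h := isCompact_range (I.subschemeι.continuous)
    rwa [Scheme.IdealSheafData.range_subschemeι, Scheme.IdealSheafData.coe_support_vanishingIdeal] at h
  obtain ⟨t, ht⟩ := hcpt.elim_finite_subcover (fun x => (W x : Set X)) (fun x => (W x).2)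
    fun x _ => Set.mem_iUnion.2 ⟨x, hxW x⟩
  obtain ⟨B, hB⟩ : ∃ B, ∀ x ∈ t, b x ≤ B :=
    (t.image b).bddAbove.imp fun B hB x hx => hB (Finset.mem_image_of_mem b hx)
  obtain ⟨A₀, hA₀⟩ : ∃ A₀, ∀ x ∈ t, A₀ ≤ a x :=
    (t.image a).bddBelow.imp fun B hB x hx => hB (Finset.mem_image_of_mem a hx)
  have hzero : ∀ i, (i < A₀ ∨ B < i) → IsZero (DCoh.HD A i) := fun i hi =>
    QCohLib.isZero_of_subsingleton_stalk fun x => by
      by_cases hxG : x ∈ CohB1.support G
      · obtain ⟨y, hy, hxy⟩ := Set.mem_iUnion₂.1 (ht hxG)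
        exact (QCohLib.subsingleton_restrict_stalk_iff (W y).ι _ (⟨x, hxy⟩ : (W y : Scheme.{u}))).1
          (QCohLib.subsingleton_stalk_of_isZero
            ((hz y i (by have := hB y hy; have := hA₀ y hy; omega)).of_iso (hHD (W y) i).some.symm) _)
      · by_contra h
        exact hxG (hAs i h)
  haveI : A.IsGE A₀ := (DerivedCategory.isGE_iff A A₀).2 fun i hi => hzero i (Or.inl hi)
  haveI : A.IsLE B := (DerivedCategory.isLE_iff A B).2 fun i hi => hzero i (Or.inr hi)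
  exact isPerfect_Rpush f A hA A₀ B _ hsupp hAs fun x => ⟨W x, hxW x, hgood x⟩

end Groth.Agent.DQC.RelAmp
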