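import Groth.Agent.DQC.RelAmpPerfect
import Groth.Agent.DCohPerf.Coherent
import Groth.Agent.ModGroth.PerfTensor
import Groth.Agent.TensorQCoh.Basic
import Groth.Agent.ModGroth.FinLocFree

/-!
# `Rf_*(E ⊗ᴸ G)` for perfect `E` and `G` flat over the base with proper support
-/

set_option autoImplicit false
set_option linter.style.haveILetI false

universe u

open CategoryTheory CategoryTheory.Limits AlgebraicGeometry TopologicalSpace HomologicalComplex

attribute [local instance] HasDerivedCategory.standard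

namespace Groth.Agent.DQC.RelAmp

open DCohPerf (rF rC RD RQ)

variable {X S : Scheme.{u}}

/-- `(- ⊗ G)|_W ≅ -|_W ⊗ G|_W`. -/
noncomputable def restrTensorRightIso (j : S ⟶ X) [IsOpenImmersion j] (G : X.Modules) :
    DCoh.tensorRightMod G ⋙ rF j ≅ rF j ⋙ DCoh.tensorRightMod (G.restrict j) :=
  NatIso.ofComponents (fun M => ModGroth.Perf.restrTensorIso j M G) fun {M N} a => by
    have h1 := (Scheme.Modules.restrictFunctorIsoPullback j).hom.naturality (((DCoh.tensorBi (X := X)).map a).app G)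
    have h2 := ModGroth.Stalk.mu_natL j a G
    simp only [Functor.comp_map] at h1 ⊢
    change (rF j).map (((DCoh.tensorBi (X := X)).map a).app G) ≫ _ = _ ≫ ((DCoh.tensorBi (X := S)).map ((rF j).map a)).app (G.restrict j)
    simp only [ModGroth.Perf.restrTensorIso, Iso.trans_hom, Iso.app_hom, Functor.mapIso_hom, asIso_hom, Iso.symm_hom,
      Category.assoc]
    rw [reassoc_of% h1, reassoc_of% h2, NatTrans.naturality]
    rw [← NatTrans.comp_app_assoc, ← Functor.map_comp]
    have h3 : (Scheme.Modules.pullback j).map a ≫ ((Scheme.Modules.restrictFunctorIsoPullback j).app N).inv =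
        ((Scheme.Modules.restrictFunctorIsoPullback j).app M).inv ≫ (rF j).map a :=
      (Scheme.Modules.restrictFunctorIsoPullback j).inv.naturality a
    rw [h3, Functor.map_comp, NatTrans.comp_app_assoc]

lemma stalk_subsingleton_tensor {P G : X.Modules} (x : X) (h : Subsingleton (G.presheaf.stalk x)) :
    IsZero ((DerSch.stalkFunctor X x).obj ((DCoh.tensorRightMod G).obj P)) := by
  refine IsZero.of_iso ?_ ((ModGroth.Stalk.tensorRightStalkIso x G).app P)
  haveI : Subsingleton ((DerSch.stalkFunctor X x).obj G) := h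
  refine @ModuleCat.isZero_of_subsingleton _ _ _ ⟨fun a b => ?_⟩
  have : ∀ z : TensorProduct (X.presheaf.stalk x) ((DerSch.stalkFunctor X x).obj P) ((DerSch.stalkFunctor X x).obj G),
      z = 0 := fun z => by
    induction z using TensorProduct.induction_on with
    | zero => rfl
    | tmul p g => rw [Subsingleton.elim g 0, TensorProduct.tmul_zero]
    | add c d hc hd => rw [hc, hd, add_zero]
  exact (this a).trans (this b).symm

variable (f : X ⟶ S) (G : X.Modules) [DCoh.HasLTensorMod G] (E : DCoh.D X)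

/-- A local model of `E ⊗ᴸ G`. -/
theorem exists_ltensor_model [IsLocallyNoetherian X] (hE : DCoh.IsPerfect E) (hG : Coh.IsCoh G)
    (hflat : FlatMod.IsFlatOver f G) (x : X) :
    ∃ W : X.Opens, x ∈ W ∧ ∃ (K : CochainComplex (W : Scheme.{u}).Modules ℤ) (a b : ℤ), DCoh.VanishesOutside K a b ∧
      (∀ i, Coh.IsCoh (K.X i)) ∧ (∀ i, FlatMod.IsFlatOver (W.ι ≫ f) (K.X i)) ∧
      (∀ (w : (W : Scheme.{u})) (i : ℤ), Subsingleton (G.presheaf.stalk w.1) →
        IsZero (((ModGroth.Stalk.stc w).obj K).homology i)) ∧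
      Nonempty (DCoh.toD (W : Scheme.{u}) K ≅ (RD W.ι).obj ((DCoh.LTensorMod G).obj E)) := by
  obtain ⟨W, hx, P, hP, ⟨eP⟩⟩ := (ModGroth.Perf.isPerfect_iff E).1 hE x
  obtain ⟨⟨a, b, hv⟩, hl⟩ := id hP
  obtain ⟨R, hR, -, ⟨eR⟩⟩ := ModGroth.Amp.exists_rep E
  let G' := G.restrict W.ι
  haveI := ModGroth.hasLTensorMod G'
  let K := (ModGroth.Amp.tcx G').obj P
  have hP' := ModGroth.Perf.isKFlat_of_isStrictlyPerfect hP
  have hR' := ModGroth.Perf.isKFlat_restrictCx W hR
  haveI : IsLocallyNoetherian (W : Scheme.{u}) := isLocallyNoetherian_of_isOpenImmersion W.ι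
  have hG' : Coh.IsCoh G' := HigherDirect.isCoh_restrict W.ι hG
  refine ⟨W, hx, K, a, b, fun i hi => (DCoh.tensorRightMod G').map_isZero (hv i hi), fun i => ?_, fun i => ?_,
    fun w i hw => ?_, ⟨?_⟩⟩
  · have hPi := DCohPerf.isCoh_finLocFree (hl i)
    haveI := hPi.1
    haveI := hG'.1
    exact ⟨TensorQCoh.isQuasicoherent_tensorMod (P.X i) G', TensorQCoh.isFiniteType_tensorMod (P.X i) G' hPi.2 hG'.2⟩
  · exact isFlatOver_tensor _ (ModGroth.Perf.isFlat_of_isFinLocFree (hl i)) (isFlatOver_restrict W.ι hflat)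
  · have hz : IsZero (((ModGroth.Stalk.stc w).obj K).X i) :=
      stalk_subsingleton_tensor w ((QCohLib.subsingleton_restrict_stalk_iff W.ι G w).2 hw)
    exact (exactAt_iff_isZero_homology _ _).1 (ShortComplex.exact_of_isZero_X₂ _ hz)
  · let R' := (DCoh.restrictCx W).obj R
    let c : (DCoh.restrictCx W).obj ((ModGroth.Amp.tcx G).obj R) ≅ (ModGroth.Amp.tcx G').obj R' :=
      (NatIso.mapHomologicalComplex (restrTensorRightIso W.ι G) (ComplexShape.up ℤ)).app R
    exact (ModGroth.ltensorValueIso G' hP').symm ≪≫ (DCoh.LTensorMod G').mapIso (eP.symm ≪≫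
        (ModGroth.Perf.rD W).mapIso eR.symm ≪≫ RQ W.ι R) ≪≫
      ModGroth.ltensorValueIso G' hR' ≪≫ DerivedCategory.Q.mapIso c.symm ≪≫ (RQ W.ι _).symm ≪≫
      (RD W.ι).mapIso ((ModGroth.ltensorValueIso G hR).symm ≪≫ (DCoh.LTensorMod G).mapIso eR)

theorem isPerfect_Rpush_ltensor [IsNoetherian S] [LocallyOfFiniteType f] [DCoh.HasRpush f]
    (hE : DCoh.IsPerfect E) (hG : Coh.IsCoh G) (hflat : FlatMod.IsFlatOver f G)
    (hsupp : ClSub.IsProperOver f (CohB1.support G)) :
    DCoh.IsPerfect ((DCoh.Rpush f).obj ((DCoh.LTensorMod G).obj E)) := by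
  classical
  haveI : IsLocallyNoetherian X := LocallyOfFiniteType.isLocallyNoetherian f
  let A := (DCoh.LTensorMod G).obj E
  choose W hxW K a b hv hK hKf hKs eK using exists_ltensor_model f G E hE hG hflat
  have hHD : ∀ x i, Nonempty ((K x).homology i ≅ (DCoh.HD A i).restrict (W x).ι) := fun x i =>
    ⟨((DerivedCategory.homologyFunctorFactors _ i).app (K x)).symm ≪≫
      (DerivedCategory.homologyFunctor _ i).mapIso (eK x).some ≪≫ (DQCPush.HDRestrictNatIso (W x).ι i).app A⟩
  have hA : DCoh.IsCohD A := fun i =>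
    QCohLib.isCoh_of_cover (fun x => (W x).ι) (fun x => ⟨x, ⟨x, hxW x⟩, rfl⟩) fun x =>
      QCohLib.isCoh_of_iso (hHD x i).some (DCohPerf.isCoh_homology (hK x) i)
  have hst : ∀ (x : X) (i : ℤ), IsZero ((((ModGroth.Stalk.stc (⟨x, hxW x⟩ : (W x : Scheme.{u}))).obj (K x))).homology i) →
      Subsingleton ((DCoh.HD A i).presheaf.stalk x) := fun x i hz => by
    have h1 : IsZero ((DerSch.stalkFunctor (W x : Scheme.{u}) ⟨x, hxW x⟩).obj ((K x).homology i)) :=
      hz.of_iso (((K x).sc i).mapHomologyIso (DerSch.stalkFunctor (W x : Scheme.{u}) ⟨x, hxW x⟩)).symm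
    have h2 : Subsingleton (((K x).homology i).presheaf.stalk ⟨x, hxW x⟩) := ModuleCat.subsingleton_of_isZero h1
    have h3 := ((QCohLib.isIso_iff_stalk_bijective (hHD x i).some.inv).mp inferInstance ⟨x, hxW x⟩).1.subsingleton
    exact (QCohLib.subsingleton_restrict_stalk_iff (W x).ι (DCoh.HD A i) ⟨x, hxW x⟩).1 h3
  have hAs : ∀ i, CohB1.support (DCoh.HD A i) ⊆ CohB1.support G := fun i x hx (hG0 : Subsingleton (G.presheaf.stalk x)) =>
    hx (hst x i (hKs x ⟨x, hxW x⟩ i hG0))
  have hcpt : IsCompact (CohB1.support G) := by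
    obtain ⟨hc, hpr⟩ := id hsupp
    let I := Scheme.IdealSheafData.vanishingIdeal (⟨CohB1.support G, hc⟩ : Closeds X)
    haveI : IsProper (I.subschemeι ≫ f) := hpr
    haveI : CompactSpace I.subscheme := QuasiCompact.compactSpace_of_compactSpace (I.subschemeι ≫ f)
    have h := isCompact_range (I.subschemeι.continuous)
    rwa [Scheme.IdealSheafData.range_subschemeι, Scheme.IdealSheafData.coe_support_vanishingIdeal] at h
  obtain ⟨t, ht⟩ := hcpt.elim_finite_subcover (fun x => (W x : Set X)) (fun x => (W x).2)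
    fun x _ => Set.mem_iUnion.2 ⟨x, hxW x⟩
  obtain ⟨B, hB⟩ : ∃ B, ∀ x ∈ t, b x ≤ B :=
    (t.image b).bddAbove.imp fun B hB x hx => hB (Finset.mem_image_of_mem b hx)
  obtain ⟨A₀, hA₀⟩ : ∃ A₀, ∀ x ∈ t, A₀ ≤ a x :=
    (t.image a).bddBelow.imp fun B hB x hx => hB (Finset.mem_image_of_mem a hx)
  have hzero : ∀ i, (i < A₀ ∨ B < i) → IsZero (DCoh.HD A i) := fun i hi =>
    QCohLib.isZero_of_subsingleton_stalk fun x => by
      by_cases hxG : x ∈ CohB1.support G
      · obtain ⟨y, hy, hxy⟩ := Set.mem_iUnion₂.1 (ht hxG)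
        have hz : IsZero ((DCoh.HD A i).restrict (W y).ι) :=
          ((exactAt_iff_isZero_homology _ _).1 (ShortComplex.exact_of_isZero_X₂ _
            (hv y i (by have := hB y hy; have := hA₀ y hy; omega)))).of_iso (hHD y i).some.symm
        exact (QCohLib.subsingleton_restrict_stalk_iff (W y).ι _ (⟨x, hxy⟩ : (W y : Scheme.{u}))).1
          (QCohLib.subsingleton_stalk_of_isZero hz _)
      · by_contra h
        exact hxG (hAs i h)
  haveI : A.IsGE A₀ := (DerivedCategory.isGE_iff A A₀).2 fun i hi => hzero i (Or.inl hi)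
  haveI : A.IsLE B := (DerivedCategory.isLE_iff A B).2 fun i hi => hzero i (Or.inr hi)
  exact isPerfect_Rpush f A hA A₀ B _ hsupp hAs fun x => ⟨W x, hxW x, locGood_of_model f A
    ⟨K x, a x, b x, hv x, fun i => (hK x i).1, hKf x, eK x⟩⟩

end Groth.Agent.DQC.RelAmp
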