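import Groth.Agent.DQC.RelAmp
import Groth.Agent.DQCPush.Unit
import Groth.Agent.DCohPerf.CohPC
import Groth.Agent.DCohPerf.Single
import Groth.Agent.ProperOver.Basic

/-!
# Direct images of relatively perfect complexes with proper support are perfect
-/

set_option autoImplicit false
set_option linter.style.haveILetI false

universe u

open CategoryTheory CategoryTheory.Limits CategoryTheory.Pretriangulated AlgebraicGeometry TopologicalSpace

attribute [local instance] HasDerivedCategory.standard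

namespace Groth.Agent.DQC.RelAmp

open DCohPerf (rF rC RD RQ RDComp RDCongr)

variable {X S : Scheme.{u}}

/-- A bounded model by quasi-coherent modules which are flat over the base. -/
def HasModel (g : X ⟶ S) (A : DCoh.D X) : Prop :=
  ∃ (K : CochainComplex X.Modules ℤ) (a b : ℤ), DCoh.VanishesOutside K a b ∧ (∀ i, Coh.IsQCoh (K.X i)) ∧
    (∀ i, FlatMod.IsFlatOver g (K.X i)) ∧ Nonempty (DCoh.toD X K ≅ A)

theorem HasModel.restrict {Y : Scheme.{u}} (j : Y ⟶ X) [IsOpenImmersion j] {g : X ⟶ S} {A : DCoh.D X}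
    (h : HasModel g A) : HasModel (j ≫ g) ((RD j).obj A) := by
  obtain ⟨K, a, b, hv, hq, hf, ⟨e⟩⟩ := h
  exact ⟨(rC j).obj K, a, b, fun i hi => (rF j).map_isZero (hv i hi), fun i => isQCoh_restrict j (hq i),
    fun i => isFlatOver_restrict j (hf i), ⟨(RQ j K).symm ≪≫ (RD j).mapIso e⟩⟩

theorem HasModel.of_iso {g : X ⟶ S} {A B : DCoh.D X} (e : A ≅ B) (h : HasModel g A) : HasModel g B := by
  obtain ⟨K, a, b, hv, hq, hf, ⟨e'⟩⟩ := h
  exact ⟨K, a, b, hv, hq, hf, ⟨e' ≪≫ e⟩⟩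

theorem HasModel.congr {g g' : X ⟶ S} (hg : g = g') {A : DCoh.D X} (h : HasModel g A) : HasModel g' A := hg ▸ h

/-- Direct images of models from affine schemes have bounded tor amplitude. -/
theorem bdd_of_model [IsAffine X] [IsAffine S] (g : X ⟶ S) [DCoh.HasRpush g] {A : DCoh.D X} (h : HasModel g A) :
    Bdd ((DCoh.Rpush g).obj A) := by
  obtain ⟨K, a, b, hv, hq, hf, ⟨e⟩⟩ := h
  haveI : IsAffineHom g := isAffineHom_of_isAffine _
  haveI := HigherDirect.hasInjectiveResolutions_modules X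
  have hb := DQCPush.bound_zero_of_isAffineHom g
  haveI hu := DQCPush.isIso_unit_of_bound g hb K hq fun n i hi => hb (K.X n) (hq n) i (by omega)
  let P := (Scheme.Modules.pushforward g).mapHomologicalComplex (ComplexShape.up ℤ)
  let eP : (DCoh.Rpush g).obj (DCoh.toD X K) ≅ DCoh.toD S (P.obj K) :=
    (DCoh.Rpush g).mapIso ((DerivedCategory.quotientCompQhIso _).app K).symm ≪≫
      (@asIso _ _ _ _ _ hu).symm ≪≫ (DerivedCategory.quotientCompQhIso _).app (P.obj K)
  exact Bdd.of_iso (eP.symm ≪≫ (DCoh.Rpush g).mapIso e) (bdd_of_flatAmp (a := a) (b := b)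
    ⟨P.obj K, fun i hi => (Scheme.Modules.pushforward g).map_isZero (hv i hi),
      fun i => isFlat_pushforward_affine g (hq i) (hf i), ⟨Iso.refl _⟩⟩)

/-- Over `W`, direct images to affine opens of the base from affine opens have bounded tor amplitude. -/
def LocGood (f : X ⟶ S) (A : DCoh.D X) (W : X.Opens) : Prop :=
  ∀ (Z T : Scheme.{u}) [IsAffine Z] [IsAffine T] (i : Z ⟶ X) (t : T ⟶ S) [IsOpenImmersion i] [IsOpenImmersion t]
    (h : Z ⟶ T) [DCoh.HasRpush h], Set.range i ⊆ (W : Set X) → h ≫ t = i ≫ f →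
    Bdd ((DCoh.Rpush h).obj ((RD i).obj A))

/-- Models give local goodness. -/
theorem locGood_of_model (f : X ⟶ S) (A : DCoh.D X) {W : X.Opens}
    (hm : HasModel (W.ι ≫ f) ((RD W.ι).obj A)) : LocGood f A W := by
  intro Z T _ _ i t _ _ h _ hi hh
  let k : Z ⟶ (W : Scheme.{u}) := IsOpenImmersion.lift W.ι i (by rwa [Scheme.Opens.range_ι])
  have hk : k ≫ W.ι = i := IsOpenImmersion.lift_fac _ _ _
  haveI : IsOpenImmersion k := by
    haveI : IsOpenImmersion (k ≫ W.ι) := by rw [hk]; infer_instance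
    exact IsOpenImmersion.of_comp k W.ι
  obtain ⟨K, a, b, hv, hq, hf, ⟨e⟩⟩ := hm.restrict k
  refine bdd_of_model h ⟨K, a, b, hv, hq, fun n => isFlatOver_of_comp h t ?_,
    ⟨e ≪≫ ((RDComp k W.ι).app A).symm ≪≫ (RDCongr hk).app A⟩⟩
  have hc : k ≫ W.ι ≫ f = h ≫ t := by rw [← Category.assoc, hk, hh]
  exact hc ▸ hf n

/-- Passage to an open of the base. -/
theorem bdd_restrict [IsNoetherian S] (f : X ⟶ S) [LocallyOfFiniteType f] (A : DCoh.D X) (C : Set X)
    (hCp : ClSub.IsProperOver f C) (hsupp : ∀ i : ℤ, CohB1.support (DCoh.HD A i) ⊆ C)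
    (hloc : ∀ x : X, ∃ W : X.Opens, x ∈ W ∧ LocGood f A W)
    (V : S.Opens) (hV : IsAffineOpen V) [DCoh.HasRpush (f ∣_ V)] :
    Bdd ((DCoh.Rpush (f ∣_ V)).obj ((RD (f ⁻¹ᵁ V).ι).obj A)) := by
  let g := f ∣_ V
  let j := (f ⁻¹ᵁ V).ι
  let A' := (RD j).obj A
  haveI : IsAffine (V : Scheme.{u}) := hV
  haveI : IsLocallyNoetherian (f ⁻¹ᵁ V : Scheme.{u}) := LocallyOfFiniteType.isLocallyNoetherian (j ≫ f)
  have hp := HigherDirect.isProperOver_preimage f hCp V
  have hcl : IsClosed (j ⁻¹' C) := hp.1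
  have hcpt : IsCompact (j ⁻¹' C) := by
    obtain ⟨hc, hpr⟩ := hp
    let I := Scheme.IdealSheafData.vanishingIdeal (⟨j ⁻¹' C, hc⟩ : Closeds (f ⁻¹ᵁ V : Scheme.{u}))
    haveI : IsProper (I.subschemeι ≫ g) := hpr
    haveI : CompactSpace I.subscheme := QuasiCompact.compactSpace_of_compactSpace (I.subschemeι ≫ g)
    have h := isCompact_range (I.subschemeι.continuous)
    rwa [Scheme.IdealSheafData.range_subschemeι, Scheme.IdealSheafData.coe_support_vanishingIdeal] at h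
  refine bdd_Rpush g A' hcl hcpt (fun i x hx => ?_) fun x => ?_
  · by_contra hne
    apply hx
    let e : DCoh.HD A' i ≅ (DCoh.HD A i).restrict j := (DQCPush.HDRestrictNatIso j i).app A
    have hz : Subsingleton ((DCoh.HD A i).presheaf.stalk (j x)) := not_not.1 fun h => hne (hsupp i h)
    have := (QCohLib.subsingleton_restrict_stalk_iff j (DCoh.HD A i) x).2 hz
    exact ((QCohLib.isIso_iff_stalk_bijective e.hom).mp inferInstance x).1.subsingleton
  · obtain ⟨W, hxW, hW⟩ := hloc (j x)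
    refine ⟨j ⁻¹ᵁ W, hxW, fun U hU hUaff => ?_⟩
    haveI : IsAffine (U : Scheme.{u}) := hUaff
    haveI := DQCPush.hasRpush (U.ι ≫ g)
    refine Bdd.of_iso ((DCoh.Rpush (U.ι ≫ g)).mapIso ((RDComp U.ι j).app A))
      (hW U V (U.ι ≫ j) V.ι (U.ι ≫ g) ?_ ?_)
    · rintro _ ⟨y, rfl⟩
      exact hU y.2
    · rw [Category.assoc, Category.assoc, morphismRestrict_ι]

/-- The direct image is perfect. -/
theorem isPerfect_Rpush [IsNoetherian S] (f : X ⟶ S) [LocallyOfFiniteType f] [DCoh.HasRpush f] (A : DCoh.D X)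
    (hA : DCoh.IsCohD A) (a b : ℤ) [A.IsGE a] [A.IsLE b] (C : Set X)
    (hCp : ClSub.IsProperOver f C) (hsupp : ∀ i : ℤ, CohB1.support (DCoh.HD A i) ⊆ C)
    (hloc : ∀ x : X, ∃ W : X.Opens, x ∈ W ∧ LocGood f A W) :
    DCoh.IsPerfect ((DCoh.Rpush f).obj A) := by
  haveI : IsLocallyNoetherian X := LocallyOfFiniteType.isLocallyNoetherian f
  have hp : ∀ i, ClSub.IsProperOver f (CohB1.support (DCoh.HD A i)) := fun i =>
    ProperOver.mono hCp (QCohLib.isClosed_support (hA i).2) (hsupp i)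
  let R := (DCoh.Rpush f).obj A
  have hR : DCoh.IsCohD R := DQCPush.isCohD_Rpush_of_isGE f A a hA hp
  obtain ⟨b', hb'⟩ := DQCPush.exists_isLE_Rpush f A a b hA hp
  haveI := DQCPush.isGE_Rpush f A a
  have hpc : ∀ m, DCoh.IsPseudoCoherentD m R := fun m =>
    DCohPerf.isPC_of_dbCoh ⟨hR, a, b', inferInstance, hb'⟩ m
  refine DCohPerf.isPerfect_of_locally fun s => ?_
  obtain ⟨V, hV, hsV, -⟩ := exists_isAffineOpen_mem_and_subset (TopologicalSpace.Opens.mem_top s)
  refine ⟨V, V.ι, inferInstance, ⟨s, hsV⟩, rfl, ?_⟩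
  haveI := DQCPush.hasRpush (f ∣_ V)
  haveI : PreservesFiniteLimits (Scheme.Modules.restrictFunctor V.ι) := CxOX.preservesFiniteLimits_restrictFunctor _
  haveI : PreservesFiniteLimits (Scheme.Modules.restrictFunctor (f ⁻¹ᵁ V).ι) := CxOX.preservesFiniteLimits_restrictFunctor _
  obtain ⟨e⟩ := DQCPush.nonempty_Rpush_restrict_iso f V
  obtain ⟨c, d, h⟩ := Bdd.of_iso (e.app A).symm (bdd_restrict f A C hCp hsupp hloc V hV)
  exact DCohPerf.isPerfect_of_flatAmp (DCohPerf.isPC_restrict (hpc (c - 1)) V.ι)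
    (ModGroth.Amp.flatAmp_of_van (a := c) (b := d) h)

end Groth.Agent.DQC.RelAmp
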