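import Groth.Agent.ModGroth.AmpDescent
import Groth.Agent.ModGroth.PushStalk
import Groth.Agent.QCohLib.Criterion

/-!
# Tor amplitude is detected by quasi-coherent modules
-/

set_option autoImplicit false
set_option linter.style.haveILetI false

universe u

open CategoryTheory CategoryTheory.Limits AlgebraicGeometry HomologicalComplex

attribute [local instance] HasDerivedCategory.standard

namespace Groth.Agent.DQC

open ModGroth

lemma restrict_surj {A B : Type u} [CommRing A] [CommRing B] (φ : A →+* B) (hφ : Function.Bijective φ)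
    (F : ModuleCat.{u} A) : ∃ N : ModuleCat.{u} B, Nonempty ((ModuleCat.restrictScalars φ).obj N ≅ F) := by
  let e := RingEquiv.ofBijective φ hφ
  have h : RingHom.id A = e.symm.toRingHom.comp φ := RingHom.ext fun r => (e.symm_apply_apply r).symm
  exact ⟨(ModuleCat.restrictScalars e.symm.toRingHom).obj F,
    ⟨(ModuleCat.restrictScalarsComp'App φ e.symm.toRingHom (RingHom.id A) h F).symm ≪≫
      (ModuleCat.restrictScalarsId A).app F⟩⟩

lemma nonempty_extend_restrict {R : CommRingCat.{u}} (x : Spec R) (N : ModuleCat.{u} ((Spec R).presheaf.stalk x)) :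
    Nonempty ((ModuleCat.extendScalars.{u, u, u} (Stalk.toStk x)).obj
      ((ModuleCat.restrictScalars (Stalk.toStk x)).obj N) ≅ N) := by
  letI := (Stalk.toStk x).toAlgebra
  haveI : IsLocalization.AtPrime ((Spec R).presheaf.stalk x) x.asIdeal := StructureSheaf.IsLocalization.to_stalk R x
  letI : Module R N := Module.compHom N (Stalk.toStk x)
  haveI : IsScalarTower R ((Spec R).presheaf.stalk x) N := IsScalarTower.of_algebraMap_smul fun r m => rfl
  exact ⟨(IsLocalization.moduleLid x.asIdeal.primeCompl ((Spec R).presheaf.stalk x) N).toModuleIso⟩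

variable {X : Scheme.{u}}

/-- Every stalk of a module is the stalk of a quasi-coherent one, on a quasi-separated scheme. -/
theorem exists_qcoh_stalk [QuasiSeparatedSpace ↥X] (x : X) (F : X.Modules) :
    ∃ F' : X.Modules, Coh.IsQCoh F' ∧
      Nonempty ((DerSch.stalkFunctor X x).obj F' ≅ (DerSch.stalkFunctor X x).obj F) := by
  obtain ⟨V, hV, hx, -⟩ := exists_isAffineOpen_mem_and_subset (U := ⊤) (TopologicalSpace.Opens.mem_top x)
  obtain ⟨p, rfl⟩ : ∃ p, hV.fromSpec.base p = x :=
    (show x ∈ Set.range hV.fromSpec.base by rw [hV.range_fromSpec]; exact hx)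
  obtain ⟨N, ⟨eN⟩⟩ := restrict_surj (hV.fromSpec.stalkMap p).hom
    (ConcreteCategory.bijective_of_isIso (hV.fromSpec.stalkMap p)) ((DerSch.stalkFunctor X _).obj F)
  obtain ⟨eL⟩ := nonempty_extend_restrict p N
  let M : (Spec Γ(X, V)).Modules := (tilde.functor Γ(X, V)).obj ((ModuleCat.restrictScalars (Stalk.toStk p)).obj N)
  haveI : M.IsQuasicoherent := QCohLib.isQuasicoherent_tilde_obj _
  haveI : QuasiCompact hV.fromSpec := QuasiCompact.of_comp hV.fromSpec (terminal.from X)
  refine ⟨(Scheme.Modules.pushforward hV.fromSpec).obj M, QCohLib.isQuasicoherent_pushforward _, ⟨?_⟩⟩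
  exact (PushStalk.pushStalkIso hV.fromSpec hV.fromSpec.isOpenEmbedding.isInducing p).app M ≪≫
    (ModuleCat.restrictScalars _).mapIso ((Stalk.tildeStalkIso p).app _ ≪≫ eL) ≪≫ eN

/-- Tor amplitude from quasi-coherent test modules. -/
theorem hasTor_of_qcoh_test [QuasiSeparatedSpace ↥X] (E : DCoh.D X) (a b : ℤ)
    (h : ∀ (F : X.Modules), Coh.IsQCoh F → ∀ [DCoh.HasLTensorMod F] (i : ℤ), (i < a ∨ b < i) →
      IsZero (DCoh.HD ((DCoh.LTensorMod F).obj E) i)) : DCoh.HasTorAmplitudeIn a b E := by
  refine (Amp.hasTor_iff a b E).2 fun F i hi => ?_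
  obtain ⟨K, hK, -, ⟨e⟩⟩ := Amp.exists_rep E
  refine (Amp.van_iff F hK e i).2 ?_
  rw [exactAt_iff_isZero_homology]
  refine Stalk.isZero_homology_of_stc _ i fun x => ?_
  rw [← exactAt_iff_isZero_homology, exactAt_iff]
  obtain ⟨F', hF', ⟨eF⟩⟩ := exists_qcoh_stalk x F
  have h' : ((Amp.tcx F').obj K).ExactAt i :=
    (Amp.van_iff F' hK e i).1 (@h F' hF' (hasLTensorMod F') i hi)
  exact (ShortComplex.exact_iff_of_iso ((K.sc i).mapNatIso (Stalk.tensorRightStalkIso x F' ≪≫
    Functor.isoWhiskerLeft _ ((MonoidalCategory.tensoringRight _).mapIso eF) ≪≫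
    (Stalk.tensorRightStalkIso x F).symm))).1
    (ShortComplex.Exact.map ((exactAt_iff _ _).1 h') (DerSch.stalkFunctor X x))

end Groth.Agent.DQC
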